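import Mathlib.GroupTheory.SpecificGroups.Alternating
import Mathlib.GroupTheory.Perm.Sign
import Mathlib.GroupTheory.Sylow
import Mathlib.Algebra.Group.Pointwise.Set.Basic

/-!
Interfaces for the three-local characterisation of the symmetric group on eight points.

`Base` records what the local hypotheses give: `φ` is the component of the centraliser of
`z = ψ c` isomorphic to the symmetric group on five points, and `ψ` is its conjugate, the component
of the centraliser of `w = φ c`. `EmbEight` is an embedded symmetric group on eight points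
containing the needed local subgroups.
-/

set_option autoImplicit false

namespace CfsgLib.SymEightThree

open Equiv

/-- `(0 1 2)` -/
def c5 : Perm (Fin 5) := swap 0 1 * swap 1 2
/-- `(3 4)` -/
def r5 : Perm (Fin 5) := swap 3 4
/-- `(0 1)` -/
def a5 : Perm (Fin 5) := swap 0 1
/-- `(0 1)(3 4)` -/
def b5 : Perm (Fin 5) := swap 0 1 * swap 3 4

/-- The four-group on the four points other than `k`. -/
def fourSet (k : Fin 5) : Set (Perm (Fin 5)) :=
  {x | x ^ 2 = 1 ∧ Perm.sign x = 1 ∧ x k = k}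

/-- The local data. -/
structure Base (G : Type*) [Group G] where
  φ : Perm (Fin 5) →* G
  inj : Function.Injective φ
  g : G
  σ : Perm (Fin 5)
  σ_cases : σ = a5 ∨ σ = b5
  /-- conjugation by `g` takes the range of `φ` to that of `ψ` -/
  g_range : φ.range.map (MulAut.conj g).toMonoidHom = φ.range.map (MulAut.conj g⁻¹).toMonoidHom
  g_r : g⁻¹ * φ r5 * g = φ r5
  comm_c : ∀ x, Commute (g⁻¹ * φ c5 * g) (φ x)
  comm_σ : ∀ x, Commute (g⁻¹ * φ σ * g) (φ x)
  c_not_mem : g⁻¹ * φ c5 * g ∉ φ.range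
  centz : Subgroup.centralizer ({g⁻¹ * φ c5 * g} : Set G) ≤
    Subgroup.zpowers (g⁻¹ * φ c5 * g) ⊔ φ.range
  normz : Subgroup.normalizer (Subgroup.zpowers (g⁻¹ * φ c5 * g) : Set G) ≤
    Subgroup.closure {g⁻¹ * φ c5 * g, g⁻¹ * φ σ * g} ⊔ φ.range
  card_y : Nat.card (Subgroup.centralizer ({(g⁻¹ * φ c5 * g) * φ c5} : Set G)) = 36
  sq_y : ∀ x ∈ Subgroup.centralizer ({(g⁻¹ * φ c5 * g) * φ c5} : Set G),
    x ^ 2 ∈ Subgroup.closure ({g⁻¹ * φ c5 * g, φ c5} : Set G)
  not_dvd : ¬ 27 ∣ Nat.card G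

namespace Base

variable {G : Type*} [Group G] (b : Base G)

/-- The other component. -/
def ψ : Perm (Fin 5) →* G := (MulAut.conj b.g⁻¹).toMonoidHom.comp b.φ

theorem ψ_apply (x : Perm (Fin 5)) : b.ψ x = b.g⁻¹ * b.φ x * b.g := by simp [ψ]

theorem ψ_injective : Function.Injective b.ψ := (MulAut.conj b.g⁻¹).injective.comp b.inj

theorem ψ_range : b.ψ.range = b.φ.range.map (MulAut.conj b.g⁻¹).toMonoidHom := by
  rw [ψ, MonoidHom.range_comp]

theorem conj_g_ψ (x : Perm (Fin 5)) : b.g * b.ψ x * b.g⁻¹ = b.φ x := by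
  simp [ψ_apply, mul_assoc]

theorem ψ_r : b.ψ r5 = b.φ r5 := by rw [ψ_apply]; exact b.g_r

theorem ψc_comm (x : Perm (Fin 5)) : Commute (b.ψ c5) (b.φ x) := by
  rw [ψ_apply]; exact b.comm_c x

theorem ψσ_comm (x : Perm (Fin 5)) : Commute (b.ψ b.σ) (b.φ x) := by
  rw [ψ_apply]; exact b.comm_σ x

/-- Case of the symmetric group on eight points: the four-groups on complementary blocks commute. -/
def IsSym : Prop :=
  b.σ = a5 ∧ ∀ x ∈ fourSet 4, ∀ y ∈ fourSet 3, Commute (b.φ x) (b.ψ y)

/-- The exceptional case: the two alternating components commute. -/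
def IsExc : Prop :=
  b.σ = b5 ∧ ∀ x y, Perm.sign x = 1 → Perm.sign y = 1 → Commute (b.φ x) (b.ψ y)

end Base

/-- An embedded symmetric group on eight points with the local subgroups. -/
structure EmbEight (G : Type*) [Group G] where
  φ : Perm (Fin 8) →* G
  inj : Function.Injective φ
  not_dvd : ¬ 27 ∣ Nat.card G
  le_z : Subgroup.normalizer (Subgroup.zpowers (φ (swap 0 1 * swap 1 2)) : Set G) ≤ φ.range
  le_y : Subgroup.centralizer ({φ (swap 0 1 * swap 1 2 * (swap 5 6 * swap 6 7))} : Set G) ≤ φ.range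
  le_four : Subgroup.centralizer
    ({φ (swap 4 5 * swap 6 7), φ (swap 4 6 * swap 5 7)} : Set G) ≤ φ.range

end CfsgLib.SymEightThree
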