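import Cfsg.Agent.Lib.SymEightThree.ExcFacts
import Mathlib.GroupTheory.Sylow
import Mathlib.GroupTheory.PGroup
import Mathlib.Algebra.Group.Commute.Basic

/-!
A finite group containing the exceptional model together with the centralisers of its elements of
order three and of a four-group: the classes of elements of order three and of involutions.
-/

set_option autoImplicit false
set_option linter.style.haveILetI false

namespace CfsgLib.SymEightThree.Model

open Subgroup Equiv

/-- The embedded model with the local subgroups. -/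
structure Data (G : Type*) [Group G] where
  ψ : ↥W0 →* G
  inj : Function.Injective ψ
  not_dvd : ¬ 27 ∣ Nat.card G
  le_zL : centralizer ({ψ ⟨zL, by decide⟩} : Set G) ≤ ψ.range
  le_zR : centralizer ({ψ ⟨zR, by decide⟩} : Set G) ≤ ψ.range
  le_zz : centralizer ({ψ ⟨zz, by decide⟩} : Set G) ≤ ψ.range
  le_four : centralizer ({ψ ⟨tR, by decide⟩, ψ ⟨vR, by decide⟩} : Set G) ≤ ψ.range

namespace Data

variable {G : Type*} [Group G] (e : Data G)

/-- The image of an element of the model. -/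
def im (p : W) : G := if h : p ∈ W0 then e.ψ ⟨p, h⟩ else 1

theorem im_eq {p : W} (h : p ∈ W0) : e.im p = e.ψ ⟨p, h⟩ := dif_pos h

theorem im_one : e.im 1 = 1 := by rw [e.im_eq (one_mem _)]; exact map_one e.ψ

theorem im_mul {p q : W} (hp : p ∈ W0) (hq : q ∈ W0) : e.im (p * q) = e.im p * e.im q := by
  rw [e.im_eq hp, e.im_eq hq, e.im_eq (mul_mem hp hq), ← map_mul]; rfl

theorem im_inv {p : W} (hp : p ∈ W0) : e.im p⁻¹ = (e.im p)⁻¹ := by
  rw [e.im_eq hp, e.im_eq (inv_mem hp), ← map_inv]; rfl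

theorem im_pow {p : W} (hp : p ∈ W0) (n : ℕ) : e.im (p ^ n) = e.im p ^ n := by
  rw [e.im_eq hp, e.im_eq (pow_mem hp n), ← map_pow]; rfl

theorem im_zpow {p : W} (hp : p ∈ W0) (n : ℤ) : e.im (p ^ n) = e.im p ^ n := by
  rw [e.im_eq hp, e.im_eq (zpow_mem hp n), ← map_zpow]; rfl

theorem im_conj {c p : W} (hc : c ∈ W0) (hp : p ∈ W0) :
    e.im (c * p * c⁻¹) = e.im c * e.im p * (e.im c)⁻¹ := by
  rw [e.im_mul (mul_mem hc hp) (inv_mem hc), e.im_mul hc hp, e.im_inv hc]

theorem im_inj {p q : W} (hp : p ∈ W0) (hq : q ∈ W0) (h : e.im p = e.im q) : p = q := by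
  rw [e.im_eq hp, e.im_eq hq] at h
  exact congrArg Subtype.val (e.inj h)

theorem im_eq_one {p : W} (hp : p ∈ W0) (h : e.im p = 1) : p = 1 :=
  e.im_inj hp (one_mem _) (h.trans e.im_one.symm)

theorem im_mem (p : W) : e.im p ∈ e.ψ.range := by
  unfold im
  split_ifs with h
  · exact ⟨_, rfl⟩
  · exact one_mem _

theorem exists_im {x : G} (hx : x ∈ e.ψ.range) : ∃ p ∈ W0, e.im p = x := by
  obtain ⟨⟨p, hp⟩, rfl⟩ := hx
  exact ⟨p, hp, e.im_eq hp⟩

theorem commute_of_im {p q : W} (hp : p ∈ W0) (hq : q ∈ W0) (h : Commute (e.im p) (e.im q)) :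
    p * q = q * p :=
  e.im_inj (mul_mem hp hq) (mul_mem hq hp) (by rw [e.im_mul hp hq, e.im_mul hq hp]; exact h)

theorem im_commute {p q : W} (hp : p ∈ W0) (hq : q ∈ W0) (h : p * q = q * p) :
    Commute (e.im p) (e.im q) := by
  show _ * _ = _ * _
  rw [← e.im_mul hp hq, ← e.im_mul hq hp, h]

/-- Containment of a centraliser in the image is invariant under conjugation by the model. -/
theorem cent_le_conj {c p : W} (hc : c ∈ W0) (hp : p ∈ W0)
    (h : centralizer ({e.im p} : Set G) ≤ e.ψ.range) :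
    centralizer ({e.im (c * p * c⁻¹)} : Set G) ≤ e.ψ.range := by
  intro x hx
  rw [mem_centralizer_singleton_iff, e.im_conj hc hp] at hx
  have hy : (e.im c)⁻¹ * x * e.im c ∈ centralizer ({e.im p} : Set G) := by
    rw [mem_centralizer_singleton_iff]
    calc (e.im c)⁻¹ * x * e.im c * e.im p
        = (e.im c)⁻¹ * (x * (e.im c * e.im p * (e.im c)⁻¹)) * e.im c := by group
      _ = (e.im c)⁻¹ * ((e.im c * e.im p * (e.im c)⁻¹) * x) * e.im c := by rw [hx]
      _ = e.im p * ((e.im c)⁻¹ * x * e.im c) := by group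
  have := mul_mem (mul_mem (e.im_mem c) (h hy)) (inv_mem (e.im_mem c))
  simpa [mul_assoc] using this

theorem conj_cases_three {p : W} (hp : p ∈ W0) (h3 : p ^ 3 = 1) (h1 : p ≠ 1) :
    ∃ c ∈ W0, c * p * c⁻¹ = zL ∨ c * p * c⁻¹ = zR ∨ c * p * c⁻¹ = zz := by
  obtain ⟨a, b, f⟩ := p
  cases f
  case true =>
    exfalso
    have := congrArg W.f h3
    rw [pow_succ, pow_two] at this
    exact Bool.noConfusion this
  have h3' : a ^ 3 = 1 ∧ b ^ 3 = 1 := by
    rw [pow_succ, pow_two] at h3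
    exact ⟨by have := congrArg W.a h3; rwa [pow_succ, pow_two],
      by have := congrArg W.b h3; rwa [pow_succ, pow_two]⟩
  rcases perm_three a h3'.1 with ha | ⟨c, hc, hca⟩ <;>
    rcases perm_three b h3'.2 with hb | ⟨d, hd, hdb⟩
  · exact absurd (by rw [ha, hb]; rfl) h1
  · refine ⟨⟨1, d, false⟩, mem_W0.mpr (by simp [hd]), Or.inr (Or.inl ?_)⟩
    simp [W.mul_def, W.inv_def, zR, ha, hdb]
  · refine ⟨⟨c, 1, false⟩, mem_W0.mpr (by simp [hc]), Or.inl ?_⟩
    simp [W.mul_def, W.inv_def, zL, hb, hca]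
  · refine ⟨⟨c, d, false⟩, mem_W0.mpr (by simp [hc, hd]), Or.inr (Or.inr ?_)⟩
    simp [W.mul_def, W.inv_def, zz, hca, hdb]

/-- The centraliser of every element of order three of the model lies in the image. -/
theorem cent_three {p : W} (hp : p ∈ W0) (h3 : p ^ 3 = 1) (h1 : p ≠ 1) :
    centralizer ({e.im p} : Set G) ≤ e.ψ.range := by
  obtain ⟨c, hc, h⟩ := conj_cases_three hp h3 h1
  have hp' : p = c⁻¹ * (c * p * c⁻¹) * c⁻¹⁻¹ := by group
  rw [hp']
  refine e.cent_le_conj (inv_mem hc) (mul_mem (mul_mem hc hp) (inv_mem hc)) ?_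
  rcases h with h | h | h <;> rw [h, e.im_eq (by decide)]
  exacts [e.le_zL, e.le_zR, e.le_zz]

/-- The elements `(c5, 1)` and `(c5, c5)` are not conjugate. -/
theorem not_conj_zz {q : W} (hq : q = zz ∨ q = zz * zz) (g : G) :
    g * e.im zL * g⁻¹ ≠ e.im q := by
  intro h
  let f : W := ⟨1, swap 0 1 * swap 1 2 * swap 2 3 * swap 3 4, false⟩
  have hqW : q ∈ W0 := by rcases hq with rfl | rfl <;> decide
  have hfW : f ∈ W0 := by decide
  have hzW : zL ∈ W0 := by decide
  set x := g * e.im f * g⁻¹ with hx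
  have hxq : x ∈ centralizer ({e.im q} : Set G) := by
    rw [mem_centralizer_singleton_iff, ← h, hx]
    have hc := (e.im_commute hfW hzW (by decide)).eq
    calc g * e.im f * g⁻¹ * (g * e.im zL * g⁻¹) = g * (e.im f * e.im zL) * g⁻¹ := by group
      _ = g * (e.im zL * e.im f) * g⁻¹ := by rw [hc]
      _ = g * e.im zL * g⁻¹ * (g * e.im f * g⁻¹) := by group
  obtain ⟨p, hp, hpx⟩ := e.exists_im (e.cent_three hqW
    (by rcases hq with rfl | rfl <;> decide) (by rcases hq with rfl | rfl <;> decide) hxq)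
  have h5 : p ^ 5 = 1 := e.im_inj (pow_mem hp 5) (one_mem _) (by
    rw [e.im_pow hp, hpx, hx, conj_pow, ← e.im_pow hfW,
      show f ^ 5 = 1 by decide +kernel, e.im_one, mul_one, mul_inv_cancel])
  have hcom : p * q = q * p := e.commute_of_im hp hqW (by
    rw [hpx]; exact mem_centralizer_singleton_iff.mp hxq)
  have hp1 : p ≠ 1 := by
    rintro rfl
    rw [e.im_one, hx, eq_comm, conj_eq_one_iff] at hpx
    exact absurd (e.im_eq_one hfW hpx) (by decide)
  obtain ⟨a, b, f'⟩ := p
  cases f'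
  case true =>
    have := congrArg W.f h5
    rw [pow_succ, pow_succ, pow_succ, pow_two] at this
    exact Bool.noConfusion this
  have ha5 : a ^ 5 = 1 ∧ b ^ 5 = 1 := by
    rw [pow_succ, pow_succ, pow_succ, pow_two] at h5
    exact ⟨by have := congrArg W.a h5; rwa [pow_succ, pow_succ, pow_succ, pow_two],
      by have := congrArg W.b h5; rwa [pow_succ, pow_succ, pow_succ, pow_two]⟩
  have key : ∀ a : Perm (Fin 5), a * (c5 * c5) = c5 * c5 * a → a * c5 = c5 * a := by
    decide +kernel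
  have hab : a * c5 = c5 * a ∧ b * c5 = c5 * b := by
    rcases hq with rfl | rfl
    · exact ⟨congrArg W.a hcom, congrArg W.b hcom⟩
    · exact ⟨key a (congrArg W.a hcom), key b (congrArg W.b hcom)⟩
  exact hp1 (by rw [perm_c5_five a hab.1 ha5.1, perm_c5_five b hab.2 ha5.2]; rfl)

include e in
/-- Two commuting elements of order three centralising `i` are moved into the centraliser of an
element of order three centralising `i`. -/
theorem exists_conj_into [Finite G] {i c d₁ d₂ : G} (hc : Commute c i) (hc3 : c ^ 3 = 1)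
    (h₁ : Commute d₁ i) (h₂ : Commute d₂ i) (h₁3 : d₁ ^ 3 = 1) (h₂3 : d₂ ^ 3 = 1)
    (h₁₂ : Commute d₁ d₂) :
    ∃ h, Commute h i ∧ Commute (h * d₁ * h⁻¹) c ∧ Commute (h * d₂ * h⁻¹) c := by
  haveI : Fact (Nat.Prime 3) := ⟨Nat.prime_three⟩
  set C := centralizer ({i} : Set G) with hC
  let c' : C := ⟨c, mem_centralizer_singleton_iff.mpr hc.eq⟩
  let a : C := ⟨d₁, mem_centralizer_singleton_iff.mpr h₁.eq⟩
  let b : C := ⟨d₂, mem_centralizer_singleton_iff.mpr h₂.eq⟩
  have hS : IsPGroup 3 (zpowers c') := fun x => ⟨1, by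
    obtain ⟨k, hk⟩ := mem_zpowers_iff.mp x.2
    have : c' ^ 3 = 1 := Subtype.ext hc3
    refine Subtype.ext ?_
    rw [SubmonoidClass.coe_pow, ← hk, pow_one, ← zpow_natCast, zpow_comm, zpow_natCast, this,
      one_zpow]
    rfl⟩
  have hab : Commute a b := Subtype.ext h₁₂.eq
  have hT : IsPGroup 3 (closure ({a, b} : Set C)) := by
    haveI : IsMulCommutative (closure ({a, b} : Set C)) := isMulCommutative_closure (by
      rintro x (rfl | rfl) y (rfl | rfl)
      · rfl
      · exact hab.eq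
      · exact hab.eq.symm
      · rfl)
    refine fun x => ⟨1, Subtype.ext ?_⟩
    rw [SubmonoidClass.coe_pow, pow_one]
    induction x using Subtype.recOn with
    | mk x hx =>
      induction hx using closure_induction with
      | mem y hy =>
        rcases hy with rfl | rfl
        · exact Subtype.ext h₁3
        · exact Subtype.ext h₂3
      | one => exact one_pow 3
      | mul y z hy hz ihy ihz =>
        have hyz : Commute y z := congrArg Subtype.val (mul_comm' (⟨y, hy⟩ :
          closure ({a, b} : Set C)) ⟨z, hz⟩)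
        rw [hyz.mul_pow, ihy, ihz]; exact mul_one _
      | inv y hy ih => rw [inv_pow, ih]; exact inv_one
  obtain ⟨P, hP⟩ := hS.exists_le_sylow
  obtain ⟨Q, hQ⟩ := hT.exists_le_sylow
  obtain ⟨h, hh⟩ := MulAction.exists_smul_eq C Q P
  have hcard : Nat.card (P : Subgroup C) ∣ 9 := by
    obtain ⟨k, hk⟩ := P.2.exists_card_eq
    rw [hk]
    rcases Nat.lt_or_ge k 3 with h' | h'
    · exact (pow_dvd_pow 3 (show k ≤ 2 by omega))
    · exact absurd (((pow_dvd_pow 3 h').trans (hk ▸ card_subgroup_dvd_card (P : Subgroup C))).trans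
        (card_subgroup_dvd_card C)) e.not_dvd
  have hcomm : IsMulCommutative (P : Subgroup C) := by
    rcases (Nat.dvd_prime_pow Nat.prime_three).mp (show Nat.card (P : Subgroup C) ∣ 3 ^ 2 from hcard)
      with ⟨k, hk, hk'⟩
    interval_cases k
    · haveI : Subsingleton (P : Subgroup C) := (Nat.card_eq_one_iff_unique.mp hk').1
      exact ⟨⟨fun x y => Subsingleton.elim _ _⟩⟩
    · exact haveI := isCyclic_of_prime_card (p := 3) hk'; IsCyclic.isMulCommutative
    · exact ⟨⟨IsPGroup.commutative_of_card_eq_prime_sq hk'⟩⟩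
  have hmove : ∀ x ∈ (Q : Subgroup C), h * x * h⁻¹ ∈ (P : Subgroup C) := fun x hx => by
    rw [← hh]; exact ⟨x, hx, rfl⟩
  refine ⟨h, mem_centralizer_singleton_iff.mp h.2, ?_, ?_⟩
  · exact congrArg (fun x : C => (x : G)) (congrArg Subtype.val (hcomm.is_comm.comm
      ⟨_, hmove a (hQ (subset_closure (Or.inl rfl)))⟩ ⟨c', hP (mem_zpowers c')⟩))
  · exact congrArg (fun x : C => (x : G)) (congrArg Subtype.val (hcomm.is_comm.comm
      ⟨_, hmove b (hQ (subset_closure (Or.inr rfl)))⟩ ⟨c', hP (mem_zpowers c')⟩))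

theorem conj_cases_invol {p : W} (hp : p ∈ W0) (h2 : p * p = 1) (h1 : p ≠ 1) :
    ∃ c ∈ W0, c * p * c⁻¹ = tR ∨ c * p * c⁻¹ = tt ∨ c * p * c⁻¹ = ee ∨ c * p * c⁻¹ = ss ∨
      c * p * c⁻¹ = ee * ss := by
  obtain ⟨a, b, f⟩ := p
  cases f
  case false =>
    have h2' : a * a = 1 ∧ b * b = 1 := ⟨congrArg W.a h2, congrArg W.b h2⟩
    have hs : Perm.sign a * Perm.sign b = 1 := hp
    rcases perm_invol a h2'.1 with ha | ⟨sa, c, hc, hca⟩ | ⟨sa, c, hc, hca⟩ <;>
      rcases perm_invol b h2'.2 with hb | ⟨sb, d, hd, hdb⟩ | ⟨sb, d, hd, hdb⟩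
    · exact absurd (by rw [ha, hb]; rfl) h1
    · refine ⟨⟨1, d, false⟩, mem_W0.mpr (by simp [hd]), Or.inl ?_⟩
      simp [W.mul_def, W.inv_def, tR, ha, hdb]
    · rw [ha, sb] at hs; simp at hs
    · refine ⟨⟨1, c, true⟩, mem_W0.mpr (by simp [hc]), Or.inl ?_⟩
      simp [W.mul_def, W.inv_def, tR, hb, hca]
    · refine ⟨⟨c, d, false⟩, mem_W0.mpr (by simp [hc, hd]), Or.inr (Or.inl ?_)⟩
      simp [W.mul_def, W.inv_def, tt, hca, hdb]
    · rw [sa, sb] at hs; simp at hs
    · rw [sa, hb] at hs; simp at hs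
    · rw [sa, sb] at hs; simp at hs
    · refine ⟨⟨c, d, false⟩, mem_W0.mpr (by simp [hc, hd]), Or.inr (Or.inr (Or.inl ?_))⟩
      simp [W.mul_def, W.inv_def, ee, hca, hdb]
  case true =>
    have hab : a * b = 1 := congrArg W.a h2
    have hb : b = a⁻¹ := eq_inv_of_mul_eq_one_right hab
    subst hb
    rcases Int.units_eq_one_or (Perm.sign a) with ha | ha
    · refine ⟨⟨a⁻¹, 1, false⟩, mem_W0.mpr (by simp [ha]), Or.inr (Or.inr (Or.inr (Or.inl ?_)))⟩
      simp [W.mul_def, W.inv_def, ss]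
    · refine ⟨⟨r5 * a⁻¹, 1, false⟩, ?_, Or.inr (Or.inr (Or.inr (Or.inr ?_)))⟩
      · exact mem_W0.mpr (by simp [ha, show Perm.sign r5 = -1 by decide])
      · simp [W.mul_def, W.inv_def, ee, ss, mul_assoc, show r5⁻¹ = r5 by decide]

/-- A conjugate of `(1, t5)` is not an involution centralising `(c5, c5)` with small centraliser. -/
theorem not_conj_tR_swap [Finite G] (g : G) {j : W} (hj : j ∈ W0) (hzj : zz * j = j * zz)
    (hcrit : ∀ a b : Perm (Fin 5), ∀ f : Bool, a ^ 3 = 1 → b ^ 3 = 1 → a * c5 = c5 * a →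
      b * c5 = c5 * b → f = false → (⟨a, b, f⟩ : W) * j = j * ⟨a, b, f⟩ → a = b) :
    g * e.im tR * g⁻¹ ≠ e.im j := by
  intro h
  have hz : zL ∈ W0 := by decide
  have ht : tR ∈ W0 := by decide
  set d := g * e.im zL * g⁻¹ with hd
  have hdj : Commute d (e.im j) := by
    rw [← h, hd]; exact Commute.conj (e.im_commute hz ht (by decide)) g
  obtain ⟨k, hk, hk1, -⟩ := e.exists_conj_into (c := e.im zz) (d₁ := d) (d₂ := d)
    (e.im_commute (by decide) hj hzj)
    (by rw [← e.im_pow (by decide), show zz ^ 3 = 1 by decide +kernel, e.im_one])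
    hdj hdj (by rw [hd, conj_pow, ← e.im_pow hz, show zL ^ 3 = 1 by decide +kernel, e.im_one,
      mul_one, mul_inv_cancel])
    (by rw [hd, conj_pow, ← e.im_pow hz, show zL ^ 3 = 1 by decide +kernel, e.im_one,
      mul_one, mul_inv_cancel]) (Commute.refl d)
  obtain ⟨p, hp, hpd⟩ := e.exists_im
    (e.cent_three (p := zz) (by decide) (by decide +kernel) (by decide)
      (mem_centralizer_singleton_iff.mpr hk1.eq))
  have hpz : p * zz = zz * p := e.commute_of_im hp (by decide) (hpd ▸ hk1)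
  have hpj : p * j = j * p := e.commute_of_im hp hj (by
    rw [hpd]
    have := Commute.conj hdj k
    rwa [hk.eq, mul_inv_cancel_right] at this)
  have hp3 : p ^ 3 = 1 := e.im_inj (pow_mem hp 3) (one_mem _) (by
    rw [e.im_pow hp, hpd, hd, conj_pow, conj_pow, ← e.im_pow hz,
      show zL ^ 3 = 1 by decide +kernel, e.im_one, mul_one, mul_inv_cancel, mul_one,
      mul_inv_cancel])
  have hconj : (k * g) * e.im zL * (k * g)⁻¹ = e.im p := by rw [hpd, hd]; group
  obtain ⟨a, b, f⟩ := p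
  cases f
  case true =>
    have := congrArg W.f hp3
    rw [pow_succ, pow_two] at this
    exact Bool.noConfusion this
  rw [pow_succ, pow_two] at hp3
  have ha3 : a ^ 3 = 1 := by have := congrArg W.a hp3; rwa [pow_succ, pow_two]
  have hb3 : b ^ 3 = 1 := by have := congrArg W.b hp3; rwa [pow_succ, pow_two]
  obtain rfl := hcrit a b false ha3 hb3 (congrArg W.a hpz) (congrArg W.b hpz) rfl hpj
  rcases perm_c5_three a (congrArg W.a hpz) ha3 with rfl | rfl | rfl
  · rw [show (⟨1, 1, false⟩ : W) = 1 from rfl, e.im_one, conj_eq_one_iff] at hconj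
    exact absurd (e.im_eq_one hz hconj) (by decide)
  · exact e.not_conj_zz (Or.inl rfl) _ hconj
  · exact e.not_conj_zz (Or.inr (by decide)) _ hconj

/-- The involution `(1, t5)` is not fused to `ee`. -/
theorem not_conj_tR_ee [Finite G] (g : G) : g * e.im tR * g⁻¹ ≠ e.im ee := by
  have hz : zL ∈ W0 := by decide
  have hR : zR ∈ W0 := by decide
  have ht : tR ∈ W0 := by decide
  intro h
  set g' := g⁻¹ with hg'
  have he : ee ∈ W0 := by decide
  have hh : g' * e.im ee * g'⁻¹ = e.im tR := by rw [← h, hg']; group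
  have h1 : Commute (g' * e.im zL * g'⁻¹) (e.im tR) :=
    hh ▸ Commute.conj (e.im_commute hz he (by decide)) g'
  have h2 : Commute (g' * e.im zR * g'⁻¹) (e.im tR) :=
    hh ▸ Commute.conj (e.im_commute hR he (by decide)) g'
  have hpow : ∀ q ∈ W0, q ^ 3 = 1 → (g' * e.im q * g'⁻¹) ^ 3 = 1 := fun q hq hq3 => by
    rw [conj_pow, ← e.im_pow hq, hq3, e.im_one, mul_one, mul_inv_cancel]
  obtain ⟨k, hk, hk1, hk2⟩ := e.exists_conj_into (c := e.im zL)
    (e.im_commute hz ht (by decide))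
    (by rw [← e.im_pow hz, show zL ^ 3 = 1 by decide +kernel, e.im_one])
    h1 h2 (hpow zL hz (by decide +kernel)) (hpow zR hR (by decide +kernel))
    (Commute.conj (e.im_commute hz hR (by decide)) g')
  have loc : ∀ x : G, Commute x (e.im zL) → Commute x (e.im tR) → x ^ 3 = 1 →
      x ∈ zpowers (e.im zL) := by
    intro x hxz hxt hx3
    obtain ⟨p, hp, rfl⟩ := e.exists_im
      (e.cent_three hz (by decide +kernel) (by decide) (mem_centralizer_singleton_iff.mpr hxz.eq))
    have hpz := e.commute_of_im hp hz hxz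
    have hpt := e.commute_of_im hp ht hxt
    have hp3 : p ^ 3 = 1 :=
      e.im_inj (pow_mem hp 3) (one_mem _) (by rw [e.im_pow hp, hx3, e.im_one])
    obtain ⟨a, b, f⟩ := p
    cases f
    case true =>
      have := congrArg W.f hp3
      rw [pow_succ, pow_two] at this
      exact Bool.noConfusion this
    rw [pow_succ, pow_two] at hp3
    have ha3 : a ^ 3 = 1 := by have := congrArg W.a hp3; rwa [pow_succ, pow_two]
    have hb3 : b ^ 3 = 1 := by have := congrArg W.b hp3; rwa [pow_succ, pow_two]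
    obtain rfl := perm_t5_three b (congrArg W.b hpt) hb3
    rcases perm_c5_three a (congrArg W.a hpz) ha3 with rfl | rfl | rfl
    · rw [show (⟨1, 1, false⟩ : W) = 1 from rfl, e.im_one]; exact one_mem _
    · exact mem_zpowers _
    · rw [show (⟨c5 * c5, 1, false⟩ : W) = zL ^ 2 by decide +kernel, e.im_pow hz]
      exact pow_mem (mem_zpowers _) 2
  have hm : ∀ q ∈ W0, q ^ 3 = 1 → Commute (g' * e.im q * g'⁻¹) (e.im tR) →
      Commute (k * (g' * e.im q * g'⁻¹) * k⁻¹) (e.im zL) →
      k * g' * e.im q * (k * g')⁻¹ ∈ zpowers (e.im zL) := fun q hq hq3 hc hc' => by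
    rw [show k * g' * e.im q * (k * g')⁻¹ = k * (g' * e.im q * g'⁻¹) * k⁻¹ by group]
    refine loc _ hc' ?_ (by rw [conj_pow, hpow q hq hq3, mul_one, mul_inv_cancel])
    have := Commute.conj hc k
    rwa [hk.eq, mul_inv_cancel_right] at this
  have hsub : zpowers (k * g' * e.im zL * (k * g')⁻¹) = zpowers (e.im zL) := by
    refine eq_of_le_of_card_ge (zpowers_le.mpr (hm zL hz (by decide +kernel) h1 hk1)) ?_
    rw [Nat.card_zpowers, Nat.card_zpowers, ← MulAut.conj_apply, MulEquiv.orderOf_eq]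
  have h3 := hm zR hR (by decide +kernel) h2 hk2
  rw [← hsub] at h3
  obtain ⟨n, hn⟩ := mem_zpowers_iff.mp h3
  rw [conj_zpow, mul_left_inj, mul_right_inj, ← e.im_zpow hz] at hn
  let S : Subgroup W :=
    { carrier := {q | q.f = false ∧ q.b = 1}
      one_mem' := ⟨rfl, rfl⟩
      mul_mem' := by
        rintro ⟨_, _, _⟩ ⟨_, _, _⟩ ⟨rfl, rfl⟩ ⟨rfl, rfl⟩
        exact ⟨rfl, mul_one 1⟩
      inv_mem' := by
        rintro ⟨_, _, _⟩ ⟨rfl, rfl⟩
        exact ⟨rfl, inv_one⟩ }
  have hS : zL ^ n ∈ S := zpow_mem (show zL ∈ S from ⟨rfl, rfl⟩) n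
  rw [e.im_inj (zpow_mem hz n) hR hn] at hS
  exact absurd hS.2 (by decide)

/-- The involution `(1, t5)` is fused neither to `ee` nor to the swaps. -/
theorem not_conj_tR [Finite G] (g : G) :
    g * e.im tR * g⁻¹ ≠ e.im ee ∧ g * e.im tR * g⁻¹ ≠ e.im ss ∧
      g * e.im tR * g⁻¹ ≠ e.im (ee * ss) := by
  refine ⟨e.not_conj_tR_ee g, e.not_conj_tR_swap g (by decide) (by decide) ?_,
    e.not_conj_tR_swap g (by decide) (by decide) ?_⟩
  · intro a b f _ _ _ _ hf hcom
    subst hf
    have := congrArg W.a hcom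
    simpa [W.mul_def, ss] using this
  · intro a b f ha _ hc _ hf hcom
    subst hf
    have := congrArg W.a hcom
    have key : ∀ a : Perm (Fin 5), a * c5 = c5 * a → a ^ 3 = 1 → r5 * a = a * r5 := by
      decide +kernel
    simp [W.mul_def, ss, ee] at this
    rw [← key a hc ha] at this
    exact mul_left_cancel this

/-- A conjugate of `(1, t5)` in the model is of the type of `(1, t5)` or of `(t5, t5)`. -/
theorem conj_tR_cases [Finite G] {g : G} {p : W} (hp : p ∈ W0)
    (h : g * e.im tR * g⁻¹ = e.im p) :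
    ∃ c ∈ W0, c * p * c⁻¹ = tR ∨ c * p * c⁻¹ = tt := by
  have ht : tR ∈ W0 := by decide
  have h2 : p * p = 1 := e.im_inj (mul_mem hp hp) (one_mem _) (by
    rw [e.im_mul hp hp, ← h, conj_mul, ← e.im_mul ht ht, show tR * tR = 1 by decide, e.im_one,
      mul_one, mul_inv_cancel])
  have h1 : p ≠ 1 := by
    rintro rfl
    rw [e.im_one, conj_eq_one_iff] at h
    exact absurd (e.im_eq_one ht h) (by decide)
  obtain ⟨c, hc, hcp⟩ := conj_cases_invol hp h2 h1
  have hconj : (e.im c * g) * e.im tR * (e.im c * g)⁻¹ = e.im (c * p * c⁻¹) := by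
    rw [e.im_conj hc hp, ← h]; group
  obtain ⟨n1, n2, n3⟩ := e.not_conj_tR (e.im c * g)
  rcases hcp with hcp | hcp | hcp | hcp | hcp
  · exact ⟨c, hc, Or.inl hcp⟩
  · exact ⟨c, hc, Or.inr hcp⟩
  all_goals rw [hcp] at hconj; contradiction

end Data

end CfsgLib.SymEightThree.Model
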