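import Cfsg.Agent.Lib.SymEightThree.Base
import Cfsg.Agent.Lib.SymEightThree.ExcBasic
import Cfsg.Agent.Lib.Alt.Aut
import Mathlib.GroupTheory.SpecificGroups.Alternating.Centralizer

/-!
The exceptional case of the local data gives an embedded model.
-/

set_option autoImplicit false
set_option linter.style.haveILetI false

namespace CfsgLib.SymEightThree

open Subgroup Equiv

theorem adapt_centralizer : ∀ a : Perm (Fin 5), a * c5 = c5 * a →
    a * (swap 2 3 * swap 3 4) = swap 2 3 * swap 3 4 * a → a = 1 := by decide +kernel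

theorem adapt_four : ∀ y : Perm (Fin 5), y ^ 2 = 1 → Perm.sign y = 1 → y 4 = 4 →
    ∃ i : Fin 4, y = (swap 2 4 * swap 0 1)⁻¹ * Model.four i * (swap 2 4 * swap 0 1) := by
  decide +kernel

/-- A permutation centralising all even permutations is trivial. -/
theorem eq_one_of_comm_even {a : Perm (Fin 5)}
    (h : ∀ x : Perm (Fin 5), Perm.sign x = 1 → a * x = x * a) : a = 1 :=
  adapt_centralizer a (h _ (by decide)) (h _ (by decide))

/-- The sign correction. -/
def rk (a : Perm (Fin 5)) : Perm (Fin 5) := if Perm.sign a = 1 then 1 else r5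

/-- The even part. -/
def ra (a : Perm (Fin 5)) : Perm (Fin 5) := a * rk a

theorem rk_sq (a : Perm (Fin 5)) : rk a * rk a = 1 := by
  unfold rk; split_ifs <;> decide

theorem ra_mul_rk (a : Perm (Fin 5)) : ra a * rk a = a := by
  rw [ra, mul_assoc, rk_sq, mul_one]

theorem sign_ra (a : Perm (Fin 5)) : Perm.sign (ra a) = 1 := by
  unfold ra rk
  split_ifs with h
  · rw [mul_one, h]
  · rw [map_mul, (Int.units_eq_one_or _).resolve_left h]; decide

theorem rk_cases (a : Perm (Fin 5)) : rk a = 1 ∨ rk a = r5 := by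
  unfold rk; split_ifs
  · exact Or.inl rfl
  · exact Or.inr rfl

theorem rk_mul (a b : Perm (Fin 5)) : rk (a * b) = rk a * rk b := by
  unfold rk
  rw [map_mul]
  rcases Int.units_eq_one_or (Perm.sign a) with ha | ha <;>
    rcases Int.units_eq_one_or (Perm.sign b) with hb | hb <;>
    rw [ha, hb] <;> decide

theorem rk_of_even {a : Perm (Fin 5)} (h : Perm.sign a = 1) : rk a = 1 := if_pos h

namespace Base

variable {G : Type*} [Group G] (b : Base G)

/-- An element centralising both alternating components is trivial. -/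
theorem eq_one_of_comm {x : G} (hφ : ∀ a, Perm.sign a = 1 → Commute x (b.φ a))
    (hψ : ∀ a, Perm.sign a = 1 → Commute x (b.ψ a)) (h : b.IsExc) : x = 1 := by
  have hc : Perm.sign c5 = 1 := by decide
  have hx : x ∈ zpowers (b.g⁻¹ * b.φ c5 * b.g) ⊔ b.φ.range := b.centz (by
    rw [mem_centralizer_singleton_iff, ← b.ψ_apply]
    exact (hψ c5 hc).eq)
  rw [← b.ψ_apply] at hx
  have hn : zpowers (b.ψ c5) ≤ normalizer (b.φ.range : Set G) := by
    rw [zpowers_le]
    refine mem_normalizer_iff.mpr fun y => ⟨?_, ?_⟩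
    · rintro ⟨a, rfl⟩
      exact ⟨a, by rw [(b.ψc_comm a).eq, mul_inv_cancel_right]⟩
    · rintro ⟨a, ha⟩
      refine ⟨a, ?_⟩
      have := congrArg (fun z => (b.ψ c5)⁻¹ * z * b.ψ c5) ha
      simp only [(b.ψc_comm a).inv_left.eq, inv_mul_cancel_right, mul_assoc] at this
      simpa [mul_assoc] using this
  rw [← SetLike.mem_coe, coe_mul_of_left_le_normalizer_right _ _ hn] at hx
  obtain ⟨_, ⟨i, rfl⟩, _, ⟨k, rfl⟩, hxi⟩ := Set.mem_mul.mp hx
  have hk : k = 1 := eq_one_of_comm_even fun a ha => b.inj (by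
    rw [map_mul, map_mul]
    have h1 : Commute (b.ψ c5 ^ i * b.φ k) (b.φ a) := hxi ▸ hφ a ha
    have h2 : Commute (b.ψ c5 ^ i) (b.φ a) := (b.ψc_comm a).zpow_left i
    have h3 := Commute.mul_left h2.inv_left h1
    rw [inv_mul_cancel_left] at h3
    exact h3.eq)
  subst hk
  rw [map_one, mul_one] at hxi
  replace hxi : b.ψ c5 ^ i = x := hxi
  have hi : c5 ^ i = 1 := eq_one_of_comm_even fun a ha => b.ψ_injective (by
    rw [map_mul, map_mul, map_zpow]
    show Commute (b.ψ c5 ^ i) (b.ψ a)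
    exact hxi ▸ hψ a ha)
  rw [← hxi]
  show b.ψ c5 ^ i = 1
  rw [← map_zpow, hi, map_one]

/-- Conjugation of the left component by the right one. -/
theorem conj_φ_ψ (h : b.IsExc) (y : Perm (Fin 5)) {x : Perm (Fin 5)} (hx : Perm.sign x = 1) :
    b.φ y * b.ψ x * (b.φ y)⁻¹ = b.ψ (rk y * x * (rk y)⁻¹) := by
  have hr : b.φ (rk y) = b.ψ (rk y) := by
    rcases rk_cases y with e | e <;> rw [e]
    · rw [map_one, map_one]
    · exact b.ψ_r.symm
  have hx' : Perm.sign (rk y * x * (rk y)⁻¹) = 1 := by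
    rw [map_mul, map_mul, map_inv, hx, mul_one, mul_inv_cancel]
  conv_lhs => rw [← ra_mul_rk y, map_mul, hr]
  calc b.φ (ra y) * b.ψ (rk y) * b.ψ x * (b.φ (ra y) * b.ψ (rk y))⁻¹
      = b.φ (ra y) * (b.ψ (rk y) * b.ψ x * (b.ψ (rk y))⁻¹) * (b.φ (ra y))⁻¹ := by group
    _ = b.φ (ra y) * b.ψ (rk y * x * (rk y)⁻¹) * (b.φ (ra y))⁻¹ := by
        rw [map_mul, map_mul, map_inv]
    _ = _ := by rw [(h.2 _ _ (sign_ra y) hx').eq, mul_inv_cancel_right]

/-- The element exchanging the two components. -/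
theorem exists_exc_swap [Finite G] (h : b.IsExc) :
    ∃ s : G, s * s = 1 ∧ (∀ x, s * b.ψ x * s⁻¹ = b.φ x) ∧ ∀ x, s * b.φ x * s⁻¹ = b.ψ x := by
  classical
  -- the automorphism induced by `g`
  set f : Perm (Fin 5) →* G := (MulAut.conj b.g).toMonoidHom.comp b.φ with hf
  have hfr : ∀ x, f x ∈ b.ψ.range := fun x => by
    rw [b.ψ_range, ← b.g_range]; exact ⟨b.φ x, ⟨x, rfl⟩, rfl⟩
  set α : Perm (Fin 5) →* Perm (Fin 5) :=
    (MonoidHom.ofInjective b.ψ_injective).symm.toMonoidHom.comp (f.codRestrict b.ψ.range hfr)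
    with hαdef
  have hα : ∀ x, b.ψ (α x) = b.g * b.φ x * b.g⁻¹ := fun x => by
    have := (MonoidHom.ofInjective b.ψ_injective).apply_symm_apply (f.codRestrict b.ψ.range hfr x)
    exact (congrArg Subtype.val this : _)
  have hαinj : Function.Injective α := fun x y hxy => by
    have := hα x
    rw [hxy, hα y, mul_left_inj, mul_right_inj] at this
    exact (b.inj this).symm
  have hA : ∀ x, Perm.sign x = 1 → Perm.sign (α x) = 1 := fun x hx => by
    have hcomm : (alternatingGroup (Fin 5)) ≤ (Perm.sign.comp α).ker := by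
      rw [← alternatingGroup.commutator_perm_eq (by simp)]
      exact Abelianization.commutator_subset_ker _
    exact hcomm (Perm.mem_alternatingGroup.mpr hx)
  set αA : ↥(alternatingGroup (Fin 5)) →* ↥(alternatingGroup (Fin 5)) :=
    (α.comp (alternatingGroup (Fin 5)).subtype).codRestrict _
      (fun x => Perm.mem_alternatingGroup.mpr (hA _ (Perm.mem_alternatingGroup.mp x.2))) with hαA
  have hαAinj : Function.Injective αA := fun x y hxy =>
    Subtype.ext (hαinj (congrArg Subtype.val hxy : _))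
  obtain ⟨π, hπ⟩ := CfsgLib.AltAut.conjNormal_surjective (α := Fin 5) (by simp) (by simp)
    (MulEquiv.ofBijective αA ⟨hαAinj, Finite.surjective_of_injective hαAinj⟩)
  have hπA : ∀ x, Perm.sign x = 1 → α x = π * x * π⁻¹ := fun x hx => by
    have := congrArg (fun F : MulAut (alternatingGroup (Fin 5)) =>
      (F ⟨x, Perm.mem_alternatingGroup.mpr hx⟩ : Perm (Fin 5))) hπ
    simp only [MulAut.conjNormal_apply] at this
    exact this.symm
  have hπall : ∀ x, α x = π * x * π⁻¹ := fun x => by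
    have hone : π⁻¹ * α x * π * x⁻¹ = 1 := eq_one_of_comm_even fun y hy => by
      have hy' : Perm.sign (x⁻¹ * y * x) = 1 := by
        rw [map_mul, map_mul, map_inv, hy, mul_one, inv_mul_cancel]
      have e1 : α y = π * y * π⁻¹ := hπA y hy
      have e2 : (α x)⁻¹ * α y * α x = π * (x⁻¹ * y * x) * π⁻¹ := by
        rw [← map_inv, ← map_mul, ← map_mul, hπA _ hy']
      rw [e1] at e2
      calc π⁻¹ * α x * π * x⁻¹ * y
          = π⁻¹ * α x * (π * (x⁻¹ * y * x) * π⁻¹) * π * x⁻¹ := by group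
        _ = π⁻¹ * α x * ((α x)⁻¹ * (π * y * π⁻¹) * α x) * π * x⁻¹ := by rw [e2]
        _ = y * (π⁻¹ * α x * π * x⁻¹) := by group
    calc α x = π * (π⁻¹ * α x * π * x⁻¹) * x * π⁻¹ := by group
      _ = _ := by rw [hone, mul_one]
  have hge : b.g * b.φ r5 * b.g⁻¹ = b.φ r5 := by
    conv_lhs => rw [← b.g_r]
    group
  have hπr : π * r5 * π⁻¹ = r5 := b.ψ_injective (by rw [← hπall, hα, hge, b.ψ_r])
  have hr2 : r5 * r5 = 1 := by decide
  -- the parity of the automorphism
  have hπeven : Perm.sign π = 1 := by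
    rcases Int.units_eq_one_or (Perm.sign π) with hs | hs
    · exact hs
    exfalso
    set p := π⁻¹ * r5 with hp
    have hp1 : Perm.sign p = 1 := by
      rw [hp, map_mul, map_inv, hs]; decide
    set u := b.ψ p * b.φ r5 * b.g with hu
    have huψ : ∀ x, Perm.sign x = 1 → u * b.ψ x * u⁻¹ = b.φ (r5 * x * r5) := fun x hx => by
      have hx' : Perm.sign (r5 * x * r5) = 1 := by
        rw [map_mul, map_mul, hx, mul_one, ← map_mul, hr2, map_one]
      calc u * b.ψ x * u⁻¹ = b.ψ p * (b.φ r5 * (b.g * b.ψ x * b.g⁻¹) * (b.φ r5)⁻¹) * (b.ψ p)⁻¹ := by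
            rw [hu]; group
        _ = b.ψ p * b.φ (r5 * x * r5) * (b.ψ p)⁻¹ := by
            simp only [b.conj_g_ψ, map_mul, ← map_inv, inv_eq_of_mul_eq_one_right hr2]
        _ = _ := by rw [← (h.2 _ _ hx' hp1).eq, mul_inv_cancel_right]
    have huφ : ∀ x, Perm.sign x = 1 → u * b.φ x * u⁻¹ = b.ψ x := fun x hx => by
      calc u * b.φ x * u⁻¹ = b.ψ p * (b.φ r5 * (b.g * b.φ x * b.g⁻¹) * (b.φ r5)⁻¹) * (b.ψ p)⁻¹ := by
            rw [hu]; group
        _ = b.ψ (p * (r5 * (π * x * π⁻¹) * r5⁻¹) * p⁻¹) := by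
            rw [← hα, hπall, ← b.ψ_r]; simp only [map_mul, map_inv]
        _ = b.ψ x := by
            have hr2' : ∀ z, r5 * (r5 * z) = z := fun z => by rw [← mul_assoc, hr2, one_mul]
            congr 1
            simp [hp, mul_assoc, inv_eq_of_mul_eq_one_right hr2, hr2']
    have hc : Perm.sign c5 = 1 := by decide
    have hrc : r5 * c5 * r5 = c5 := by decide
    have huy : Commute u (b.ψ c5 * b.φ c5) := mul_inv_eq_iff_eq_mul.mp (by
      rw [← conj_mul, huψ c5 hc, huφ c5 hc, hrc]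
      exact (h.2 c5 c5 hc hc).eq)
    have hD : u ^ 2 ∈ closure ({b.ψ c5, b.φ c5} : Set G) := by
      have := b.sq_y u (mem_centralizer_singleton_iff.mpr (by rw [← b.ψ_apply]; exact huy.eq))
      rwa [← b.ψ_apply] at this
    let S : Subgroup G :=
      { carrier := {d | ∃ k : Perm (Fin 5), Perm.sign k = 1 ∧ ∀ x, Perm.sign x = 1 →
          d * b.φ x * d⁻¹ = b.φ (k * x * k⁻¹)}
        one_mem' := ⟨1, map_one _, fun x _ => by simp⟩
        mul_mem' := by
          rintro d d' ⟨k, hk, hd⟩ ⟨k', hk', hd'⟩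
          refine ⟨k * k', by rw [map_mul, hk, hk', mul_one], fun x hx => ?_⟩
          calc d * d' * b.φ x * (d * d')⁻¹ = d * (d' * b.φ x * d'⁻¹) * d⁻¹ := by group
            _ = _ := by
              rw [hd' x hx, hd _ (by rw [map_mul, map_mul, map_inv, hx, mul_one, mul_inv_cancel])]
              simp only [mul_inv_rev, mul_assoc]
        inv_mem' := by
          rintro d ⟨k, hk, hd⟩
          refine ⟨k⁻¹, by rw [map_inv, hk, inv_one], fun x hx => ?_⟩
          have h1 := hd (k⁻¹ * x * k) (by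
            rw [map_mul, map_mul, map_inv, hx, mul_one, inv_mul_cancel])
          rw [show k * (k⁻¹ * x * k) * k⁻¹ = x by group] at h1
          rw [← h1, inv_inv]; group }
    have hle : closure ({b.ψ c5, b.φ c5} : Set G) ≤ S := by
      rw [closure_le]
      rintro d (rfl | rfl)
      · exact ⟨1, map_one _, fun x _ => by
          rw [(b.ψc_comm x).eq, mul_inv_cancel_right, one_mul, inv_one, mul_one]⟩
      · exact ⟨c5, hc, fun x _ => by rw [map_mul, map_mul, map_inv]⟩
    obtain ⟨k, hk, hkx⟩ := hle hD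
    have : k⁻¹ * r5 = 1 := eq_one_of_comm_even fun x hx => by
      have h1 := hkx x hx
      rw [pow_two, show u * u * b.φ x * (u * u)⁻¹ = u * (u * b.φ x * u⁻¹) * u⁻¹ by group,
        huφ x hx, huψ x hx] at h1
      have h2 := b.inj h1
      calc k⁻¹ * r5 * x = k⁻¹ * (r5 * x * r5) * r5 := by
            simp only [mul_assoc, hr2, mul_one]
        _ = _ := by rw [h2]; group
    rw [inv_mul_eq_one] at this
    rw [this] at hk
    exact absurd hk (by decide)
  set s := b.ψ π⁻¹ * b.g with hs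
  have hπ' : Perm.sign π⁻¹ = 1 := by rw [map_inv, hπeven, inv_one]
  have hsψe : ∀ x, Perm.sign x = 1 → s * b.ψ x * s⁻¹ = b.φ x := fun x hx => by
    calc s * b.ψ x * s⁻¹ = b.ψ π⁻¹ * (b.g * b.ψ x * b.g⁻¹) * (b.ψ π⁻¹)⁻¹ := by rw [hs]; group
      _ = _ := by rw [b.conj_g_ψ, ← (h.2 _ _ hx hπ').eq, mul_inv_cancel_right]
  have hsφ : ∀ x, s * b.φ x * s⁻¹ = b.ψ x := fun x => by
    calc s * b.φ x * s⁻¹ = b.ψ π⁻¹ * (b.g * b.φ x * b.g⁻¹) * (b.ψ π⁻¹)⁻¹ := by rw [hs]; group
      _ = _ := by rw [← hα, hπall, ← map_inv, ← map_mul, ← map_mul]; congr 1; group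
  have hsψ : ∀ x, s * b.ψ x * s⁻¹ = b.φ x := fun x => by
    have hrr : b.ψ (rk x) = b.φ (rk x) := by
      rcases rk_cases x with e | e <;> rw [e]
      · rw [map_one, map_one]
      · exact b.ψ_r
    have e1 : s * b.ψ x * s⁻¹ = s * b.ψ (ra x) * s⁻¹ * (s * b.φ (rk x) * s⁻¹) := by
      rw [← hrr, conj_mul, ← map_mul, ra_mul_rk]
    rw [e1, hsψe _ (sign_ra x), hsφ, hrr, ← map_mul, ra_mul_rk]
  refine ⟨s, b.eq_one_of_comm (fun a _ => mul_inv_eq_iff_eq_mul.mp ?_)
    (fun a _ => mul_inv_eq_iff_eq_mul.mp ?_) h, hsψ, hsφ⟩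
  · rw [show s * s * b.φ a * (s * s)⁻¹ = s * (s * b.φ a * s⁻¹) * s⁻¹ by group, hsφ, hsψ]
  · rw [show s * s * b.ψ a * (s * s)⁻¹ = s * (s * b.ψ a * s⁻¹) * s⁻¹ by group, hsψ, hsφ]

open Model in
/-- The exceptional case gives the embedded model. -/
theorem exists_data [Finite G] (h : b.IsExc)
    (hfour : ∀ k, (k = 3 ∨ k = 4) →
      Subgroup.centralizer (b.φ '' fourSet k) ≤ b.φ.range ⊔ b.ψ.range) :
    Nonempty (Data G) := by
  classical
  obtain ⟨s, hss, hsψ, hsφ⟩ := b.exists_exc_swap h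
  have hrk : ∀ x, b.φ (rk x) = b.ψ (rk x) := fun x => by
    rcases rk_cases x with e | e <;> rw [e]
    · rw [map_one, map_one]
    · exact b.ψ_r.symm
  let η : Perm (Fin 5) → Perm (Fin 5) → G := fun a c => b.ψ (ra a) * b.φ c
  have hrkeq : ∀ {a c : Perm (Fin 5)}, Perm.sign a * Perm.sign c = 1 → rk a = rk c :=
    fun {a c} hac => by
      have : Perm.sign c = Perm.sign a := by
        rw [← inv_eq_of_mul_eq_one_right hac, Int.units_inv_eq_self]
      simp [rk, this]
  have hη : ∀ {a c : Perm (Fin 5)} (a' c' : Perm (Fin 5)), Perm.sign a * Perm.sign c = 1 →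
      η a c * η a' c' = η (a * a') (c * c') := fun {a c} a' c' hac => by
    have hcomm : rk a * rk a' = rk a' * rk a := by
      rcases rk_cases a with e | e <;> rcases rk_cases a' with e' | e' <;> rw [e, e'] <;> simp
    show b.ψ (ra a) * b.φ c * (b.ψ (ra a') * b.φ c') = b.ψ (ra (a * a')) * b.φ (c * c')
    calc b.ψ (ra a) * b.φ c * (b.ψ (ra a') * b.φ c')
        = b.ψ (ra a) * (b.φ c * b.ψ (ra a') * (b.φ c)⁻¹) * (b.φ c * b.φ c') := by group
      _ = b.ψ (ra a) * b.ψ (rk a * ra a' * (rk a)⁻¹) * b.φ (c * c') := by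
          rw [b.conj_φ_ψ h c (sign_ra a'), ← hrkeq hac, map_mul b.φ]
      _ = _ := by
          rw [← map_mul b.ψ]
          congr 2
          rw [inv_eq_of_mul_eq_one_right (rk_sq a)]
          show a * rk a * (rk a * (a' * rk a') * rk a) = a * a' * rk (a * a')
          rw [rk_mul, ← mul_assoc (a * rk a), ← mul_assoc (a * rk a), mul_assoc a (rk a) (rk a),
            rk_sq, mul_one, hcomm]
          simp only [mul_assoc]
  have hηs : ∀ {a c : Perm (Fin 5)}, Perm.sign a * Perm.sign c = 1 →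
      s * η a c * s⁻¹ = η c a := fun {a c} hac => by
    show s * (b.ψ (ra a) * b.φ c) * s⁻¹ = b.ψ (ra c) * b.φ a
    rw [← conj_mul, hsψ, hsφ]
    conv_lhs => rw [← ra_mul_rk c, map_mul, ← mul_assoc, (h.2 _ _ (sign_ra a) (sign_ra c)).eq,
      mul_assoc, ← hrk, ← hrkeq hac, ← map_mul, ra_mul_rk]
  let θ : W0 → G := fun p => η (p : W).a (p : W).b * if (p : W).f then s else 1
  have hmul : ∀ p q : W0, θ (p * q) = θ p * θ q := by
    rintro ⟨⟨a, c, f⟩, hp⟩ ⟨⟨a', c', f'⟩, hq⟩
    have hac : Perm.sign a * Perm.sign c = 1 := hp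
    have hac' : Perm.sign a' * Perm.sign c' = 1 := hq
    cases f
    · show η (a * a') (c * c') * (if (false != f') then s else 1) =
        η a c * 1 * (η a' c' * if f' then s else 1)
      rw [← hη a' c' hac, mul_one]
      cases f' <;> simp [mul_assoc]
    · show η (a * c') (c * a') * (if (true != f') then s else 1) =
        η a c * s * (η a' c' * if f' then s else 1)
      have hsη : s * η a' c' = η c' a' * s := by
        rw [← hηs hac', inv_mul_cancel_right]
      rw [← hη c' a' hac, mul_assoc (η a c) s, ← mul_assoc s, hsη]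
      cases f'
      · simp [mul_assoc]
      · simp [mul_assoc, hss]
  let Θ : W0 →* G := MonoidHom.mk' θ hmul
  have hΘψ : ∀ (x : Perm (Fin 5)) (hp : (⟨x, rk x, false⟩ : W) ∈ W0),
      Θ ⟨_, hp⟩ = b.ψ x := fun x hp => by
    show η x (rk x) * 1 = b.ψ x
    show b.ψ (ra x) * b.φ (rk x) * 1 = b.ψ x
    rw [mul_one, hrk, ← map_mul, ra_mul_rk]
  have hΘφ : ∀ (x : Perm (Fin 5)) (hp : (⟨rk x, x, false⟩ : W) ∈ W0),
      Θ ⟨_, hp⟩ = b.φ x := fun x hp => by
    show b.ψ (ra (rk x)) * b.φ x * 1 = b.φ x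
    have : ra (rk x) = 1 := by rcases rk_cases x with e | e <;> rw [e] <;> decide
    rw [this, map_one, one_mul, mul_one]
  have hsign : ∀ x : Perm (Fin 5), Perm.sign x * Perm.sign (rk x) = 1 := fun x => by
    rw [← map_mul]; exact sign_ra x
  have hψr : ∀ x, b.ψ x ∈ Θ.range := fun x => ⟨_, hΘψ x (Model.mem_W0.mpr (hsign x))⟩
  have hφr : ∀ x, b.φ x ∈ Θ.range := fun x =>
    ⟨_, hΘφ x (Model.mem_W0.mpr ((mul_comm _ _).trans (hsign x)))⟩
  have hinj : Function.Injective Θ := by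
    rw [injective_iff_map_eq_one]
    rintro ⟨⟨a, c, f⟩, hp⟩ he
    have hac : Perm.sign a * Perm.sign c = 1 := hp
    cases f
    · have he' : b.ψ (ra a) * b.φ c * 1 = 1 := he
      rw [mul_one] at he'
      have hcφ : b.φ c = (b.ψ (ra a))⁻¹ := eq_inv_of_mul_eq_one_right he'
      have hc1 : c = 1 := eq_one_of_comm_even fun x hx => b.inj (by
        rw [map_mul, map_mul, hcφ]
        exact ((h.2 x (ra a) hx (sign_ra a)).symm.inv_left).eq)
      subst hc1
      rw [map_one, mul_one] at he'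
      have ha : ra a = 1 := b.ψ_injective (he'.trans (map_one _).symm)
      have hsa : Perm.sign a = 1 := by simpa using hac
      rw [ra, rk_of_even hsa, mul_one] at ha
      subst ha
      rfl
    · exfalso
      have he' : b.ψ (ra a) * b.φ c * s = 1 := he
      have hs' : s = (b.ψ (ra a) * b.φ c)⁻¹ := eq_inv_of_mul_eq_one_right he'
      have hc : Perm.sign c5 = 1 := by decide
      -- `φ c5` would be a conjugate inside the other component
      have hsym : s⁻¹ = s := inv_eq_of_mul_eq_one_right hss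
      have h3 : b.φ c5 = b.ψ (ra a) * (b.φ c * b.ψ c5 * (b.φ c)⁻¹) * (b.ψ (ra a))⁻¹ := by
        rw [← hsψ c5]
        conv_lhs => rw [show s = s⁻¹ from hsym.symm, hs', inv_inv]
        group
      rw [b.conj_φ_ψ h c hc, ← map_inv, ← map_mul, ← map_mul] at h3
      have hc1 : c5 = 1 := eq_one_of_comm_even fun x hx => b.inj (by
        rw [map_mul, map_mul, h3]
        exact (h.2 x _ hx (by
          simp only [map_mul, map_inv, hc, sign_ra, mul_one, mul_inv_cancel, inv_one])).symm.eq)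
      exact absurd hc1 (by decide)
  have hsΘ : s ∈ Θ.range := ⟨⟨⟨1, 1, true⟩, Model.mem_W0.mpr (by simp)⟩, by
    show b.ψ (ra 1) * b.φ 1 * s = s
    rw [show ra 1 = 1 by decide, map_one, map_one, one_mul, one_mul]⟩
  have hc : Perm.sign c5 = 1 := by decide
  have hzL : Θ ⟨Model.zL, by decide⟩ = b.ψ c5 := by
    show b.ψ (ra c5) * b.φ 1 * 1 = b.ψ c5
    rw [ra, rk_of_even hc, map_one, mul_one, mul_one, mul_one]
  have hzR : Θ ⟨Model.zR, by decide⟩ = b.φ c5 := by
    show b.ψ (ra 1) * b.φ c5 * 1 = b.φ c5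
    rw [show ra 1 = 1 by decide, map_one, one_mul, mul_one]
  have hCz : centralizer ({b.ψ c5} : Set G) ≤ Θ.range := by
    rw [b.ψ_apply]
    refine b.centz.trans (sup_le ?_ (by rintro _ ⟨x, rfl⟩; exact hφr x))
    rw [zpowers_le, ← b.ψ_apply]; exact hψr _
  have hCw : centralizer ({b.φ c5} : Set G) ≤ Θ.range := by
    intro x hx
    have hsym : s⁻¹ = s := inv_eq_of_mul_eq_one_right hss
    have h1 : s * x * s⁻¹ ∈ centralizer ({b.ψ c5} : Set G) := by
      rw [mem_centralizer_singleton_iff, ← hsφ]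
      exact (Commute.conj (mem_centralizer_singleton_iff.mp hx) s).eq
    have h2 := mul_mem (mul_mem (Θ.range.inv_mem hsΘ) (hCz h1)) hsΘ
    simpa [mul_assoc] using h2
  have hCy : centralizer ({b.ψ c5 * b.φ c5} : Set G) ≤ Θ.range := by
    let ey : Fin 36 → Model.W := fun i =>
      ⟨Model.c5 ^ (i.val / 12) * Model.r5 ^ (i.val % 2), Model.c5 ^ ((i.val / 4) % 3) *
        Model.r5 ^ (i.val % 2), decide ((i.val / 2) % 2 = 1)⟩
    have hey : ∀ i k : Fin 36, ey i ∈ Model.W0 ∧ ey i * Model.zz = Model.zz * ey i ∧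
        (ey i = ey k → i = k) := by decide +kernel
    have hyeq : b.ψ c5 * b.φ c5 = Θ ⟨Model.zz, by decide⟩ := by
      show _ = b.ψ (ra c5) * b.φ c5 * 1
      rw [ra, rk_of_even hc, mul_one, mul_one]
    set C := centralizer ({b.ψ c5 * b.φ c5} : Set G) with hC
    let fC : Fin 36 → C := fun i => ⟨Θ ⟨ey i, (hey i i).1⟩, by
      rw [hC, hyeq, mem_centralizer_singleton_iff, ← map_mul, ← map_mul]
      exact congrArg Θ (Subtype.ext (hey i i).2.1)⟩
    have hfC : Function.Injective fC := fun i k hik =>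
      (hey i k).2.2 (congrArg Subtype.val (hinj (congrArg Subtype.val hik)))
    have hcard : Nat.card C = 36 := by
      rw [hC, b.ψ_apply]; exact b.card_y
    intro x hx
    obtain ⟨i, hi⟩ := (hfC.bijective_of_nat_card_le (by rw [hcard]; simp)).2 ⟨x, hx⟩
    exact ⟨_, congrArg Subtype.val hi⟩
  refine ⟨⟨Θ, hinj, b.not_dvd, ?_, ?_, ?_, ?_⟩⟩
  · rw [hzL]; exact hCz
  · rw [hzR]; exact hCw
  · rw [show Θ ⟨Model.zz, _⟩ = b.ψ c5 * b.φ c5 by
      show b.ψ (ra c5) * b.φ c5 * 1 = _
      rw [ra, rk_of_even hc, mul_one, mul_one]]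
    exact hCy
  · intro x hx
    set d : Perm (Fin 5) := swap 2 4 * swap 0 1 with hd
    have him : ∀ i : Fin 4, Commute x (b.φ (Model.four i)) := by
      have hgen : ∀ (y : Perm (Fin 5)) (hy : (⟨1, y, false⟩ : Model.W) ∈ Model.W0),
          Θ ⟨_, hy⟩ = b.φ y := fun y hy => by
        show b.ψ (ra 1) * b.φ y * 1 = b.φ y
        rw [show ra 1 = 1 by decide, map_one, one_mul, mul_one]
      have ht : Commute x (b.φ Model.t5) := by
        rw [← hgen Model.t5 (by decide)]
        exact (mem_centralizer_iff.mp hx _ (Or.inl rfl)).symm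
      have hv : Commute x (b.φ Model.v5) := by
        rw [← hgen Model.v5 (by decide)]
        exact (mem_centralizer_iff.mp hx _ (Or.inr rfl)).symm
      intro i
      fin_cases i <;> simp only [Model.four]
      · simpa using Commute.one_right x
      · exact ht
      · exact hv
      · rw [map_mul]; exact ht.mul_right hv
    have hmem : (b.φ d)⁻¹ * x * b.φ d ∈ centralizer (b.φ '' fourSet 4) := by
      rw [mem_centralizer_iff]
      rintro _ ⟨y, ⟨hy2, hys, hy4⟩, rfl⟩
      obtain ⟨i, rfl⟩ := adapt_four y hy2 hys hy4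
      rw [← hd, map_mul, map_mul, map_inv]
      have := Commute.conj (him i) (b.φ d)⁻¹
      rw [inv_inv] at this
      exact this.eq.symm
    have hsup : b.φ.range ⊔ b.ψ.range ≤ Θ.range := sup_le (by rintro _ ⟨y, rfl⟩; exact hφr y)
      (by rintro _ ⟨y, rfl⟩; exact hψr y)
    have h2 := mul_mem (mul_mem (hφr d) (hsup (hfour 4 (Or.inr rfl) hmem))) (Θ.range.inv_mem (hφr d))
    simpa [mul_assoc] using h2

end Base

end CfsgLib.SymEightThree
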