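import Cfsg.Prelude.Def_Local
import Cfsg.Agent.Lib.Solvable.Core
import Cfsg.Agent.Lib.Invol.GlaubermanZStar
import Cfsg.Agent.Lib.Invol.Dihedral
import Mathlib.GroupTheory.SchurZassenhaus

/-!
A consequence of the theorem of Glauberman for two commuting involutions: if the coset of `b` is
isolated in the centraliser of `i` modulo `⟨i⟩`, the core of the centraliser moves every element
into the stabiliser of the coset.
-/

set_option autoImplicit false
set_option linter.style.haveILetI false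

namespace CfsgLib.SymEightThree

open Subgroup

theorem core_le_centralizer {G : Type*} [Group G] (i : G) :
    Cfsg.centralizerPPrimeCore 2 i ≤ centralizer ({i} : Set G) := map_subtype_le _

theorem core_odd {G : Type*} [Group G] [Finite G] (i : G) :
    Odd (Nat.card (Cfsg.centralizerPPrimeCore 2 i)) := by
  rw [Cfsg.centralizerPPrimeCore, card_map_of_injective (subtype_injective _)]
  exact Nat.coprime_two_right.mp (CfsgLib.Solvable.pPrimeCore_card_coprime 2 _)

theorem core_conj_mem {G : Type*} [Group G] [Finite G] {i g k : G}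
    (hg : g ∈ centralizer ({i} : Set G)) (hk : k ∈ Cfsg.centralizerPPrimeCore 2 i) :
    g * k * g⁻¹ ∈ Cfsg.centralizerPPrimeCore 2 i := by
  obtain ⟨x, hx, rfl⟩ := hk
  exact ⟨⟨g, hg⟩ * x * ⟨g, hg⟩⁻¹,
    (CfsgLib.Solvable.pPrimeCore_normal 2 _).conj_mem x hx ⟨g, hg⟩, rfl⟩

theorem le_core {G : Type*} [Group G] [Finite G] {i : G} {R : Subgroup G}
    (hR : R ≤ centralizer ({i} : Set G)) (hodd : Odd (Nat.card R))
    (hn : ∀ g ∈ centralizer ({i} : Set G), ∀ r ∈ R, g * r * g⁻¹ ∈ R) :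
    R ≤ Cfsg.centralizerPPrimeCore 2 i := by
  intro r hr
  refine ⟨⟨r, hR hr⟩, CfsgLib.Solvable.le_pPrimeCore
    (N := R.subgroupOf (centralizer ({i} : Set G))) ⟨fun x hx g => hn g g.2 x hx⟩ ?_ hr, rfl⟩
  rw [Nat.card_congr (subgroupOfEquivOfLe hR).toEquiv]
  exact Nat.coprime_two_right.mpr hodd

theorem exists_core_fix {G : Type*} [Group G] [Finite G] {i b : G} (hi : i * i = 1)
    (hi1 : i ≠ 1) (hb : b * b = 1) (hb1 : b ≠ 1) (hbi : b ≠ i) {P : Subgroup G}
    (hPC : P ≤ centralizer ({i} : Set G)) (hP : IsPGroup 2 P) (hbP : b ∈ P) (hiP : i ∈ P)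
    (hmax : ∀ Q : Subgroup G, IsPGroup 2 Q → P ≤ Q → Q ≤ centralizer ({i} : Set G) → Q ≤ P)
    (hiso : ∀ g ∈ centralizer ({i} : Set G), g * b * g⁻¹ ∈ P →
      g * b * g⁻¹ = b ∨ g * b * g⁻¹ = b * i)
    {g : G} (hg : g ∈ centralizer ({i} : Set G)) :
    ∃ k ∈ Cfsg.centralizerPPrimeCore 2 i,
      k * g * b * (k * g)⁻¹ = b ∨ k * g * b * (k * g)⁻¹ = b * i := by
  classical
  haveI : Fact (Nat.Prime 2) := ⟨Nat.prime_two⟩
  set C := centralizer ({i} : Set G) with hC
  let a : C := ⟨i, hPC hiP⟩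
  haveI : (zpowers a).Normal := ⟨fun x hx c => by
    obtain ⟨n, rfl⟩ := mem_zpowers_iff.mp hx
    have hc : Commute c a := Subtype.ext (mem_centralizer_singleton_iff.mp c.2)
    rw [(hc.zpow_right n).eq, mul_inv_cancel_right]
    exact zpow_mem (mem_zpowers a) n⟩
  set π := QuotientGroup.mk' (zpowers a) with hπ
  have hker : ∀ x : C, x ∈ zpowers a → x = 1 ∨ x = a := by
    intro x hx
    obtain ⟨n, rfl⟩ := mem_zpowers_iff.mp hx
    rcases Int.even_or_odd n with ⟨l, rfl⟩ | ⟨l, rfl⟩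
    · exact Or.inl (by rw [← two_mul, zpow_mul, zpow_ofNat, pow_two,
        show a * a = 1 from Subtype.ext hi, one_zpow])
    · exact Or.inr (by rw [zpow_add_one, zpow_mul, zpow_ofNat, pow_two,
        show a * a = 1 from Subtype.ext hi, one_zpow, one_mul])
  -- the Sylow subgroup
  have hP' : IsPGroup 2 (P.subgroupOf C) := hP.of_equiv (subgroupOfEquivOfLe hPC).symm
  obtain ⟨S, hS⟩ := hP'.exists_le_sylow
  have hSeq : (S : Subgroup C) = P.subgroupOf C := le_antisymm (fun x hx => hmax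
    ((S : Subgroup C).map C.subtype) (S.2.map _)
    (fun y hy => ⟨⟨y, hPC hy⟩, hS hy, rfl⟩) (map_subtype_le _) ⟨x, hx, rfl⟩) hS
  have hsurj : Function.Surjective π := QuotientGroup.mk'_surjective _
  let S' : Sylow 2 (C ⧸ zpowers a) := S.mapSurjective hsurj
  set σ := π ⟨b, hPC hbP⟩ with hσ
  have hσ1 : σ ≠ 1 := fun h => by
    rcases hker _ ((QuotientGroup.eq_one_iff _).mp h) with h' | h'
    · exact hb1 (congrArg Subtype.val h')
    · exact hbi (congrArg Subtype.val h')
  have hσ2 : σ * σ = 1 := by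
    rw [hσ, ← map_mul, show (⟨b, hPC hbP⟩ : C) * ⟨b, hPC hbP⟩ = 1 from Subtype.ext hb, map_one]
  obtain ⟨N, hNn, hNo, hNc⟩ := CfsgLib.Invol.zStar_sylow S' σ
    (orderOf_eq_prime (by rw [pow_two, hσ2]) hσ1) (by
      intro h hh
      obtain ⟨c, rfl⟩ := hsurj h
      rw [hσ, ← map_inv, ← map_mul, ← map_mul] at hh ⊢
      obtain ⟨s, hs, hsc⟩ := hh
      have hin : c * ⟨b, hPC hbP⟩ * c⁻¹ ∈ P.subgroupOf C := by
        have h1 := QuotientGroup.eq.mp hsc
        have h2 : s⁻¹ * (c * ⟨b, hPC hbP⟩ * c⁻¹) ∈ P.subgroupOf C := by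
          rcases hker _ h1 with h' | h' <;> rw [h']
          · exact one_mem _
          · exact hiP
        have h3 := mul_mem (hSeq ▸ hs) h2
        rwa [mul_inv_cancel_left] at h3
      rcases hiso (c : G) c.2 hin with h' | h'
      · exact congrArg π (Subtype.ext h' : c * ⟨b, hPC hbP⟩ * c⁻¹ = ⟨b, hPC hbP⟩)
      · refine (congrArg π (Subtype.ext h' :
          c * ⟨b, hPC hbP⟩ * c⁻¹ = ⟨b, hPC hbP⟩ * a)).trans ?_
        rw [map_mul, show π a = 1 from (QuotientGroup.eq_one_iff a).mpr (mem_zpowers a), mul_one])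
  -- conjugation by an element of the core
  set h := π ⟨g, hg⟩ with hh
  set σ' := h * σ * h⁻¹ with hσ'
  have hσi : σ⁻¹ = σ := inv_eq_of_mul_eq_one_right hσ2
  have hσ'2 : σ' * σ' = 1 := by rw [hσ', conj_mul, hσ2, mul_one, mul_inv_cancel]
  have hmem : σ * σ' ∈ N := by
    have h1 := hNc h
    rw [hσi] at h1
    rw [hσ']
    simpa [mul_assoc] using hNn.conj_mem _ h1 1
  obtain ⟨m, hm⟩ : Odd (orderOf (σ * σ')) :=
    hNo.of_dvd_nat (Subgroup.orderOf_dvd_natCard N hmem)
  set k := (σ * σ') ^ m with hk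
  have hkconj : k * σ * k⁻¹ = σ' := by
    have hinv := CfsgLib.Invol.conj_prod hσ2 hσ'2
    have h1 := CfsgLib.Invol.conj_zpow_of_inverts hinv (m : ℤ)
    rw [zpow_natCast, zpow_neg, zpow_natCast, ← hk] at h1
    calc k * σ * k⁻¹ = k * (σ * k⁻¹ * σ⁻¹) * σ := by simp [mul_assoc]
      _ = k * k * σ := by
          rw [show σ * k⁻¹ * σ⁻¹ = (σ * k * σ⁻¹)⁻¹ by simp [mul_assoc], h1, inv_inv]
      _ = σ' := by
          have hkk : k * k * (σ * σ') = 1 := by
            rw [hk, ← pow_add, ← pow_succ, show m + m + 1 = 2 * m + 1 by omega, ← hm,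
              pow_orderOf_eq_one]
          rw [eq_inv_of_mul_eq_one_left hkk, mul_inv_rev, hσi, inv_eq_of_mul_eq_one_right hσ'2,
            mul_assoc, hσ2, mul_one]
  obtain ⟨k₀, hk₀⟩ := hsurj k⁻¹
  -- an element of odd order with the same image
  set n := Nat.card N with hn
  have hkn : (k₀ ^ n) ∈ zpowers a := by
    refine (QuotientGroup.eq_one_iff _).mp ?_
    show π (k₀ ^ n) = 1
    rw [map_pow, hk₀]
    exact congrArg Subtype.val (pow_card_eq_one'
      (x := (⟨k⁻¹, inv_mem (pow_mem hmem m)⟩ : N)))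
  have hn1 : Even (n + 1) := hNo.add_one
  set kk := k₀ ^ (n + 1) with hkk
  have hkkn : kk ^ n = 1 := by
    rw [hkk, ← pow_mul, mul_comm, pow_mul]
    rcases hker _ hkn with h' | h' <;> rw [h']
    · exact one_pow _
    · obtain ⟨l, hl⟩ := hn1
      rw [hl, ← two_mul, pow_mul, pow_two, show a * a = 1 from Subtype.ext hi, one_pow]
  have hkπ : π kk = k⁻¹ := by
    rw [hkk, map_pow, hk₀, pow_succ, show (k⁻¹) ^ n = 1 from congrArg Subtype.val
      (pow_card_eq_one' (x := (⟨k⁻¹, inv_mem (pow_mem hmem m)⟩ : N))), one_mul]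
  -- the elements of odd order of the preimage
  haveI := hNn
  set M := N.comap π with hM
  haveI : M.Normal := hNn.comap _
  have haM : a ∈ M := show π a ∈ N by
    rw [show π a = 1 from (QuotientGroup.eq_one_iff a).mpr (mem_zpowers a)]; exact one_mem N
  let a' : M := ⟨a, haM⟩
  haveI : (zpowers a').Normal := ⟨fun x hx c => by
    obtain ⟨j, rfl⟩ := mem_zpowers_iff.mp hx
    have hc : Commute c a' := Subtype.ext (Subtype.ext (mem_centralizer_singleton_iff.mp c.1.2))
    rw [(hc.zpow_right j).eq, mul_inv_cancel_right]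
    exact zpow_mem (mem_zpowers a') j⟩
  have hoa : Nat.card (zpowers a') = 2 := by
    rw [Nat.card_zpowers]
    exact orderOf_eq_prime (Subtype.ext (by
      show a ^ 2 = 1
      rw [pow_two]; exact Subtype.ext hi)) fun h' =>
        hi1 (congrArg Subtype.val (congrArg Subtype.val h'))
  let f : M →* N := (π.comp M.subtype).codRestrict N fun x => x.2
  have hf : Function.Surjective f := fun y => by
    obtain ⟨x, hx⟩ := hsurj y.1
    exact ⟨⟨x, show π x ∈ N from hx ▸ y.2⟩, Subtype.ext hx⟩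
  have hfker : f.ker = zpowers a' := by
    ext x
    rw [MonoidHom.mem_ker, Subtype.ext_iff]
    refine (QuotientGroup.eq_one_iff (x : C)).trans ⟨fun hx => ?_, fun hx => ?_⟩
    · obtain ⟨j, hj⟩ := mem_zpowers_iff.mp hx
      exact mem_zpowers_iff.mpr ⟨j, Subtype.ext (by rw [SubgroupClass.coe_zpow]; exact hj)⟩
    · obtain ⟨j, hj⟩ := mem_zpowers_iff.mp hx
      exact mem_zpowers_iff.mpr ⟨j, by rw [← hj, SubgroupClass.coe_zpow]⟩
  have hidx : (zpowers a').index = n := by
    rw [← hfker, Subgroup.index_ker, MonoidHom.range_eq_top.mpr hf, card_top]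
  obtain ⟨K₀, hK₀⟩ := exists_right_complement'_of_coprime (N := zpowers a')
    (by rw [hoa, hidx]; exact Nat.coprime_two_left.mpr hNo)
  have hK₀card : Nat.card K₀ = n := by rw [← hK₀.symm.index_eq_card, hidx]
  set R₀ : Subgroup C := closure {x | x ∈ M ∧ x ^ n = 1} with hR₀
  have hR₀K : R₀ ≤ K₀.map M.subtype := by
    rw [hR₀, closure_le]
    rintro x ⟨hxM, hxn⟩
    obtain ⟨⟨j, q⟩, hjq⟩ := hK₀.2 ⟨x, hxM⟩
    change (j : M) * (q : M) = ⟨x, hxM⟩ at hjq
    have hqn : ((q : M) : C) ^ n = 1 := by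
      rw [← hK₀card]
      exact congrArg (fun y : K₀ => ((y : M) : C)) (pow_card_eq_one' (x := q))
    have hja : ((j : M) : C) = 1 ∨ ((j : M) : C) = a := by
      refine hker _ ?_
      obtain ⟨l, hl⟩ := mem_zpowers_iff.mp j.2
      exact mem_zpowers_iff.mpr ⟨l, by rw [← hl, SubgroupClass.coe_zpow]⟩
    have hx' : x = ((j : M) : C) * ((q : M) : C) := (congrArg Subtype.val hjq).symm
    rcases hja with h' | h' <;> rw [h'] at hx'
    · exact ⟨q, q.2, by rw [hx', one_mul]; rfl⟩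
    · exfalso
      have hc : Commute a ((q : M) : C) :=
        Subtype.ext (mem_centralizer_singleton_iff.mp (q : M).1.2).symm
      have han : a ^ n = a := by
        obtain ⟨l, hl⟩ := hNo
        rw [hl, pow_succ, pow_mul, pow_two, show a * a = 1 from Subtype.ext hi, one_pow, one_mul]
      rw [hx', hc.mul_pow, hqn, mul_one, han] at hxn
      exact hi1 (congrArg Subtype.val hxn)
  set R := R₀.map C.subtype with hR
  have hRO : R ≤ Cfsg.centralizerPPrimeCore 2 i := by
    refine le_core (map_subtype_le _) ?_ ?_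
    · rw [hR, card_map_of_injective C.subtype_injective]
      refine Odd.of_dvd_nat ?_ (card_dvd_of_le hR₀K)
      rw [card_map_of_injective M.subtype_injective, hK₀card]
      exact hNo
    · intro c hc r hr
      obtain ⟨x, hx, rfl⟩ := hr
      refine ⟨⟨c, hc⟩ * x * ⟨c, hc⟩⁻¹, ?_, rfl⟩
      induction hx using closure_induction with
      | mem y hy =>
        exact subset_closure ⟨(inferInstance : M.Normal).conj_mem y hy.1 _,
          by rw [conj_pow, hy.2, mul_one, mul_inv_cancel]⟩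
      | one => simp
      | mul y z _ _ hy hz => rw [← conj_mul]; exact mul_mem hy hz
      | inv y _ hy => rw [← conj_inv]; exact inv_mem hy
  refine ⟨(kk : G), hRO ⟨kk, subset_closure
    ⟨show π kk ∈ N from hkπ ▸ inv_mem (pow_mem hmem m), hkkn⟩, rfl⟩, ?_⟩
  set c := kk * ⟨g, hg⟩ with hcdef
  have hcs : π (c * ⟨b, hPC hbP⟩ * c⁻¹) = π ⟨b, hPC hbP⟩ := by
    rw [map_mul, map_mul, map_inv, hcdef, map_mul, hkπ, ← hh, ← hσ]
    calc k⁻¹ * h * σ * (k⁻¹ * h)⁻¹ = k⁻¹ * (h * σ * h⁻¹) * k := by group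
      _ = σ := by rw [← hσ', ← hkconj]; group
  rcases hker _ (QuotientGroup.eq.mp hcs.symm) with h' | h'
  · exact Or.inl (congrArg Subtype.val (inv_mul_eq_one.mp h').symm)
  · exact Or.inr (congrArg Subtype.val (show c * ⟨b, hPC hbP⟩ * c⁻¹ = ⟨b, hPC hbP⟩ * a by
      rw [← h', mul_inv_cancel_left]))

end CfsgLib.SymEightThree
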