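import Cfsg.Agent.Lib.SymEightThree.ExcModel

/-!
The certificate: an action on the product of the two four-groups fixing `tR`, commuting with the
action of `ee` and different from that action and the identity generates a forbidden action.
-/

set_option autoImplicit false
set_option maxRecDepth 100000

namespace CfsgLib.SymEightThree.Model

/-- The powers of the action of `wSigL`. -/
def zAct : List (List (Fin 16)) :=
  [List.finRange 16, hTab.getD 1 [], (hTab.getD 1 []).map fun i => hAct 1 i]

/-- The word of the certificate for given images. -/
def certWord (x y z : Fin 16) : List (Bool × Fin 36) :=
  ((cert.find? fun p => p.1 == (x, y, z)).map Prod.snd).getD []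

/-- The Boolean check of the certificate. -/
def certOk (x y z : Fin 16) : Bool :=
  let g := (List.finRange 16).map (lin x y z)
  if (List.finRange 16).map (fun i => g.getD (uAct i).val 0) == g.map uAct && g.Nodup then
    g == List.finRange 16 || g == uTab ||
      (let r := (List.finRange 16).map (evalWord (fun i => g.getD i.val 0) (certWord x y z))
       r.getD 1 0 == 1 && r.getD 2 0 == 2 && !zAct.contains r)
  else true

theorem certOk_all : ∀ x y z : Fin 16, certOk x y z = true := by decide +kernel

end CfsgLib.SymEightThree.Model
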