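import Cfsg.Agent.Lib.SymEightThree.ExcFacts
import Cfsg.Agent.Lib.SymEightThree.ExcCert

/-!
Finite facts about the Sylow subgroup of order thirty-two of the centraliser of `(1, t5)` in the
exceptional model.
-/

set_option autoImplicit false
set_option maxRecDepth 100000

namespace CfsgLib.SymEightThree.Model

open Equiv

/-- The elements of the Sylow subgroup of order thirty-two. -/
def s32 (i : Fin 32) : W :=
  (if i.val < 16 then 1 else ee) * jel ⟨i.val % 16, Nat.mod_lt _ (by norm_num)⟩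

/-- Sixty-four elements centralising `(t5, t5)`. -/
def s64 (i : Fin 64) : W :=
  (if i.val < 32 then 1 else ss) * s32 ⟨i.val % 32, Nat.mod_lt _ (by norm_num)⟩

theorem s32_mem : ∀ i : Fin 32, s32 i ∈ W0 ∧ s32 i * tR = tR * s32 i ∧ s32 i * tL = tL * s32 i := by
  decide +kernel

theorem s32_cover : ∀ i k : Fin 8, Perm.sign (d8 i) * Perm.sign (d8 k) = 1 →
    ∃ m : Fin 32, s32 m = ⟨d8 i, d8 k, false⟩ := by decide +kernel

theorem s32_big : ∀ q : Fin 32, 16 ≤ q.val →
    (Finset.univ.filter fun k : Fin 32 => s32 k * s32 k = 1 ∧ s32 k * s32 q = s32 q * s32 k).card ≤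
      15 := by decide +kernel

theorem s32_small : ∀ i : Fin 16, s32 ⟨i.val, by omega⟩ = jel i := by decide +kernel

theorem jel_sq : ∀ i : Fin 16, jel i * jel i = 1 := by decide +kernel

theorem jel_comm : ∀ i k : Fin 16, jel i * jel k = jel k * jel i := by decide +kernel

theorem jel_inj : ∀ i k : Fin 16, jel i = jel k → i = k := by decide +kernel

theorem s32_uAct : ∀ q : Fin 32, 16 ≤ q.val → ∀ i : Fin 16,
    s32 q * jel i * (s32 q)⁻¹ = jel (uAct i) := by decide +kernel

theorem d8_four : ∀ i : Fin 8, d8 i * d8 i * (d8 i * d8 i) = 1 := by decide +kernel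

theorem s64_inj : ∀ i k : Fin 64, s64 i = s64 k → i = k := by decide +kernel

theorem s64_mem : ∀ i : Fin 64, s64 i ∈ W0 ∧ s64 i * tt = tt * s64 i := by decide +kernel

theorem norm_d8 : ∀ a : Perm (Fin 5), (∃ i, d8 i = a * t5 * a⁻¹) → (∃ i, d8 i = a * r5 * a⁻¹) →
    (∃ i, d8 i = a * v5 * a⁻¹) → ∃ i, d8 i = a := by decide +kernel

theorem fix_four : ∀ b : Perm (Fin 5), b * t5 = t5 * b → b * v5 = v5 * b →
    Perm.sign b = 1 ∧ ∀ i : Fin 4, b * four i = four i * b := by decide +kernel

theorem norm_four : ∀ a : Perm (Fin 5), Perm.sign a = 1 → (∃ i, four i = a * t5 * a⁻¹) →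
    (∃ i, four i = a * v5 * a⁻¹) → ∃ k : Fin 3, ∀ i : Fin 16,
      a * (jel i).a * a⁻¹ = (jel ((zAct.getD k.val []).getD i.val 0)).a ∧
        (jel i).b = (jel ((zAct.getD k.val []).getD i.val 0)).b := by
  decide +kernel

/-- The involutions with one trivial component. -/
def IsA (p : W) : Prop := p.f = false ∧ ((p.a = 1 ∧ p.b ≠ 1) ∨ (p.b = 1 ∧ p.a ≠ 1))

instance (p : W) : Decidable (IsA p) := by unfold IsA; infer_instance

theorem s32_pairs : ∀ m : Fin 32, IsA (s32 m) → IsA (s32 m * tR) →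
    s32 m = vR ∨ s32 m = vR * tR := by decide +kernel

end CfsgLib.SymEightThree.Model
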