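import Cfsg.Agent.Lib.SymEightThree.ExcBasic
import Cfsg.Agent.Lib.SymEightThree.ExcCore
import Cfsg.Agent.Lib.SymEightThree.ExcFour

/-!
The centraliser of `(1, t5)`: its Sylow subgroup has order thirty-two and it is covered by its
core and the model.
-/

set_option autoImplicit false
set_option linter.style.haveILetI false

namespace CfsgLib.SymEightThree.Model

open Subgroup Equiv

theorem isA_of_conj {c p : W} (h : c * p * c⁻¹ = tR) : IsA p := by
  obtain ⟨a, b, f⟩ := p
  obtain ⟨c1, c2, cf⟩ := c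
  have hf := congrArg W.f h
  have ha := congrArg W.a h
  have hb := congrArg W.b h
  have ht : t5 ≠ 1 := by decide
  cases f <;> cases cf <;> simp [W.mul_def, W.inv_def, tR] at hf ha hb
  · exact ⟨rfl, Or.inl ⟨ha, fun h' => ht (by rw [← hb, show b = 1 from h']; simp)⟩⟩
  · exact ⟨rfl, Or.inr ⟨ha, fun h' => ht (by rw [← hb, show a = 1 from h']; simp)⟩⟩

namespace Data

variable {G : Type*} [Group G] (e : Data G)

/-- An element centralising the four-group `⟨(1, t5), (1, v5)⟩` lies in the image. -/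
theorem mem_of_fix_four {g : G} (h1 : Commute g (e.im tR)) (h2 : Commute g (e.im vR)) :
    g ∈ e.ψ.range := by
  refine e.le_four (mem_centralizer_iff.mpr ?_)
  rintro x (rfl | rfl)
  · rw [← e.im_eq (by decide)]; exact h1.eq.symm
  · rw [← e.im_eq (by decide)]; exact h2.eq.symm

/-- The Sylow subgroup of order thirty-two of the centraliser of `(1, t5)`. -/
def P32 : Subgroup G := centralizer ({e.im tR} : Set G) ⊓ centralizer ({e.im tL} : Set G) ⊓ e.ψ.range

theorem mem_P32_iff {x : G} : x ∈ e.P32 ↔ ∃ i : Fin 32, e.im (s32 i) = x := by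
  constructor
  · rintro ⟨⟨h1, h2⟩, h3⟩
    obtain ⟨p, hp, rfl⟩ := e.exists_im h3
    have hR := e.commute_of_im hp (by decide) (mem_centralizer_singleton_iff.mp h1 : _)
    have hL := e.commute_of_im hp (by decide) (mem_centralizer_singleton_iff.mp h2 : _)
    obtain ⟨a, b, f⟩ := p
    cases f
    case true =>
      have := congrArg W.a hR
      simp [W.mul_def, tR] at this
      exact absurd this (by decide)
    obtain ⟨i, hi⟩ := mem_d8 a (congrArg W.a hL)
    obtain ⟨k, hk⟩ := mem_d8 b (congrArg W.b hR)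
    obtain ⟨m, hm⟩ := s32_cover i k (by rw [hi, hk]; exact hp)
    exact ⟨m, by rw [hm, hi, hk]⟩
  · rintro ⟨i, rfl⟩
    obtain ⟨hs, h1, h2⟩ := s32_mem i
    exact ⟨⟨mem_centralizer_singleton_iff.mpr (e.im_commute hs (by decide) h1).eq,
      mem_centralizer_singleton_iff.mpr (e.im_commute hs (by decide) h2).eq⟩, e.im_mem _⟩

theorem P32_le : e.P32 ≤ centralizer ({e.im tR} : Set G) := inf_le_left.trans inf_le_left

theorem jel_mem_P32 (i : Fin 16) : e.im (jel i) ∈ e.P32 :=
  e.mem_P32_iff.mpr ⟨⟨i.val, by omega⟩, by rw [s32_small]⟩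

theorem isPGroup_P32 : IsPGroup 2 e.P32 := by
  intro x
  obtain ⟨i, hi⟩ := e.mem_P32_iff.mp x.2
  obtain ⟨hs, h1, h2⟩ := s32_mem i
  refine ⟨2, Subtype.ext ?_⟩
  rw [SubmonoidClass.coe_pow, ← hi, ← e.im_pow hs]
  have h4 : s32 i ^ 2 ^ 2 = 1 := by
    have hex : ∀ k : Fin 32, s32 k * s32 k * (s32 k * s32 k) = 1 := by decide +kernel
    rw [show (2 : ℕ) ^ 2 = 2 + 2 from rfl, pow_add, pow_two, hex]
  rw [h4, e.im_one]
  rfl

/-- Composition of actions on the product of the two four-groups along a word. -/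
theorem exists_word_action {n : G} {g : Fin 16 → Fin 16} (hinj : Function.Injective g)
    (hg : ∀ i, n * e.im (jel i) * n⁻¹ = e.im (jel (g i))) :
    ∀ l : List (Bool × Fin 36), ∃ m : G, ∀ i, m * e.im (jel i) * m⁻¹ = e.im (jel (evalWord g l i)) := by
  have hgi : ∀ i, g (inv16 g i) = i := by
    intro i
    obtain ⟨k, hk⟩ := Finite.surjective_of_injective hinj i
    unfold inv16
    cases hf : (List.finRange 16).find? (fun k => g k == i) with
    | none => exact absurd hk (fun h => by simpa [h] using List.find?_eq_none.mp hf k (List.mem_finRange k))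
    | some j => simpa using List.find?_some hf
  intro l
  induction l with
  | nil => exact ⟨1, fun i => by simp [evalWord]⟩
  | cons x l ih =>
    obtain ⟨b, k⟩ := x
    obtain ⟨m, hm⟩ := ih
    have hh : ∀ j, e.im (hs.getD k.val 1) * e.im (jel j) * (e.im (hs.getD k.val 1))⁻¹ =
        e.im (jel (hAct k j)) := fun j => by
      rw [← e.im_conj (hs_mem k) (jel_mem j), hAct_spec]
    cases b
    · refine ⟨e.im (hs.getD k.val 1) * n⁻¹ * m, fun i => ?_⟩
      have hni : n⁻¹ * e.im (jel (evalWord g l i)) * n =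
          e.im (jel (inv16 g (evalWord g l i))) := by
        conv_lhs => rw [← hgi (evalWord g l i), ← hg]
        group
      calc _ = e.im (hs.getD k.val 1) * (n⁻¹ * (m * e.im (jel i) * m⁻¹) * n) *
            (e.im (hs.getD k.val 1))⁻¹ := by group
        _ = _ := by rw [hm, hni, hh]; rfl
    · refine ⟨e.im (hs.getD k.val 1) * n * m, fun i => ?_⟩
      calc _ = e.im (hs.getD k.val 1) * (n * (m * e.im (jel i) * m⁻¹) * n⁻¹) *
            (e.im (hs.getD k.val 1))⁻¹ := by group
        _ = _ := by rw [hm, hg, hh]; rfl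

/-- An element of the centraliser of `(1, t5)` normalising the Sylow subgroup lies in the image. -/
theorem mem_of_normalises {n : G} (hn : Commute n (e.im tR))
    (hP : ∀ x ∈ e.P32, n * x * n⁻¹ ∈ e.P32) : n ∈ e.ψ.range := by
  have hex : ∀ i : Fin 32, ∃ k : Fin 32, e.im (s32 k) = n * e.im (s32 i) * n⁻¹ := fun i =>
    e.mem_P32_iff.mp (hP _ (e.mem_P32_iff.mpr ⟨i, rfl⟩))
  choose σ hσ using hex
  have hinjs : ∀ i k, s32 i = s32 k → i = k := by decide +kernel
  have hσinj : Function.Injective σ := fun i k h => by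
    have h1 := hσ i
    rw [h, hσ k, mul_left_inj, mul_right_inj] at h1
    exact hinjs _ _ (e.im_inj (s32_mem k).1 (s32_mem i).1 h1).symm
  have hsmallT : (Finset.univ.filter fun k : Fin 32 => k.val < 16).card = 16 := by decide
  have hlow : ∀ i : Fin 32, i.val < 16 → (σ i).val < 16 := by
    intro q hq
    by_contra hbig
    have hbound := s32_big (σ q) (not_lt.mp hbig)
    have hsub : (Finset.univ.filter fun k : Fin 32 => k.val < 16).image σ ⊆
        Finset.univ.filter fun k : Fin 32 => s32 k * s32 k = 1 ∧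
          s32 k * s32 (σ q) = s32 (σ q) * s32 k := by
      intro k hk
      obtain ⟨i, hi, rfl⟩ := Finset.mem_image.mp hk
      have hiJ : i.val < 16 := (Finset.mem_filter.mp hi).2
      have hJ : ∀ i k : Fin 32, i.val < 16 → k.val < 16 →
          s32 i * s32 k = s32 k * s32 i ∧ s32 i * s32 i = 1 := by decide +kernel
      obtain ⟨hc, hsq⟩ := hJ i q hiJ hq
      refine Finset.mem_filter.mpr ⟨Finset.mem_univ _, ?_, ?_⟩
      · refine e.im_eq_one (mul_mem (s32_mem _).1 (s32_mem _).1) ?_
        rw [e.im_mul (s32_mem _).1 (s32_mem _).1, hσ i, conj_mul,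
          ← e.im_mul (s32_mem _).1 (s32_mem _).1, hsq, e.im_one, mul_one, mul_inv_cancel]
      · refine e.commute_of_im (s32_mem _).1 (s32_mem _).1 ?_
        rw [hσ i, hσ q]
        exact Commute.conj (e.im_commute (s32_mem _).1 (s32_mem _).1 hc) n
    have := Finset.card_le_card hsub
    rw [Finset.card_image_of_injective _ hσinj, hsmallT] at this
    omega
  let g : Fin 16 → Fin 16 := fun i => ⟨(σ ⟨i.val, by omega⟩).val, hlow _ i.2⟩
  have hg : ∀ i, n * e.im (jel i) * n⁻¹ = e.im (jel (g i)) := fun i => by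
    rw [← s32_small i, ← s32_small (g i), ← hσ]
  have hginj : Function.Injective g := fun i k h => by
    have h' : σ ⟨i.val, by omega⟩ = σ ⟨k.val, by omega⟩ := Fin.ext (congrArg (fun j : Fin 16 => j.val) h : _)
    exact Fin.ext (congrArg (fun j : Fin 32 => j.val) (hσinj h') : _)
  have hadd : ∀ i k, g (xor16 i k) = xor16 (g i) (g k) := fun i k => by
    refine jel_inj _ _ (e.im_inj (jel_mem _) (jel_mem _) ?_)
    rw [← hg, jel_mul, jel_mul, e.im_mul (jel_mem i) (jel_mem k),
      e.im_mul (jel_mem _) (jel_mem _), ← hg, ← hg]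
    group
  have hjR : jel 1 = tR := by decide
  have hjv : jel 2 = vR := by decide
  have hg1 : g 1 = 1 := jel_inj _ _ (e.im_inj (jel_mem _) (jel_mem _) (by
    rw [← hg, hjR, hn.eq, mul_inv_cancel_right]))
  have hg0 : g 0 = 0 := jel_inj _ _ (e.im_inj (jel_mem _) (jel_mem _) (by
    rw [← hg, show jel 0 = 1 by decide, e.im_one, mul_one, mul_inv_cancel]))
  have hlin : ∀ i, g i = lin (g 2) (g 4) (g 8) i := by
    have hbasis : ∀ i : Fin 16, i = lin 2 4 8 i := by decide +kernel
    intro i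
    conv_lhs => rw [hbasis i]
    unfold lin
    rw [hadd, hadd, hadd]
    congr 1 <;> congr 1
    · cases i.val.testBit 0 <;> simp [hg0, hg1]
    · cases i.val.testBit 1 <;> simp [hg0]
    · cases i.val.testBit 2 <;> simp [hg0]
    · cases i.val.testBit 3 <;> simp [hg0]
  -- commutation with the action of `ee`
  have hu : ∀ i, g (uAct i) = uAct (g i) := by
    intro i
    have h16 : s32 16 = ee := by decide
    have hbig : 16 ≤ (σ 16).val := by
      by_contra hlt
      obtain ⟨i₀, hi₀⟩ := Finite.surjective_of_injective hginj ⟨(σ 16).val, not_le.mp hlt⟩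
      have h' : σ ⟨i₀.val, by omega⟩ = σ 16 := Fin.ext (congrArg (fun j : Fin 16 => j.val) hi₀ : _)
      have := congrArg Fin.val (hσinj h')
      simp at this
      omega
    refine jel_inj _ _ (e.im_inj (jel_mem _) (jel_mem _) ?_)
    rw [← hg, ← uAct_spec, ← s32_uAct (σ 16) hbig, e.im_conj (s32_mem _).1 (jel_mem _), hσ, h16,
      e.im_conj (by decide) (jel_mem _), ← hg]
    group
  have hmap : (List.finRange 16).map g = (List.finRange 16).map (lin (g 2) (g 4) (g 8)) :=
    List.map_congr_left fun i _ => hlin i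
  have hget : ∀ i : Fin 16, ((List.finRange 16).map g).getD i.val 0 = g i := by
    intro i
    simp [List.getD_eq_getElem?_getD]
  have hnodup : ((List.finRange 16).map g).Nodup :=
    (List.nodup_finRange 16).map hginj
  have hcomm : ((List.finRange 16).map fun i => ((List.finRange 16).map g).getD (uAct i).val 0) =
      ((List.finRange 16).map g).map uAct := by
    rw [List.map_map]
    exact List.map_congr_left fun i _ => by rw [hget]; exact hu i
  have hok := certOk_all (g 2) (g 4) (g 8)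
  unfold certOk at hok
  simp only [← hmap, hcomm, beq_self_eq_true, Bool.true_and, decide_eq_true hnodup, if_true] at hok
  simp only [Bool.or_eq_true, beq_iff_eq] at hok
  have hfix : ∀ m : G, (∀ i, (i = 1 ∨ i = 2) → m * e.im (jel i) * m⁻¹ = e.im (jel i)) →
      m ∈ e.ψ.range := fun m hm => e.mem_of_fix_four
    (by rw [← hjR]; exact mul_inv_eq_iff_eq_mul.mp (hm 1 (Or.inl rfl)))
    (by rw [← hjv]; exact mul_inv_eq_iff_eq_mul.mp (hm 2 (Or.inr rfl)))
  rcases hok with (hid | hut) | hbad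
  · refine hfix n fun i hi => ?_
    rw [hg, ← hget, hid]
    simp [List.getD_eq_getElem?_getD]
  · have hm : (e.im ee)⁻¹ * n ∈ e.ψ.range := hfix _ fun i hi => by
      have h1 : g i = uAct i := by rw [← hget, hut]; rfl
      calc (e.im ee)⁻¹ * n * e.im (jel i) * ((e.im ee)⁻¹ * n)⁻¹
          = (e.im ee)⁻¹ * (n * e.im (jel i) * n⁻¹) * e.im ee := by group
        _ = _ := by
          rw [hg, h1, ← uAct_spec, e.im_conj (by decide) (jel_mem _)]; group
    simpa using mul_mem (e.im_mem ee) hm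
  · -- the word leads to a forbidden action
    exfalso
    have hgf : (fun i : Fin 16 => ((List.finRange 16).map g).getD i.val 0) = g := funext hget
    rw [hgf] at hbad
    set r := evalWord g (certWord (g 2) (g 4) (g 8)) with hr
    obtain ⟨m, hm⟩ := e.exists_word_action hginj hg (certWord (g 2) (g 4) (g 8))
    rw [← hr] at hm
    simp only [Bool.and_eq_true, beq_iff_eq, Bool.not_eq_true'] at hbad
    obtain ⟨⟨hr1, hr2⟩, hrz⟩ := hbad
    have hgetr : ∀ i : Fin 16, ((List.finRange 16).map r).getD i.val 0 = r i := by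
      intro i
      simp [List.getD_eq_getElem?_getD]
    rw [show (1 : ℕ) = (1 : Fin 16).val from rfl, hgetr] at hr1
    rw [show (2 : ℕ) = (2 : Fin 16).val from rfl, hgetr] at hr2
    obtain ⟨p, hp, hpm⟩ := e.exists_im (hfix m fun i hi => by
      rw [hm]; rcases hi with rfl | rfl
      · rw [hr1]
      · rw [hr2])
    have hp' : ∀ i, p * jel i * p⁻¹ = jel (r i) := fun i =>
      e.im_inj (mul_mem (mul_mem hp (jel_mem i)) (inv_mem hp)) (jel_mem _)
        (by rw [e.im_conj hp (jel_mem i), hpm, hm])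
    have h1 : p * tR = tR * p := by
      have := hp' 1; rw [hr1, hjR, mul_inv_eq_iff_eq_mul] at this; exact this
    have h2 : p * vR = vR * p := by
      have := hp' 2; rw [hr2, hjv, mul_inv_eq_iff_eq_mul] at this; exact this
    have hj4 : jel 4 = tL := by decide
    have hj8 : jel 8 = ⟨v5, 1, false⟩ := by decide
    obtain ⟨a, b, f⟩ := p
    cases f
    case true =>
      have := congrArg W.a h1
      simp [W.mul_def, tR] at this
      exact absurd this (by decide)
    obtain ⟨hsb, hb4⟩ := fix_four b (congrArg W.b h1) (congrArg W.b h2)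
    have hsa : Perm.sign a = 1 := by
      have := mem_W0.mp hp; simpa [hsb] using this
    have hconjA : ∀ i, a * (jel i).a * a⁻¹ = (jel (r i)).a := fun i => congrArg W.a (hp' i)
    have hfour : ∀ j : Fin 16, ∃ i, four i = (jel j).a := fun j => ⟨_, rfl⟩
    obtain ⟨k, hk⟩ := norm_four a hsa
      (by obtain ⟨i, hi⟩ := hfour (r 4); exact ⟨i, by rw [hi, ← hconjA, hj4]; rfl⟩)
      (by obtain ⟨i, hi⟩ := hfour (r 8); exact ⟨i, by rw [hi, ← hconjA, hj8]⟩)
    have hrk : ∀ i, r i = (zAct.getD k.val []).getD i.val 0 := fun i => by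
      refine jel_inj _ _ (W.ext ?_ ?_ rfl)
      · rw [← hconjA, (hk i).1]
      · rw [← (hk i).2, ← congrArg W.b (hp' i)]
        show b * (jel i).b * b⁻¹ = (jel i).b
        rw [show (jel i).b = four ⟨i.val % 4, by omega⟩ from rfl, hb4, mul_inv_cancel_right]
    have hlist : (List.finRange 16).map r = zAct.getD k.val [] := by
      have hlen : ∀ k : Fin 3, (zAct.getD k.val []).map id =
          (List.finRange 16).map fun i => (zAct.getD k.val []).getD i.val 0 := by decide +kernel
      rw [List.map_congr_left fun i _ => hrk i, ← hlen, List.map_id]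
    have hmem : ∀ k : Fin 3, zAct.contains (zAct.getD k.val []) = true := by decide +kernel
    rw [hlist, hmem] at hrz
    exact Bool.noConfusion hrz

/-- The subgroup `P32` is a maximal two-subgroup of the centraliser of `(1, t5)`. -/
theorem P32_max [Finite G] {Q : Subgroup G} (hQ : IsPGroup 2 Q) (hle : e.P32 ≤ Q)
    (hQC : Q ≤ centralizer ({e.im tR} : Set G)) : Q ≤ e.P32 := by
  haveI : Fact (Nat.Prime 2) := ⟨Nat.prime_two⟩
  by_contra hne
  haveI := hQ.isNilpotent
  have hlt : e.P32.subgroupOf Q < ⊤ := lt_top_iff_ne_top.mpr fun h =>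
    hne (subgroupOf_eq_top.mp h)
  obtain ⟨w, hwN, hwP⟩ :=
    SetLike.exists_of_lt (Group.normalizerCondition_of_isNilpotent _ hlt)
  refine hwP (mem_subgroupOf.mpr ?_)
  have hnorm : ∀ x ∈ e.P32, (w : G) * x * (w : G)⁻¹ ∈ e.P32 := fun x hx =>
    mem_subgroupOf.mp ((mem_normalizer_iff.mp hwN ⟨x, hle hx⟩).mp (mem_subgroupOf.mpr hx))
  have hwt : Commute (w : G) (e.im tR) := mem_centralizer_singleton_iff.mp (hQC w.2)
  obtain ⟨p, hp, hpw⟩ := e.exists_im (e.mem_of_normalises hwt hnorm)
  have hpt : p * tR = tR * p := e.commute_of_im hp (by decide) (hpw ▸ hwt)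
  obtain ⟨a, b, f⟩ := p
  cases f
  case true =>
    have := congrArg W.a hpt
    simp [W.mul_def, tR] at this
    exact absurd this (by decide)
  have hmem : ∀ q ∈ W0, q.f = false → e.im q ∈ e.P32 → ∃ i : Fin 8, d8 i = a * q.a * a⁻¹ :=
    fun q hq hqf hqP => by
    obtain ⟨m, hm⟩ := e.mem_P32_iff.mp (hnorm _ hqP)
    rw [← hpw, ← e.im_conj hp hq] at hm
    have h := e.im_inj (s32_mem m).1 (mul_mem (mul_mem hp hq) (inv_mem hp)) hm
    have hd : ∀ m : Fin 32, ∃ i : Fin 8, d8 i = (s32 m).a := by decide +kernel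
    obtain ⟨i, hi⟩ := hd m
    exact ⟨i, by rw [hi, h, W.mul_def, W.mul_def, hqf]; simp [W.inv_def]⟩
  have hpick : ∀ i : Fin 32, ∃ j : Fin 8, d8 j = a * (s32 i).a * a⁻¹ := fun i =>
    hmem _ (s32_mem i).1 ((by decide +kernel : ∀ i : Fin 32, (s32 i).f = false) i)
      (e.mem_P32_iff.mpr ⟨i, rfl⟩)
  obtain ⟨i, hi⟩ := norm_d8 a
    (by obtain ⟨j, hj⟩ := hpick 4; exact ⟨j, by rw [hj, show (s32 4).a = t5 by decide]⟩)
    (by obtain ⟨j, hj⟩ := hpick 16; exact ⟨j, by rw [hj, show (s32 16).a = r5 by decide]⟩)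
    (by obtain ⟨j, hj⟩ := hpick 8; exact ⟨j, by rw [hj, show (s32 8).a = v5 by decide]⟩)
  obtain ⟨k, hk⟩ := mem_d8 b (congrArg W.b hpt)
  obtain ⟨m, hm⟩ := s32_cover i k (by rw [hi, hk]; exact hp)
  exact e.mem_P32_iff.mpr ⟨m, by rw [hm, hi, hk, hpw]⟩

/-- The involutions `(1, t5)` and `(t5, t5)` are not conjugate. -/
theorem not_conj_tt [Finite G] (g : G) : g * e.im tR * g⁻¹ ≠ e.im tt := by
  intro h
  haveI : Fact (Nat.Prime 2) := ⟨Nat.prime_two⟩
  set C := centralizer ({e.im tR} : Set G) with hC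
  set T := (centralizer ({e.im tt} : Set G) ⊓ e.ψ.range).map (MulAut.conj g⁻¹).toMonoidHom with hT
  have hT2 : IsPGroup 2 T := by
    refine IsPGroup.map (fun x => ?_) _
    obtain ⟨p, hp, hpx⟩ := e.exists_im x.2.2
    have hpt := e.commute_of_im hp (by decide) (hpx ▸ mem_centralizer_singleton_iff.mp x.2.1)
    refine ⟨3, Subtype.ext ?_⟩
    rw [SubmonoidClass.coe_pow, ← hpx, ← e.im_pow hp]
    suffices p ^ 2 ^ 3 = 1 by rw [this, e.im_one]; rfl
    obtain ⟨q, hq⟩ : ∃ q, q = p * p := ⟨_, rfl⟩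
    rw [show p ^ 2 ^ 3 = q * q * (q * q) by
      rw [show (2 : ℕ) ^ 3 = 2 * (2 * 2) from rfl, pow_mul, pow_two p, ← hq, pow_mul, pow_two, pow_two]]
    have hqc : q * tt = tt * q := by
      rw [hq, mul_assoc, hpt, ← mul_assoc, hpt, mul_assoc]
    have hqf : q.f = false := by rw [hq, W.mul_def]; simp
    obtain ⟨a, b, f⟩ := q
    subst hqf
    obtain ⟨i, rfl⟩ := mem_d8 a (congrArg W.a hqc)
    obtain ⟨k, rfl⟩ := mem_d8 b (congrArg W.b hqc)
    exact W.ext (d8_four i) (d8_four k) rfl
  have hTC : T ≤ C := by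
    rintro _ ⟨x, hx, rfl⟩
    rw [hC, mem_centralizer_singleton_iff]
    show g⁻¹ * x * g⁻¹⁻¹ * e.im tR = e.im tR * (g⁻¹ * x * g⁻¹⁻¹)
    have hc := mem_centralizer_singleton_iff.mp hx.1
    rw [← h] at hc
    calc g⁻¹ * x * g⁻¹⁻¹ * e.im tR = g⁻¹ * (x * (g * e.im tR * g⁻¹)) * g := by group
      _ = g⁻¹ * (g * e.im tR * g⁻¹ * x) * g := by rw [hc]
      _ = e.im tR * (g⁻¹ * x * g⁻¹⁻¹) := by group
  have h64 : 64 ≤ Nat.card T := by
    rw [hT, card_map_of_injective (MulAut.conj g⁻¹).injective]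
    let f : Fin 64 → ↥(centralizer ({e.im tt} : Set G) ⊓ e.ψ.range) := fun i => ⟨e.im (s64 i),
      mem_centralizer_singleton_iff.mpr (e.im_commute (s64_mem i).1 (by decide) (s64_mem i).2).eq,
      e.im_mem _⟩
    have hf : Function.Injective f := fun i k hik =>
      s64_inj _ _ (e.im_inj (s64_mem i).1 (s64_mem k).1 (congrArg Subtype.val hik))
    calc 64 = Nat.card (Fin 64) := by simp
      _ ≤ _ := Nat.card_le_card_of_injective f hf
  have h32 : Nat.card e.P32 ≤ 32 := by
    let f : Fin 32 → e.P32 := fun i => ⟨e.im (s32 i), e.mem_P32_iff.mpr ⟨i, rfl⟩⟩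
    have hf : Function.Surjective f := fun x => by
      obtain ⟨i, hi⟩ := e.mem_P32_iff.mp x.2
      exact ⟨i, Subtype.ext hi⟩
    calc Nat.card e.P32 ≤ Nat.card (Fin 32) := Nat.card_le_card_of_surjective f hf
      _ = 32 := by simp
  have hP' : IsPGroup 2 (e.P32.subgroupOf C) :=
    e.isPGroup_P32.of_equiv (subgroupOfEquivOfLe e.P32_le).symm
  obtain ⟨S, hS⟩ := hP'.exists_le_sylow
  have hSle : (S : Subgroup C).map C.subtype ≤ e.P32 := e.P32_max (S.2.map _)
    (fun y hy => ⟨⟨y, e.P32_le hy⟩, hS hy, rfl⟩) (map_subtype_le _)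
  obtain ⟨R, hR⟩ := (hT2.of_equiv (subgroupOfEquivOfLe hTC).symm).exists_le_sylow
  have h1 : Nat.card T ≤ Nat.card (S : Subgroup C) := by
    rw [S.card_eq_multiplicity, ← R.card_eq_multiplicity,
      ← Nat.card_congr (subgroupOfEquivOfLe hTC).toEquiv]
    exact card_le_of_le hR
  have h2 : Nat.card (S : Subgroup C) ≤ Nat.card e.P32 := by
    rw [← card_map_of_injective C.subtype_injective]
    exact card_le_of_le hSle
  omega

/-- The centraliser of `(1, t5)` is covered by its core and the image. -/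
theorem exists_split_tR [Finite G] {g : G} (hg : Commute g (e.im tR)) :
    ∃ k ∈ Cfsg.centralizerPPrimeCore 2 (e.im tR), k * g ∈ e.ψ.range := by
  have ht : tR ∈ W0 := by decide
  have hv : vR ∈ W0 := by decide
  have hvt : vR * tR ∈ W0 := by decide
  have hA : ∀ (w : G) (p : W), p ∈ W0 → w * e.im tR * w⁻¹ = e.im p → IsA p := by
    intro w p hp h
    obtain ⟨c, hc, hcp | hcp⟩ := e.conj_tR_cases hp h
    · exact isA_of_conj hcp
    · exact absurd (show e.im c * w * e.im tR * (e.im c * w)⁻¹ = e.im tt by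
        rw [← hcp, e.im_conj hc hp, ← h]; group) (e.not_conj_tt _)
  let d : W := ⟨1, swap 1 3 * swap 0 3, false⟩
  have hd : d ∈ W0 := by decide
  obtain ⟨k, hk, hcase⟩ := exists_core_fix (i := e.im tR) (b := e.im vR)
    (by rw [← e.im_mul ht ht, show tR * tR = 1 by decide, e.im_one])
    (fun h => absurd (e.im_eq_one ht h) (by decide))
    (by rw [← e.im_mul hv hv, show vR * vR = 1 by decide, e.im_one])
    (fun h => absurd (e.im_eq_one hv h) (by decide))
    (fun h => absurd (e.im_inj hv ht h) (by decide))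
    e.P32_le e.isPGroup_P32
    (by rw [← show jel 2 = vR by decide]; exact e.jel_mem_P32 2)
    (by rw [← show jel 1 = tR by decide]; exact e.jel_mem_P32 1)
    (fun Q hQ hle hQC => e.P32_max hQ hle hQC)
    (by
      intro w hw hwP
      obtain ⟨m, hm⟩ := e.mem_P32_iff.mp hwP
      have hwt := mem_centralizer_singleton_iff.mp hw
      have hd1 : (e.im d)⁻¹ * e.im tR * e.im d = e.im vR := by
        rw [show vR = d⁻¹ * tR * d⁻¹⁻¹ by decide, e.im_conj (inv_mem hd) ht, e.im_inv hd, inv_inv]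
      have hd2 : (e.im (d * wSigR))⁻¹ * e.im tR * e.im (d * wSigR) = e.im (vR * tR) ∨
          (e.im (d * wSigR⁻¹))⁻¹ * e.im tR * e.im (d * wSigR⁻¹) = e.im (vR * tR) := by
        have hd' : d * wSigR ∈ W0 ∧ d * wSigR⁻¹ ∈ W0 := by decide
        rcases (show (d * wSigR)⁻¹ * tR * (d * wSigR)⁻¹⁻¹ = vR * tR ∨
            (d * wSigR⁻¹)⁻¹ * tR * (d * wSigR⁻¹)⁻¹⁻¹ = vR * tR by decide +kernel) with h | h
        · exact Or.inl (by
            rw [← h, e.im_conj (inv_mem hd'.1) ht, e.im_inv hd'.1, inv_inv])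
        · exact Or.inr (by
            rw [← h, e.im_conj (inv_mem hd'.2) ht, e.im_inv hd'.2, inv_inv])
      have h1 : IsA (s32 m) := hA (w * (e.im d)⁻¹) _ (s32_mem m).1 (by
        rw [hm, ← hd1]; group)
      have h2 : IsA (s32 m * tR) := by
        have hm' : w * e.im (vR * tR) * w⁻¹ = e.im (s32 m * tR) := by
          rw [e.im_mul hv ht, e.im_mul (s32_mem m).1 ht, hm, ← conj_mul, hwt, mul_inv_cancel_right]
        rcases hd2 with h | h
        · exact hA (w * (e.im (d * wSigR))⁻¹) _ (mul_mem (s32_mem m).1 ht) (by rw [← hm', ← h]; group)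
        · exact hA (w * (e.im (d * wSigR⁻¹))⁻¹) _ (mul_mem (s32_mem m).1 ht)
            (by rw [← hm', ← h]; group)
      rcases s32_pairs m h1 h2 with h | h <;> rw [h] at hm
      · exact Or.inl hm.symm
      · exact Or.inr (by rw [← hm, e.im_mul hv ht]))
    (mem_centralizer_singleton_iff.mpr hg.eq)
  refine ⟨k, hk, ?_⟩
  have hkt : Commute (k * g) (e.im tR) :=
    Commute.mul_left (mem_centralizer_singleton_iff.mp (core_le_centralizer _ hk)) hg
  rcases hcase with h | h
  · exact e.mem_of_fix_four hkt (mul_inv_eq_iff_eq_mul.mp h)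
  · have he : ee ∈ W0 := by decide
    have hfix : Commute (e.im ee * (k * g)) (e.im vR) := mul_inv_eq_iff_eq_mul.mp (by
      calc e.im ee * (k * g) * e.im vR * (e.im ee * (k * g))⁻¹
          = e.im ee * (k * g * e.im vR * (k * g)⁻¹) * (e.im ee)⁻¹ := by group
        _ = _ := by rw [h, ← e.im_mul hv ht, ← e.im_conj he hvt,
            show ee * (vR * tR) * ee⁻¹ = vR by decide])
    simpa using mul_mem (inv_mem (e.im_mem ee))
      (e.mem_of_fix_four (Commute.mul_left (e.im_commute he ht (by decide)) hkt) hfix)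

end Data

end CfsgLib.SymEightThree.Model
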