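import Cfsg.Agent.Lib.SymEightThree.ExcCentT
import Cfsg.Agent.Lib.Components.Subnormal

/-!
Odd subgroups of the model normalised by the product of the two four-groups, and the centraliser
of `(t5, t5)`.
-/

set_option autoImplicit false
set_option linter.style.haveILetI false

namespace CfsgLib.SymEightThree.Model

open Subgroup Equiv

theorem f_false_of_odd {p : W} {n : ℕ} (hn : Odd n) (h : p ^ n = 1) : p.f = false := by
  cases hf : p.f
  · rfl
  · exfalso
    have key : ∀ m : ℕ, (p ^ m).f = decide (Odd m) := by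
      intro m
      induction m with
      | zero => rfl
      | succ m ih =>
        rw [pow_succ, W.mul_def]
        simp only [ih, hf]
        rcases Nat.even_or_odd m with he | ho
        · rw [decide_eq_false (Nat.not_odd_iff_even.mpr he), decide_eq_true he.add_one]; rfl
        · rw [decide_eq_true ho, decide_eq_false (Nat.not_odd_iff_even.mpr ho.add_one)]; rfl
    have := key n
    rw [h, decide_eq_true hn] at this
    exact Bool.noConfusion this

theorem pow_comp {p : W} (hf : p.f = false) (n : ℕ) :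
    (p ^ n).a = p.a ^ n ∧ (p ^ n).b = p.b ^ n ∧ (p ^ n).f = false := by
  induction n with
  | zero => exact ⟨rfl, rfl, rfl⟩
  | succ n ih =>
    rw [pow_succ, W.mul_def]
    simp [ih.1, ih.2.1, ih.2.2, hf, pow_succ]

/-- A subgroup of the model of odd order invariant under the four-group on one coordinate is
trivial on that coordinate. -/
theorem comp_eq_one (π : W → Perm (Fin 5)) (e4 : Fin 4 → W)
    (hπ : ∀ p q : W, p.f = false → q.f = false → π (p * q) = π p * π q)
    (he4 : ∀ i, (e4 i).f = false ∧ π (e4 i) = four i ∧ π (e4 i)⁻¹ = four i)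
    (R : Subgroup W) (hodd : Odd (Nat.card R)) (hinv : ∀ i, ∀ q ∈ R, e4 i * q * (e4 i)⁻¹ ∈ R)
    {q : W} (hq : q ∈ R) : π q = 1 := by
  set n := Nat.card R
  have hpow : ∀ p ∈ R, p ^ n = 1 := fun p hp =>
    congrArg Subtype.val (pow_card_eq_one' (x := (⟨p, hp⟩ : R)))
  have hf : ∀ p ∈ R, p.f = false := fun p hp => f_false_of_odd hodd (hpow p hp)
  have hπ1 : π 1 = 1 := by
    have := hπ 1 1 rfl rfl
    rwa [mul_one, left_eq_mul] at this
  have hπpow : ∀ p : W, p.f = false → ∀ m, π (p ^ m) = π p ^ m := fun p hpf m => by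
    induction m with
    | zero => simpa using hπ1
    | succ m ih => rw [pow_succ, hπ _ _ (pow_comp hpf m).2.2 hpf, ih, pow_succ]
  have hodd' : ∀ p ∈ R, π p ^ n = 1 := fun p hp => by
    rw [← hπpow p (hf p hp), hpow p hp, hπ1]
  by_contra hne
  have h15 : π q ^ 15 = 1 := by
    have h120 : ∀ a : Perm (Fin 5), a ^ 120 = 1 := fun a => by
      have h := pow_card_eq_one (x := a)
      rwa [Fintype.card_perm, Fintype.card_fin] at h
    have hdvd : orderOf (π q) ∣ 15 := by
      have h1 : orderOf (π q) ∣ 15 * 8 := orderOf_dvd_of_pow_eq_one (h120 _)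
      refine (Nat.Coprime.dvd_of_dvd_mul_right ?_ h1)
      have h2 : Odd (orderOf (π q)) := hodd.of_dvd_nat (orderOf_dvd_of_pow_eq_one (hodd' q hq))
      rw [show 8 = 2 ^ 3 from rfl]
      exact Nat.Coprime.pow_right _ (Nat.coprime_two_right.mpr h2)
    exact orderOf_dvd_iff_pow_eq_one.mp hdvd
  obtain ⟨i, k, m, h1, h2⟩ := perm_four_odd (π q) (perm_odd_order _ h15) hne
  have hcj : ∀ j : Fin 8, ∃ r ∈ R, π r = cj (π q) j := by
    intro j
    set i4 : Fin 4 := ⟨j.val % 4, by omega⟩
    obtain ⟨r, hr, hrπ⟩ : ∃ r ∈ R, π r = if j.val < 4 then π q else π q * π q := by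
      split_ifs
      · exact ⟨q, hq, rfl⟩
      · exact ⟨q * q, mul_mem hq hq, hπ q q (hf q hq) (hf q hq)⟩
    refine ⟨e4 i4 * r * (e4 i4)⁻¹, hinv i4 r hr, ?_⟩
    obtain ⟨hef, heπ, heinv⟩ := he4 i4
    rw [hπ _ _ (by rw [W.mul_def]; simp [hef, hf r hr]) (by rw [W.inv_def]; simp [hef]),
      hπ _ _ hef (hf r hr), heπ, heinv, hrπ]
    rfl
  obtain ⟨x, hx, hxπ⟩ := hcj i
  obtain ⟨y, hy, hyπ⟩ := hcj k
  obtain ⟨z, hz, hzπ⟩ := hcj m
  have hxy := mul_mem hx hy
  have hP := mul_mem hxy (mul_mem hz hxy)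
  have hπP : π (x * y * (z * (x * y))) = tri (cj (π q) i) (cj (π q) k) (cj (π q) m) := by
    rw [hπ _ _ (hf _ hxy) (hf _ (mul_mem hz hxy)), hπ _ _ (hf _ hz) (hf _ hxy),
      hπ _ _ (hf _ hx) (hf _ hy), hxπ, hyπ, hzπ]
    rfl
  have h3 := hodd' _ hP
  rw [hπP] at h3
  obtain ⟨l, hl⟩ := hodd
  rw [hl, pow_succ, pow_mul, pow_two, h2, one_pow, one_mul] at h3
  exact h1 h3

namespace Data

variable {G : Type*} [Group G] (e : Data G)

/-- The preimage of a subgroup in the model. -/
def preim (R : Subgroup G) : Subgroup W := (R.comap e.ψ).map (Subgroup.subtype W0)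

theorem mem_preim {R : Subgroup G} {q : W} : q ∈ e.preim R ↔ q ∈ W0 ∧ e.im q ∈ R := by
  constructor
  · rintro ⟨x, hx, rfl⟩
    exact ⟨x.2, by rw [show W0.subtype x = (x : W) from rfl, e.im_eq x.2]; exact hx⟩
  · rintro ⟨hq, h⟩
    refine ⟨⟨q, hq⟩, ?_, rfl⟩
    show e.ψ ⟨q, hq⟩ ∈ R
    rw [← e.im_eq hq]; exact h

theorem preim_odd [Finite G] {R : Subgroup G} (hodd : Odd (Nat.card R)) :
    Odd (Nat.card (e.preim R)) := by
  rw [preim, card_map_of_injective (subtype_injective _)]
  refine hodd.of_dvd_nat ?_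
  rw [← card_map_of_injective e.inj]
  exact card_dvd_of_le (map_comap_le _ _)

/-- An element of an odd subgroup invariant under the right four-group has trivial right part. -/
theorem right_eq_one [Finite G] {R : Subgroup G} (hodd : Odd (Nat.card R))
    (hinv : ∀ i : Fin 4, ∀ x ∈ R,
      e.im (jel ⟨i.val, by omega⟩) * x * (e.im (jel ⟨i.val, by omega⟩))⁻¹ ∈ R)
    {q : W} (hq : q ∈ W0) (hqR : e.im q ∈ R) : q.b = 1 ∧ q.f = false := by
  refine ⟨comp_eq_one W.b (fun i => jel ⟨i.val, by omega⟩) ?_ (by decide +kernel) (e.preim R)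
    (e.preim_odd hodd) ?_ (e.mem_preim.mpr ⟨hq, hqR⟩), f_false_of_odd (e.preim_odd hodd)
    (congrArg Subtype.val (pow_card_eq_one' (x := (⟨q, e.mem_preim.mpr ⟨hq, hqR⟩⟩ : e.preim R))))⟩
  · intro p q hp _
    rw [W.mul_def, hp]; rfl
  · intro i p hp
    obtain ⟨hpW, hpR⟩ := e.mem_preim.mp hp
    refine e.mem_preim.mpr ⟨mul_mem (mul_mem (jel_mem _) hpW) (inv_mem (jel_mem _)), ?_⟩
    rw [e.im_conj (jel_mem _) hpW]
    exact hinv i _ hpR

/-- An element of an odd subgroup invariant under the left four-group has trivial left part. -/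
theorem left_eq_one [Finite G] {R : Subgroup G} (hodd : Odd (Nat.card R))
    (hinv : ∀ i : Fin 4, ∀ x ∈ R,
      e.im (jel ⟨4 * i.val, by omega⟩) * x * (e.im (jel ⟨4 * i.val, by omega⟩))⁻¹ ∈ R)
    {q : W} (hq : q ∈ W0) (hqR : e.im q ∈ R) : q.a = 1 := by
  refine comp_eq_one W.a (fun i => jel ⟨4 * i.val, by omega⟩) ?_ (by decide +kernel) (e.preim R)
    (e.preim_odd hodd) ?_ (e.mem_preim.mpr ⟨hq, hqR⟩)
  · intro p q hp _
    rw [W.mul_def, hp]; rfl
  · intro i p hp
    obtain ⟨hpW, hpR⟩ := e.mem_preim.mp hp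
    refine e.mem_preim.mpr ⟨mul_mem (mul_mem (jel_mem _) hpW) (inv_mem (jel_mem _)), ?_⟩
    rw [e.im_conj (jel_mem _) hpW]
    exact hinv i _ hpR

/-- An odd subgroup of the image invariant under the product of the four-groups is trivial. -/
theorem eq_bot_of_odd [Finite G] {R : Subgroup G} (hle : R ≤ e.ψ.range)
    (hodd : Odd (Nat.card R)) (hinv : ∀ i, ∀ x ∈ R, e.im (jel i) * x * (e.im (jel i))⁻¹ ∈ R) :
    R = ⊥ := by
  refine (Subgroup.eq_bot_iff_forall _).mpr fun x hx => ?_
  obtain ⟨q, hq, rfl⟩ := e.exists_im (hle hx)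
  obtain ⟨hb, hf⟩ := e.right_eq_one hodd (fun i => hinv _) hq hx
  have ha := e.left_eq_one hodd (fun i => hinv _) hq hx
  rw [show q = 1 from W.ext ha hb hf, e.im_one]

theorem jel_comm_im (i k : Fin 16) : Commute (e.im (jel i)) (e.im (jel k)) :=
  e.im_commute (jel_mem i) (jel_mem k) (jel_comm i k)

/-- The core of the centraliser of an element of the product of the four-groups meets the image
trivially. -/
theorem core_inf_range [Finite G] (j : Fin 16) :
    Cfsg.centralizerPPrimeCore 2 (e.im (jel j)) ⊓ e.ψ.range = ⊥ := by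
  refine e.eq_bot_of_odd inf_le_right ((core_odd _).of_dvd_nat (card_dvd_of_le inf_le_left)) ?_
  intro i x hx
  exact ⟨core_conj_mem (mem_centralizer_singleton_iff.mpr (e.jel_comm_im i j).eq) hx.1,
    mul_mem (mul_mem (e.im_mem _) hx.2) (e.ψ.range.inv_mem (e.im_mem _))⟩

/-- The Sylow subgroup of order sixty-four of the centraliser of `(t5, t5)`. -/
def P64 : Subgroup G := centralizer ({e.im tt} : Set G) ⊓ e.ψ.range

theorem isPGroup_P64 : IsPGroup 2 e.P64 := by
  intro x
  obtain ⟨p, hp, hpx⟩ := e.exists_im x.2.2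
  have hpt := e.commute_of_im hp (by decide) (hpx ▸ mem_centralizer_singleton_iff.mp x.2.1)
  refine ⟨3, Subtype.ext ?_⟩
  rw [SubmonoidClass.coe_pow, ← hpx, ← e.im_pow hp]
  suffices p ^ 2 ^ 3 = 1 by rw [this, e.im_one]; rfl
  obtain ⟨q, hq⟩ : ∃ q, q = p * p := ⟨_, rfl⟩
  rw [show p ^ 2 ^ 3 = q * q * (q * q) by
    rw [show (2 : ℕ) ^ 3 = 2 * (2 * 2) from rfl, pow_mul, pow_two p, ← hq, pow_mul, pow_two,
      pow_two]]
  have hqc : q * tt = tt * q := by rw [hq, mul_assoc, hpt, ← mul_assoc, hpt, mul_assoc]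
  have hqf : q.f = false := by rw [hq, W.mul_def]; simp
  obtain ⟨a, b, f⟩ := q
  subst hqf
  obtain ⟨i, rfl⟩ := mem_d8 a (congrArg W.a hqc)
  obtain ⟨k, rfl⟩ := mem_d8 b (congrArg W.b hqc)
  exact W.ext (d8_four i) (d8_four k) rfl

theorem isA_conj_tR [Finite G] {w : G} {p : W} (hp : p ∈ W0) (h : w * e.im tR * w⁻¹ = e.im p) :
    IsA p := by
  obtain ⟨c, hc, hcp | hcp⟩ := e.conj_tR_cases hp h
  · exact isA_of_conj hcp
  · exact absurd (show e.im c * w * e.im tR * (e.im c * w)⁻¹ = e.im tt by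
      rw [← hcp, e.im_conj hc hp, ← h]; group) (e.not_conj_tt _)

/-- A conjugate of `(1, t5)` under the centraliser of `(t5, t5)` lying in the image is one of the
two coordinates of `(t5, t5)`. -/
theorem conj_tR_pair [Finite G] {w : G} (hw : Commute w (e.im tt))
    (hmem : w * e.im tR * w⁻¹ ∈ e.ψ.range) :
    w * e.im tR * w⁻¹ = e.im tR ∨ w * e.im tR * w⁻¹ = e.im tL := by
  have ht : tR ∈ W0 := by decide
  have hs : ss ∈ W0 := by decide
  have hx : tt ∈ W0 := by decide
  obtain ⟨q, hq, hqw⟩ := e.exists_im hmem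
  have h1 : IsA q := e.isA_conj_tR hq hqw.symm
  have h2 : IsA (q * tt) := by
    refine e.isA_conj_tR (w := w * e.im ss) (mul_mem hq hx) ?_
    rw [e.im_mul hq hx, hqw]
    calc w * e.im ss * e.im tR * (w * e.im ss)⁻¹
        = w * (e.im ss * e.im tR * (e.im ss)⁻¹) * w⁻¹ := by group
      _ = w * e.im (tR * tt) * w⁻¹ := by
          rw [← e.im_conj hs ht, show ss * tR * ss⁻¹ = tR * tt by decide]
      _ = _ := by
          rw [e.im_mul ht hx]; simp only [mul_assoc, hw.inv_left.eq]
  have key : ∀ b : Perm (Fin 5), b * t5 = 1 → b = t5 := by decide +kernel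
  obtain ⟨a, b, f⟩ := q
  obtain ⟨hf, hab⟩ := h1
  obtain ⟨-, hab'⟩ := h2
  obtain rfl : f = false := hf
  simp only [W.mul_def, tt, cond_false] at hab'
  rcases hab with ⟨ha, hb⟩ | ⟨hb, ha⟩
  · left
    obtain rfl : a = 1 := ha
    rcases hab' with ⟨h, -⟩ | ⟨h, -⟩
    · exact absurd h (by decide)
    · obtain rfl := key b h
      exact hqw.symm
  · right
    obtain rfl : b = 1 := hb
    rcases hab' with ⟨h, -⟩ | ⟨h, -⟩
    · obtain rfl := key a h
      exact hqw.symm
    · exact absurd h (by decide)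

theorem P64_max [Finite G] {Q : Subgroup G} (hQ : IsPGroup 2 Q) (hle : e.P64 ≤ Q)
    (hQC : Q ≤ centralizer ({e.im tt} : Set G)) : Q ≤ e.P64 := by
  haveI : Fact (Nat.Prime 2) := ⟨Nat.prime_two⟩
  by_contra hne
  haveI := hQ.isNilpotent
  have hlt : e.P64.subgroupOf Q < ⊤ := lt_top_iff_ne_top.mpr fun h =>
    hne (subgroupOf_eq_top.mp h)
  obtain ⟨w, hwN, hwP⟩ :=
    SetLike.exists_of_lt (Group.normalizerCondition_of_isNilpotent _ hlt)
  refine hwP (mem_subgroupOf.mpr ⟨hQC w.2, ?_⟩)
  have hnorm : ∀ x ∈ e.P64, (w : G) * x * (w : G)⁻¹ ∈ e.P64 := fun x hx =>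
    mem_subgroupOf.mp ((mem_normalizer_iff.mp hwN ⟨x, hle hx⟩).mp (mem_subgroupOf.mpr hx))
  have hwt : Commute (w : G) (e.im tt) := mem_centralizer_singleton_iff.mp (hQC w.2)
  have ht : tR ∈ W0 := by decide
  have hx : tt ∈ W0 := by decide
  have hl : tL ∈ W0 := by decide
  have hs : ss ∈ W0 := by decide
  have key : ∀ v : G, Commute v (e.im tt) → (∀ x ∈ e.P64, v * x * v⁻¹ ∈ e.P64) →
      v * e.im tR * v⁻¹ = e.im tR → v ∈ e.ψ.range := by
    intro v hv hvP hvt
    have hvc : Commute v (e.im tR) := mul_inv_eq_iff_eq_mul.mp hvt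
    have hvL : Commute v (e.im tL) := by
      rw [show tL = tR * tt by decide, e.im_mul ht hx]; exact hvc.mul_right hv
    refine e.mem_of_normalises hvc fun x hx' => ?_
    obtain ⟨⟨h1, h2⟩, h3⟩ := hx'
    have h1' : Commute x (e.im tR) := mem_centralizer_singleton_iff.mp h1
    have h2' : Commute x (e.im tL) := mem_centralizer_singleton_iff.mp h2
    have hin : v * x * v⁻¹ ∈ e.P64 := hvP x ⟨mem_centralizer_singleton_iff.mpr (by
      rw [show tt = tR * tL by decide, e.im_mul ht hl]; exact (h1'.mul_right h2').eq), h3⟩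
    exact ⟨⟨mem_centralizer_singleton_iff.mpr (((hvc.mul_left h1').mul_left hvc.inv_left).eq),
      mem_centralizer_singleton_iff.mpr (((hvL.mul_left h2').mul_left hvL.inv_left).eq)⟩, hin.2⟩
  have hxtR : e.im tR ∈ e.P64 :=
    ⟨mem_centralizer_singleton_iff.mpr (e.im_commute ht hx (by decide)).eq, e.im_mem _⟩
  have hsP : e.im ss ∈ e.P64 :=
    ⟨mem_centralizer_singleton_iff.mpr (e.im_commute hs hx (by decide)).eq, e.im_mem _⟩
  rcases e.conj_tR_pair hwt (hnorm _ hxtR).2 with h | h
  · exact key w hwt hnorm h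
  · have := key (e.im ss * (w : G))
      (Commute.mul_left (e.im_commute hs hx (by decide)) hwt) (fun x hx' => by
        rw [show e.im ss * (w : G) * x * (e.im ss * (w : G))⁻¹ =
          e.im ss * ((w : G) * x * (w : G)⁻¹) * (e.im ss)⁻¹ by group]
        exact mul_mem (mul_mem hsP (hnorm x hx')) (inv_mem hsP)) (by
        calc e.im ss * (w : G) * e.im tR * (e.im ss * (w : G))⁻¹
            = e.im ss * ((w : G) * e.im tR * (w : G)⁻¹) * (e.im ss)⁻¹ := by group
          _ = _ := by rw [h, ← e.im_conj hs hl, show ss * tL * ss⁻¹ = tR by decide])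
    simpa using mul_mem (inv_mem (e.im_mem ss)) this

/-- The centraliser of `(t5, t5)` is covered by its core and the image. -/
theorem exists_split_tt [Finite G] {g : G} (hg : Commute g (e.im tt)) :
    ∃ k ∈ Cfsg.centralizerPPrimeCore 2 (e.im tt), k * g ∈ e.ψ.range := by
  have ht : tR ∈ W0 := by decide
  have hx : tt ∈ W0 := by decide
  have hl : tL ∈ W0 := by decide
  have hs : ss ∈ W0 := by decide
  set O := Cfsg.centralizerPPrimeCore 2 (e.im tt) with hO
  set D := centralizer ({e.im tR} : Set G) ⊓ centralizer ({e.im tt} : Set G) with hD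
  have hDn : (Cfsg.pPrimeCore 2 D).Normal := CfsgLib.Solvable.pPrimeCore_normal 2 _
  set R := (Cfsg.pPrimeCore 2 D).map D.subtype with hR
  have hRD : R ≤ D := map_subtype_le _
  have hRodd : Odd (Nat.card R) := by
    rw [hR, card_map_of_injective D.subtype_injective]
    exact Nat.coprime_two_right.mp (CfsgLib.Solvable.pPrimeCore_card_coprime 2 _)
  have hRd : ∀ d ∈ D, ∀ r ∈ R, d * r * d⁻¹ ∈ R := by
    rintro d hd _ ⟨y, hy, rfl⟩
    exact ⟨⟨d, hd⟩ * y * ⟨d, hd⟩⁻¹, hDn.conj_mem y hy ⟨d, hd⟩, rfl⟩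
  have hsD : ∀ d, d ∈ D → e.im ss * d * (e.im ss)⁻¹ ∈ D := by
    rintro d ⟨h1, h2⟩
    have h1' : Commute d (e.im tR) := mem_centralizer_singleton_iff.mp h1
    have h2' : Commute d (e.im tt) := mem_centralizer_singleton_iff.mp h2
    have hcL : Commute d (e.im tL) := by
      rw [show tL = tR * tt by decide, e.im_mul ht hx]; exact h1'.mul_right h2'
    refine ⟨mem_centralizer_singleton_iff.mpr ?_, mem_centralizer_singleton_iff.mpr ?_⟩
    · have := Commute.conj hcL (e.im ss)
      rw [← e.im_conj hs hl, show ss * tL * ss⁻¹ = tR by decide] at this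
      exact this.eq
    · have := Commute.conj h2' (e.im ss)
      rw [← e.im_conj hs hx, show ss * tt * ss⁻¹ = tt by decide] at this
      exact this.eq
  have hRs : ∀ r ∈ R, e.im ss * r * (e.im ss)⁻¹ ∈ R := by
    set φ : D →* D := ((MulAut.conj (e.im ss)).toMonoidHom.comp D.subtype).codRestrict D
      (fun d => hsD d d.2) with hφ
    have hφinj : Function.Injective φ := fun a b h =>
      Subtype.ext ((MulAut.conj (e.im ss)).injective (congrArg Subtype.val h))
    rintro _ ⟨y, hy, rfl⟩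
    refine ⟨φ y, CfsgLib.Solvable.le_pPrimeCore
      (hDn.map φ (Finite.surjective_of_injective hφinj)) ?_ ⟨y, hy, rfl⟩, rfl⟩
    rw [card_map_of_injective hφinj]
    exact CfsgLib.Solvable.pPrimeCore_card_coprime 2 _
  -- the element moving `(1, t5)` into the stabiliser
  have hfix : ∀ c : G, Commute c (e.im tt) → Commute c (e.im tR) →
      ∃ o ∈ R, o * c ∈ e.ψ.range := by
    intro c hc hct
    obtain ⟨o, ho, hor⟩ := e.exists_split_tR hct
    refine ⟨o, ?_, hor⟩
    obtain ⟨p, hp, hpo⟩ := e.exists_im hor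
    have hot : Commute o (e.im tR) := mem_centralizer_singleton_iff.mp (core_le_centralizer _ ho)
    have hj : jel 1 = tR := by decide
    have hxC : e.im tt ∈ centralizer ({e.im tR} : Set G) :=
      mem_centralizer_singleton_iff.mpr (e.im_commute hx ht (by decide)).eq
    have hcom : o * e.im tt * o⁻¹ * (e.im tt)⁻¹ = 1 := by
      have hmem : o * e.im tt * o⁻¹ * (e.im tt)⁻¹ ∈
          Cfsg.centralizerPPrimeCore 2 (e.im (jel 1)) ⊓ e.ψ.range := by
        refine ⟨?_, ?_⟩
        · rw [hj, show o * e.im tt * o⁻¹ * (e.im tt)⁻¹ =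
            o * (e.im tt * o⁻¹ * (e.im tt)⁻¹) by group]
          exact mul_mem ho (core_conj_mem hxC (inv_mem ho))
        · have : o * e.im tt * o⁻¹ = e.im p * e.im tt * (e.im p)⁻¹ := by
            rw [hpo]
            calc o * e.im tt * o⁻¹ = o * (c * e.im tt * c⁻¹) * o⁻¹ := by
                  rw [hc.eq, mul_inv_cancel_right]
              _ = _ := by group
          rw [this]
          exact mul_mem (mul_mem (mul_mem (e.im_mem _) (e.im_mem _))
            (e.ψ.range.inv_mem (e.im_mem _))) (e.ψ.range.inv_mem (e.im_mem _))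
      rwa [e.core_inf_range, mem_bot] at hmem
    have hoC : o ∈ centralizer ({e.im tt} : Set G) := mem_centralizer_singleton_iff.mpr
      (mul_inv_eq_iff_eq_mul.mp (mul_inv_eq_one.mp hcom))
    refine ⟨⟨o, mem_centralizer_singleton_iff.mpr hot.eq, hoC⟩, CfsgLib.Solvable.le_pPrimeCore
      (N := (Cfsg.centralizerPPrimeCore 2 (e.im tR)).subgroupOf D)
      ⟨fun y hy d => core_conj_mem d.2.1 hy⟩ ?_ ho, rfl⟩
    refine Nat.coprime_two_right.mpr ((core_odd (e.im tR)).of_dvd_nat ?_)
    rw [← card_map_of_injective D.subtype_injective]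
    exact card_dvd_of_le (by rw [subgroupOf_map_subtype]; exact inf_le_left)
  -- the decomposition of an element
  have hdec : ∀ g, Commute g (e.im tt) → ∃ k ∈ O, ∃ o ∈ R, o * (k * g) ∈ e.ψ.range := by
    intro g hg
    obtain ⟨k, hk, hcase⟩ := exists_core_fix (i := e.im tt) (b := e.im tR)
      (by rw [← e.im_mul hx hx, show tt * tt = 1 by decide, e.im_one])
      (fun h => absurd (e.im_eq_one hx h) (by decide))
      (by rw [← e.im_mul ht ht, show tR * tR = 1 by decide, e.im_one])
      (fun h => absurd (e.im_eq_one ht h) (by decide))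
      (fun h => absurd (e.im_inj ht hx h) (by decide))
      (show e.P64 ≤ centralizer ({e.im tt} : Set G) from inf_le_left) e.isPGroup_P64
      ⟨mem_centralizer_singleton_iff.mpr (e.im_commute ht hx (by decide)).eq, e.im_mem _⟩
      ⟨mem_centralizer_singleton_iff.mpr rfl, e.im_mem _⟩
      (fun Q hQ hle hQC => e.P64_max hQ hle hQC)
      (fun w hw hwP => by
        rcases e.conj_tR_pair (mem_centralizer_singleton_iff.mp hw) hwP.2 with h | h
        · exact Or.inl h
        · exact Or.inr (by rw [h, ← e.im_mul ht hx, show tR * tt = tL by decide]))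
      (mem_centralizer_singleton_iff.mpr hg.eq)
    have hkg : Commute (k * g) (e.im tt) :=
      Commute.mul_left (mem_centralizer_singleton_iff.mp (core_le_centralizer _ hk)) hg
    rcases hcase with h | h
    · obtain ⟨o, ho, hor⟩ := hfix _ hkg (mul_inv_eq_iff_eq_mul.mp h)
      exact ⟨k, hk, o, ho, hor⟩
    · have hsk : Commute (e.im ss * (k * g)) (e.im tR) := mul_inv_eq_iff_eq_mul.mp (by
        calc e.im ss * (k * g) * e.im tR * (e.im ss * (k * g))⁻¹
            = e.im ss * (k * g * e.im tR * (k * g)⁻¹) * (e.im ss)⁻¹ := by group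
          _ = _ := by
            rw [h, ← e.im_mul ht hx, ← e.im_conj hs (mul_mem ht hx),
              show ss * (tR * tt) * ss⁻¹ = tR by decide])
      obtain ⟨o, ho, hor⟩ := hfix _ (Commute.mul_left (e.im_commute hs hx (by decide)) hkg) hsk
      refine ⟨k, hk, _, hRs o ho, ?_⟩
      have heq : e.im ss * o * (e.im ss)⁻¹ * (k * g) =
          e.im ss * (o * (e.im ss * (k * g))) := by
        have hss : (e.im ss)⁻¹ = e.im ss := by
          rw [← e.im_inv hs, show ss⁻¹ = ss by decide]
        rw [hss]; group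
      rw [heq]
      exact mul_mem (e.im_mem _) hor
  -- `R` lies in the core
  have hRC : R ≤ centralizer ({e.im tt} : Set G) := hRD.trans inf_le_right
  have hRN : R ≤ normalizer (O : Set G) := fun r hr => mem_normalizer_iff.mpr fun y =>
    ⟨fun hy => core_conj_mem (hRC hr) hy, fun hy => by
      simpa [mul_assoc] using core_conj_mem (inv_mem (hRC hr)) hy⟩
  have hRO : R ≤ O := by
    have hL : O ⊔ R ≤ O := by
      refine le_core (sup_le (core_le_centralizer _) hRC)
        ((Odd.mul hRodd (core_odd _)).of_dvd_nat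
          (sup_comm O R ▸ CfsgLib.Components.card_sup_dvd hRN)) ?_
      intro g hg y hy
      have hmap : (O ⊔ R).map (MulAut.conj g).toMonoidHom ≤ O ⊔ R := by
        rw [Subgroup.map_sup]
        refine sup_le ?_ ?_ <;> rintro _ ⟨y, hy, rfl⟩
        · exact mem_sup_left (core_conj_mem hg hy)
        · show g * y * g⁻¹ ∈ O ⊔ R
          obtain ⟨k, hk, o, ho, hor⟩ := hdec g (mem_centralizer_singleton_iff.mp hg)
          obtain ⟨p, hp, hpo⟩ := e.exists_im hor
          have hpC : p * tt = tt * p := e.commute_of_im hp hx (by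
            rw [hpo]
            exact Commute.mul_left (mem_centralizer_singleton_iff.mp (hRC ho))
              (Commute.mul_left (mem_centralizer_singleton_iff.mp (core_le_centralizer _ hk))
                (mem_centralizer_singleton_iff.mp hg)))
          have hconj : e.im p * y * (e.im p)⁻¹ ∈ R := by
            obtain ⟨a, b, f⟩ := p
            cases f
            · have hpR : (⟨a, b, false⟩ : W) * tR = tR * ⟨a, b, false⟩ :=
                W.ext (by simp [W.mul_def, tR]) (show b * t5 = t5 * b from (congrArg W.b hpC : _)) rfl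
              exact hRd _ ⟨mem_centralizer_singleton_iff.mpr (e.im_commute hp ht hpR).eq,
                mem_centralizer_singleton_iff.mpr (e.im_commute hp hx hpC).eq⟩ y hy
            · have hps : (⟨a, b, true⟩ : W) = ⟨a, b, false⟩ * ss := by simp [W.mul_def, ss]
              have hp' : (⟨a, b, false⟩ : W) ∈ W0 := hp
              have hpR : (⟨a, b, false⟩ : W) * tR = tR * ⟨a, b, false⟩ :=
                W.ext (by simp [W.mul_def, tR]) (show b * t5 = t5 * b from (congrArg W.b hpC : _)) rfl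
              have hpC' : (⟨a, b, false⟩ : W) * tt = tt * ⟨a, b, false⟩ :=
                W.ext (show a * t5 = t5 * a from (congrArg W.a hpC : _))
                  (show b * t5 = t5 * b from (congrArg W.b hpC : _)) rfl
              rw [hps, e.im_mul hp' hs, show e.im ⟨a, b, false⟩ * e.im ss * y *
                (e.im ⟨a, b, false⟩ * e.im ss)⁻¹ = e.im ⟨a, b, false⟩ *
                (e.im ss * y * (e.im ss)⁻¹) * (e.im ⟨a, b, false⟩)⁻¹ by group]
              exact hRd _ ⟨mem_centralizer_singleton_iff.mpr (e.im_commute hp' ht hpR).eq,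
                mem_centralizer_singleton_iff.mpr (e.im_commute hp' hx hpC').eq⟩ _ (hRs y hy)
          have hgp : g * y * g⁻¹ =
              k⁻¹ * o⁻¹ * (e.im p * y * (e.im p)⁻¹) * (k⁻¹ * o⁻¹)⁻¹ := by
            rw [hpo]; group
          rw [hgp]
          have hko : k⁻¹ * o⁻¹ ∈ O ⊔ R :=
            mul_mem (mem_sup_left (inv_mem hk)) (mem_sup_right (inv_mem ho))
          exact mul_mem (mul_mem hko (mem_sup_right hconj)) (inv_mem hko)
      exact hmap ⟨y, hy, rfl⟩
    exact le_sup_right.trans hL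
  obtain ⟨k, hk, o, ho, hor⟩ := hdec g hg
  exact ⟨o * k, mul_mem (hRO ho) hk, by rwa [mul_assoc]⟩

end Data

end CfsgLib.SymEightThree.Model
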