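import Cfsg.Agent.Lib.SymEightThree.ExcBasic
import Cfsg.Agent.Lib.Components.GenFitting
import Cfsg.Agent.Lib.Components.Quasisimple
import Cfsg.Agent.Lib.Components.Layer
import Mathlib.GroupTheory.SpecificGroups.Alternating.Simple

/-!
The structure of the exceptional group: the product of the two alternating components is the
generalized Fitting subgroup, a minimal normal subgroup of index four containing all squares.
-/

set_option autoImplicit false
set_option linter.style.haveILetI false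

namespace CfsgLib.SymEightThree.Model

open Subgroup Equiv

theorem perm_center_even : ∀ a : Perm (Fin 5), a * c5 = c5 * a →
    a * (swap 2 3 * swap 3 4) = swap 2 3 * swap 3 4 * a → a = 1 := by decide +kernel

/-- The left component. -/
def leftHom : ↥(alternatingGroup (Fin 5)) →* W0 where
  toFun a := ⟨⟨a.1, 1, false⟩, mem_W0.mpr (by simp [Perm.mem_alternatingGroup.mp a.2])⟩
  map_one' := rfl
  map_mul' a b := Subtype.ext (by simp [W.mul_def])

/-- The right component. -/
def rightHom : ↥(alternatingGroup (Fin 5)) →* W0 where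
  toFun a := ⟨⟨1, a.1, false⟩, mem_W0.mpr (by simp [Perm.mem_alternatingGroup.mp a.2])⟩
  map_one' := rfl
  map_mul' a b := Subtype.ext (by simp [W.mul_def])

/-- The product of the two components. -/
def prodHom : ↥(alternatingGroup (Fin 5)) × ↥(alternatingGroup (Fin 5)) →* W0 where
  toFun a := ⟨⟨a.1.1, a.2.1, false⟩, mem_W0.mpr (by
    simp [Perm.mem_alternatingGroup.mp a.1.2, Perm.mem_alternatingGroup.mp a.2.2])⟩
  map_one' := rfl
  map_mul' a b := Subtype.ext (by simp [W.mul_def])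

theorem prodHom_injective : Function.Injective prodHom := fun a b h => by
  have h' := congrArg Subtype.val h
  exact Prod.ext (Subtype.ext (congrArg W.a h' : _)) (Subtype.ext (congrArg W.b h' : _))

theorem mem_prod_range {p : W0} :
    p ∈ prodHom.range ↔ (p : W).f = false ∧ Perm.sign (p : W).a = 1 := by
  constructor
  · rintro ⟨a, rfl⟩; exact ⟨rfl, Perm.mem_alternatingGroup.mp a.1.2⟩
  · rintro ⟨hf, hs⟩
    have hb : Perm.sign (p : W).b = 1 := by
      have := mem_W0.mp p.2; rwa [hs, one_mul] at this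
    exact ⟨(⟨_, Perm.mem_alternatingGroup.mpr hs⟩, ⟨_, Perm.mem_alternatingGroup.mpr hb⟩),
      Subtype.ext (W.ext rfl rfl hf.symm)⟩

theorem sq_mem_prod (p : W0) : p ^ 2 ∈ prodHom.range := by
  obtain ⟨⟨a, b, f⟩, hp⟩ := p
  have hs : Perm.sign a * Perm.sign b = 1 := hp
  rw [mem_prod_range, SubmonoidClass.coe_pow, pow_two, W.mul_def]
  cases f
  · refine ⟨rfl, ?_⟩
    show Perm.sign (a * a) = 1
    rw [map_mul, Int.units_mul_self]
  · refine ⟨rfl, ?_⟩
    show Perm.sign (a * b) = 1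
    rw [map_mul, hs]

/-- The two quotient signs. -/
def quotHom : W0 →* ℤˣ × ℤˣ where
  toFun p := (Perm.sign (p : W).a, if (p : W).f then -1 else 1)
  map_one' := rfl
  map_mul' p q := by
    obtain ⟨⟨a, b, f⟩, hp⟩ := p
    obtain ⟨⟨a', b', f'⟩, hq⟩ := q
    have hs : Perm.sign a' * Perm.sign b' = 1 := hq
    have hab : Perm.sign b' = Perm.sign a' := by
      rw [← inv_eq_of_mul_eq_one_right hs, Int.units_inv_eq_self]
    cases f <;> cases f' <;> simp [W.mul_def, hab]

theorem quotHom_ker : quotHom.ker = prodHom.range := by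
  ext ⟨⟨a, b, f⟩, hp⟩
  rw [MonoidHom.mem_ker, mem_prod_range]
  cases f
  · show ((Perm.sign a, (1 : ℤˣ)) = (1 : ℤˣ × ℤˣ)) ↔ _
    simp [Prod.ext_iff]
  · show ((Perm.sign a, (-1 : ℤˣ)) = (1 : ℤˣ × ℤˣ)) ↔ _
    simp [Prod.ext_iff]

theorem prod_index : prodHom.range.index = 4 := by
  rw [← quotHom_ker, Subgroup.index_ker]
  have hsurj : Function.Surjective quotHom := by
    have h : ∀ u v : ℤˣ, ∃ a : Perm (Fin 5), ∃ f : Bool,
        Perm.sign a = u ∧ (if f then (-1 : ℤˣ) else 1) = v := by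
      intro u v
      refine ⟨if u = 1 then 1 else r5, decide (v = -1), ?_, ?_⟩
      · rcases Int.units_eq_one_or u with rfl | rfl <;> decide
      · rcases Int.units_eq_one_or v with rfl | rfl <;> decide
    rintro ⟨u, v⟩
    obtain ⟨a, f, ha, hf⟩ := h u v
    exact ⟨⟨⟨a, a, f⟩, mem_W0.mpr (Int.units_mul_self _)⟩, Prod.ext ha hf⟩
  rw [MonoidHom.range_eq_top.mpr hsurj, card_top]
  simp

namespace Data

variable {G : Type*} [Group G] (e : Data G)

/-- The conclusion of the exceptional case. -/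
theorem conclusion [Finite G] (hs : Function.Surjective e.ψ) :
    ∃ N : Subgroup G, N.Normal ∧ Cfsg.generalizedFittingSubgroup G = N ∧
      Nonempty (N ≃* alternatingGroup (Fin 5) × alternatingGroup (Fin 5)) ∧
      (∀ K : Subgroup G, K.Normal → K ≤ N → K = ⊥ ∨ K = N) ∧
      N.index = 4 ∧ ∀ g : G, g ^ 2 ∈ N := by
  classical
  set N : Subgroup G := prodHom.range.map e.ψ with hN
  have hker : prodHom.range.Normal := quotHom_ker ▸ (inferInstance : quotHom.ker.Normal)
  haveI hNn : N.Normal := hker.map e.ψ hs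
  have hNr : N = (e.ψ.comp prodHom).range := by rw [hN, MonoidHom.range_comp]
  have hpinj : Function.Injective (e.ψ.comp prodHom) := e.inj.comp prodHom_injective
  set L₁ := (e.ψ.comp leftHom).range with hL₁
  set L₂ := (e.ψ.comp rightHom).range with hL₂
  have hLle : L₁ ≤ N ∧ L₂ ≤ N := by
    constructor <;> rintro _ ⟨a, rfl⟩
    · exact ⟨prodHom (a, 1), ⟨_, rfl⟩, rfl⟩
    · exact ⟨prodHom (1, a), ⟨_, rfl⟩, rfl⟩
  have hLinj : Function.Injective (e.ψ.comp leftHom) ∧ Function.Injective (e.ψ.comp rightHom) :=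
    ⟨e.inj.comp fun a b h => Subtype.ext (congrArg W.a (congrArg Subtype.val h) : _),
      e.inj.comp fun a b h => Subtype.ext (congrArg W.b (congrArg Subtype.val h) : _)⟩
  haveI : IsSimpleGroup ↥(alternatingGroup (Fin 5)) := alternatingGroup.isSimpleGroup (α := Fin 5) (by simp)
  have hL₁s : IsSimpleGroup L₁ := (MonoidHom.ofInjective hLinj.1).isSimpleGroup_congr.mp inferInstance
  have hL₂s : IsSimpleGroup L₂ := (MonoidHom.ofInjective hLinj.2).isSimpleGroup_congr.mp inferInstance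
  have hA5 : ¬ IsMulCommutative ↥(alternatingGroup (Fin 5)) := fun h => by
    have := h.is_comm.comm (⟨c5, Perm.mem_alternatingGroup.mpr (by decide)⟩ : alternatingGroup (Fin 5))
      ⟨swap 2 3 * swap 3 4, Perm.mem_alternatingGroup.mpr (by decide)⟩
    exact absurd (congrArg Subtype.val this) (by decide)
  have hna : ∀ f : ↥(alternatingGroup (Fin 5)) →* G, Function.Injective f →
      ¬ IsMulCommutative f.range := fun f hf h => hA5 ⟨⟨fun a b =>
    (MonoidHom.ofInjective hf).injective (by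
      rw [map_mul, map_mul]; exact h.is_comm.comm _ _)⟩⟩
  -- trivial centraliser
  have hcen : centralizer (N : Set G) = ⊥ := by
    refine (Subgroup.eq_bot_iff_forall _).mpr fun x hx => ?_
    obtain ⟨⟨⟨a, b, f⟩, hp⟩, rfl⟩ := hs x
    have hc : ∀ q : W0, q ∈ prodHom.range → (⟨a, b, f⟩ : W) * q = q * ⟨a, b, f⟩ := fun q hq =>
      congrArg Subtype.val (e.inj (by
        rw [map_mul, map_mul]
        exact (mem_centralizer_iff.mp hx _ ⟨q, hq, rfl⟩).symm) :
        (⟨⟨a, b, f⟩, hp⟩ : W0) * q = q * ⟨⟨a, b, f⟩, hp⟩)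
    have h1 := hc ⟨⟨c5, 1, false⟩, mem_W0.mpr (by decide)⟩ (mem_prod_range.mpr ⟨rfl, by decide⟩)
    have h2 := hc ⟨⟨swap 2 3 * swap 3 4, 1, false⟩, mem_W0.mpr (by decide)⟩
      (mem_prod_range.mpr ⟨rfl, by decide⟩)
    have h3 := hc ⟨⟨1, c5, false⟩, mem_W0.mpr (by decide)⟩ (mem_prod_range.mpr ⟨rfl, by decide⟩)
    have h4 := hc ⟨⟨1, swap 2 3 * swap 3 4, false⟩, mem_W0.mpr (by decide)⟩
      (mem_prod_range.mpr ⟨rfl, by decide⟩)
    cases f
    · obtain rfl := perm_center_even a (congrArg W.a h1 : _) (congrArg W.a h2 : _)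
      obtain rfl := perm_center_even b (congrArg W.b h3 : _) (congrArg W.b h4 : _)
      exact map_one e.ψ
    · exfalso
      have := congrArg W.a h1
      simp [W.mul_def] at this
      exact absurd this (by decide)
  -- normality of the components in the product
  have hnorm : ∀ f g : ↥(alternatingGroup (Fin 5)) →* W0,
      (∀ a, ∃ x, prodHom x = f a) → (∀ a b, prodHom a * f b * (prodHom a)⁻¹ ∈ f.range) →
      (((e.ψ.comp f).range).subgroupOf N).Normal := by
    intro f g _ hf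
    refine ⟨fun x hx y => ?_⟩
    obtain ⟨z, hz⟩ := hx
    obtain ⟨_, ⟨a, rfl⟩, hy⟩ := y.2
    obtain ⟨c, hc⟩ := hf a z
    refine ⟨c, ?_⟩
    show e.ψ (f c) = (y : G) * (x : G) * (y : G)⁻¹
    rw [hc, map_mul, map_mul, map_inv, hy, show e.ψ (f z) = (x : G) from hz]
  have hn₁ : (L₁.subgroupOf N).Normal := hnorm leftHom leftHom (fun a => ⟨(a, 1), rfl⟩)
    (fun a b => ⟨a.1 * b * a.1⁻¹, Subtype.ext (by simp [leftHom, prodHom, W.mul_def, W.inv_def])⟩)
  have hn₂ : (L₂.subgroupOf N).Normal := hnorm rightHom rightHom (fun a => ⟨(1, a), rfl⟩)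
    (fun a b => ⟨a.2 * b * a.2⁻¹, Subtype.ext (by simp [rightHom, prodHom, W.mul_def, W.inv_def])⟩)
  have hgen : ∀ x ∈ N, ∃ u ∈ L₁, ∃ v ∈ L₂, x = u * v := by
    rintro _ ⟨_, ⟨⟨a, b⟩, rfl⟩, rfl⟩
    exact ⟨_, ⟨a, rfl⟩, _, ⟨b, rfl⟩, by
      show _ = e.ψ (leftHom a) * e.ψ (rightHom b)
      rw [← map_mul]; exact congrArg e.ψ (Subtype.ext (by simp [leftHom, rightHom, prodHom, W.mul_def]))⟩
  have hcomp : ∀ {L : Subgroup G}, L ≤ N → (L.subgroupOf N).Normal → IsSimpleGroup L →
      ¬ IsMulCommutative L → Cfsg.IsComponent L := fun {L} hle hn hsimp hnc => by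
    haveI := hsimp
    exact ⟨hn.isSubnormal.trans hle hNn.isSubnormal, CfsgLib.Components.isQuasisimple_of_isSimpleGroup hnc⟩
  have hc₁ := hcomp hLle.1 hn₁ hL₁s (hna _ hLinj.1)
  have hc₂ := hcomp hLle.2 hn₂ hL₂s (hna _ hLinj.2)
  have hout : ∀ K : Subgroup G, ⁅K, L₁⁆ = ⊥ → ⁅K, L₂⁆ = ⊥ → K = ⊥ := by
    intro K h1 h2
    rw [commutator_eq_bot_iff_le_centralizer] at h1 h2
    refine le_bot_iff.mp (fun x hx => hcen ▸ mem_centralizer_iff.mpr fun y hy => ?_)
    obtain ⟨u, hu, v, hv, rfl⟩ := hgen y hy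
    exact (Commute.mul_left (mem_centralizer_iff.mp (h1 hx) u hu)
      (mem_centralizer_iff.mp (h2 hx) v hv))
  refine ⟨N, hNn, ?_, ?_, ?_, ?_, ?_⟩
  · refine le_antisymm (sup_le (sSup_le fun K hK => ?_) (sSup_le fun K hK => ?_)) ?_
    · rcases CfsgLib.Components.component_eq_or_commutator hK hc₁ with rfl | h1
      · exact hLle.1
      rcases CfsgLib.Components.component_eq_or_commutator hK hc₂ with rfl | h2
      · exact hLle.2
      rw [hout K h1 h2]; exact bot_le
    · obtain ⟨hKn, hKnil⟩ := hK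
      haveI := hKn
      haveI := hKnil
      have key : ∀ L : Subgroup G, L ≤ N → (L.subgroupOf N).Normal → IsSimpleGroup L →
          ¬ IsMulCommutative L → K ⊓ L = ⊥ := by
        intro L _ _ hsimp hnc
        haveI := hsimp
        rcases hsimp.eq_bot_or_eq_top_of_normal (K.subgroupOf L) inferInstance with h | h
        · rwa [subgroupOf_eq_bot, disjoint_iff] at h
        · exfalso
          have hle : L ≤ K := subgroupOf_eq_top.1 h
          have hsol : Group.IsSolvable ↥L :=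
            Group.isSolvable_of_isSolvable_injective (f := inclusion hle) (inclusion_injective hle)
          exact hnc ⟨⟨fun x y => IsSimpleGroup.comm_iff_isSolvable.2 hsol x y⟩⟩
      have hint : ∀ L : Subgroup G, L ≤ N → (L.subgroupOf N).Normal → IsSimpleGroup L →
          ¬ IsMulCommutative L → ⁅K ⊓ N, L⁆ = ⊥ := by
        intro L hle hn hsimp hnc
        rw [eq_bot_iff, ← key L hle hn hsimp hnc, commutator_le]
        intro k hk l hl
        rw [commutatorElement_def]
        refine ⟨?_, ?_⟩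
        · rw [show k * l * k⁻¹ * l⁻¹ = k * (l * k⁻¹ * l⁻¹) by group]
          exact mul_mem hk.1 (hKn.conj_mem _ (inv_mem hk.1) l)
        · exact mul_mem (mem_subgroupOf.mp
            (hn.conj_mem ⟨l, hle hl⟩ (mem_subgroupOf.mpr hl) ⟨k, hk.2⟩)) (L.inv_mem hl)
      have hKN : K ⊓ N = ⊥ := hout _ (hint L₁ hLle.1 hn₁ hL₁s (hna _ hLinj.1))
        (hint L₂ hLle.2 hn₂ hL₂s (hna _ hLinj.2))
      have : ⁅K, N⁆ = ⊥ := eq_bot_iff.mpr (hKN ▸ commutator_le_inf K N)
      calc K ≤ centralizer (N : Set G) := commutator_eq_bot_iff_le_centralizer.mp this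
        _ = ⊥ := hcen
        _ ≤ N := bot_le
    · intro x hx
      obtain ⟨u, hu, v, hv, rfl⟩ := hgen x hx
      exact mul_mem (CfsgLib.Components.component_le_genFitting hc₁ hu)
        (CfsgLib.Components.component_le_genFitting hc₂ hv)
  · exact ⟨(MulEquiv.subgroupCongr hNr).trans (MonoidHom.ofInjective hpinj).symm⟩
  · intro K hKn hKle
    haveI := hKn
    have hdich : ∀ L : Subgroup G, IsSimpleGroup L → L ≤ K ∨ K ⊓ L = ⊥ := fun L hL =>
      (hL.eq_bot_or_eq_top_of_normal (K.subgroupOf L) inferInstance).symm.imp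
        subgroupOf_eq_top.1 fun h => by rwa [subgroupOf_eq_bot, disjoint_iff] at h
    have hswap : ∀ y : G, (y ∈ L₁ → e.im ss * y * (e.im ss)⁻¹ ∈ L₂) ∧
        (y ∈ L₂ → e.im ss * y * (e.im ss)⁻¹ ∈ L₁) := by
      intro y
      constructor <;> rintro ⟨a, rfl⟩ <;> refine ⟨a, ?_⟩ <;>
      · show e.ψ _ = e.im ss * e.ψ _ * (e.im ss)⁻¹
        rw [e.im_eq (by decide), ← map_mul, ← map_inv, ← map_mul]
        exact congrArg e.ψ (Subtype.ext (by simp [leftHom, rightHom, W.mul_def, W.inv_def, ss]))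
    have hcom : ∀ L : Subgroup G, L ≤ N → (L.subgroupOf N).Normal → K ⊓ L = ⊥ → ⁅K, L⁆ = ⊥ := by
      intro L hle hn hkl
      rw [eq_bot_iff, ← hkl, commutator_le]
      intro k hk l hl
      rw [commutatorElement_def]
      refine ⟨?_, ?_⟩
      · rw [show k * l * k⁻¹ * l⁻¹ = k * (l * k⁻¹ * l⁻¹) by group]
        exact mul_mem hk (hKn.conj_mem _ (inv_mem hk) l)
      · exact mul_mem (mem_subgroupOf.mp
          (hn.conj_mem ⟨l, hle hl⟩ (mem_subgroupOf.mpr hl) ⟨k, hKle hk⟩)) (L.inv_mem hl)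
    have hall : ∀ L L' : Subgroup G, L ≤ K → (∀ y ∈ L', e.im ss * y * (e.im ss)⁻¹ ∈ L) →
        L' ≤ K := fun L L' hLK h y hy => by
      have := hKn.conj_mem _ (hLK (h y hy)) (e.im ss)⁻¹
      simpa [mul_assoc] using this
    have hfull : L₁ ≤ K → L₂ ≤ K → K = N := fun h1 h2 => le_antisymm hKle fun x hx => by
      obtain ⟨u, hu, v, hv, rfl⟩ := hgen x hx
      exact mul_mem (h1 hu) (h2 hv)
    rcases hdich L₁ hL₁s with h1 | h1
    · exact Or.inr (hfull h1 (hall L₁ L₂ h1 fun y hy => (hswap y).2 hy))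
    rcases hdich L₂ hL₂s with h2 | h2
    · exact Or.inr (hfull (hall L₂ L₁ h2 fun y hy => (hswap y).1 hy) h2)
    · exact Or.inl (hout K (hcom L₁ hLle.1 hn₁ h1) (hcom L₂ hLle.2 hn₂ h2))
  · rw [hN, Subgroup.index_map, (MonoidHom.ker_eq_bot_iff e.ψ).mpr e.inj, sup_bot_eq,
      MonoidHom.range_eq_top.mpr hs, index_top, mul_one, prod_index]
  · intro x
    obtain ⟨p, rfl⟩ := hs x
    exact ⟨p ^ 2, sq_mem_prod p, map_pow e.ψ p 2⟩

end Data

end CfsgLib.SymEightThree.Model
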