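import Cfsg.Agent.Lib.SymEightThree.ExcModel

/-!
Finite facts about the exceptional model, checked by kernel computation.
-/

set_option autoImplicit false
set_option maxRecDepth 100000

namespace CfsgLib.SymEightThree.Model

open Equiv

theorem uAct_spec : ∀ i : Fin 16, ee * jel i * ee⁻¹ = jel (uAct i) := by decide +kernel

theorem hAct_spec : ∀ k : Fin 36, ∀ i : Fin 16,
    hs.getD k.val 1 * jel i * (hs.getD k.val 1)⁻¹ = jel (hAct k i) := by decide +kernel

theorem hs_mem : ∀ k : Fin 36, hs.getD k.val 1 ∈ W0 := by decide +kernel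

theorem jel_mul : ∀ i k : Fin 16, jel (xor16 i k) = jel i * jel k := by decide +kernel

theorem jel_mem : ∀ i : Fin 16, jel i ∈ W0 := by decide +kernel

theorem perm_three : ∀ a : Perm (Fin 5), a ^ 3 = 1 →
    a = 1 ∨ ∃ c : Perm (Fin 5), Perm.sign c = 1 ∧ c * a * c⁻¹ = c5 := by decide +kernel

theorem perm_invol : ∀ a : Perm (Fin 5), a * a = 1 →
    a = 1 ∨ (Perm.sign a = 1 ∧ ∃ c : Perm (Fin 5), Perm.sign c = 1 ∧ c * a * c⁻¹ = t5) ∨
      (Perm.sign a = -1 ∧ ∃ c : Perm (Fin 5), Perm.sign c = 1 ∧ c * a * c⁻¹ = r5) := by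
  decide +kernel

/-- The eight permutations commuting with `t5`. -/
def d8 (i : Fin 8) : Perm (Fin 5) :=
  (if i.val < 4 then 1 else r5) * four ⟨i.val % 4, by omega⟩

theorem mem_d8 : ∀ b : Perm (Fin 5), b * t5 = t5 * b → ∃ i : Fin 8, d8 i = b := by decide +kernel

theorem perm_c5_three : ∀ a : Perm (Fin 5), a * c5 = c5 * a → a ^ 3 = 1 →
    a = 1 ∨ a = c5 ∨ a = c5 * c5 := by decide +kernel

theorem perm_t5_three : ∀ b : Perm (Fin 5), b * t5 = t5 * b → b ^ 3 = 1 → b = 1 := by
  decide +kernel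

theorem perm_c5_five : ∀ a : Perm (Fin 5), a * c5 = c5 * a → a ^ 5 = 1 → a = 1 := by
  decide +kernel

/-- A conjugate under the four-group of `a` or of its square. -/
def cj (a : Perm (Fin 5)) (i : Fin 8) : Perm (Fin 5) :=
  four ⟨i.val % 4, by omega⟩ * (if i.val < 4 then a else a * a) * four ⟨i.val % 4, by omega⟩

/-- The product `x y z x y`. -/
def tri (x y z : Perm (Fin 5)) : Perm (Fin 5) := x * y * (z * (x * y))

/-- A non-trivial element of odd order and its conjugates under the four-group generate a group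
containing an involution. -/
theorem perm_four_odd : ∀ a : Perm (Fin 5), (a * a * a = 1 ∨ a * a * (a * a) * a = 1) → a ≠ 1 →
    ∃ i k m : Fin 8, tri (cj a i) (cj a k) (cj a m) ≠ 1 ∧
      tri (cj a i) (cj a k) (cj a m) * tri (cj a i) (cj a k) (cj a m) = 1 := by
  decide +kernel

theorem four_inv : ∀ i : Fin 4, (four i)⁻¹ = four i := by decide +kernel

theorem perm_odd_order : ∀ a : Perm (Fin 5), a ^ 15 = 1 →
    (a * a * a = 1 ∨ a * a * (a * a) * a = 1) := by
  decide +kernel

end CfsgLib.SymEightThree.Model
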