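import Cfsg.Agent.Lib.SymEightThree.ExcSig
import Cfsg.Agent.Lib.Case.CharTwo
import Cfsg.Agent.Lib.Balance.Fusion

/-!
The centraliser of `(r5, r5)` lies in the model, and hence the model is the whole group.
-/

set_option autoImplicit false
set_option linter.style.haveILetI false

namespace CfsgLib.SymEightThree.Model

open Subgroup Equiv

theorem perm_r5_six : ∀ a : Perm (Fin 5), a * r5 = r5 * a → a ^ 6 = 1 := by decide +kernel

theorem perm_r5_t5 : ∀ a : Perm (Fin 5), a * r5 = r5 * a → a * t5 = t5 * a →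
    Perm.sign a = 1 → a ≠ 1 → a = t5 := by decide +kernel

theorem sign_mid (u v : ℤˣ) : u * v * u = v := by
  rw [mul_comm u v, mul_assoc, Int.units_mul_self, mul_one]

theorem shape_of_conj_tt {c p : W} (h : c * p * c⁻¹ = tt) :
    p.f = false ∧ p.a ≠ 1 ∧ p.b ≠ 1 ∧ Perm.sign p.a = 1 ∧ Perm.sign p.b = 1 := by
  obtain ⟨a, b, f⟩ := p
  obtain ⟨c1, c2, cf⟩ := c
  have hf := congrArg W.f h
  have ha := congrArg W.a h
  have hb := congrArg W.b h
  have ht : t5 ≠ 1 := by decide
  have hs : Perm.sign t5 = 1 := by decide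
  cases f <;> cases cf <;> simp [W.mul_def, W.inv_def, tt] at hf ha hb
  · refine ⟨rfl, fun h' => ht ?_, fun h' => ht ?_, ?_, ?_⟩
    · rw [← ha, show a = 1 from h']; simp
    · rw [← hb, show b = 1 from h']; simp
    · have := congrArg Perm.sign ha; simpa [hs, sign_mid] using this
    · have := congrArg Perm.sign hb; simpa [hs, sign_mid] using this
  · refine ⟨rfl, fun h' => ht ?_, fun h' => ht ?_, ?_, ?_⟩
    · rw [← hb, show a = 1 from h']; simp
    · rw [← ha, show b = 1 from h']; simp
    · have := congrArg Perm.sign hb; simpa [hs, sign_mid] using this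
    · have := congrArg Perm.sign ha; simpa [hs, sign_mid] using this

namespace Data

variable {G : Type*} [Group G] (e : Data G)

/-- Conjugation sending `(c5, 1)` into the model is induced by the model. -/
theorem mem_of_conj_zL [Finite G] {g : G} {q : W} (hq : q ∈ W0)
    (h : g * e.im zL * g⁻¹ = e.im q) : g ∈ e.ψ.range := by
  have hz : zL ∈ W0 := by decide
  have hq3 : q ^ 3 = 1 := e.im_inj (pow_mem hq 3) (one_mem _) (by
    rw [e.im_pow hq, ← h, conj_pow, ← e.im_pow hz, show zL ^ 3 = 1 by decide +kernel, e.im_one,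
      mul_one, mul_inv_cancel])
  have hq1 : q ≠ 1 := by
    rintro rfl
    rw [e.im_one, conj_eq_one_iff] at h
    exact absurd (e.im_eq_one hz h) (by decide)
  obtain ⟨c, hc, hcq⟩ := conj_cases_three hq hq3 hq1
  have key : ∀ d ∈ W0, d * q * d⁻¹ = zL → g ∈ e.ψ.range := by
    intro d hd hdq
    have hcomm : Commute (e.im d * g) (e.im zL) := mul_inv_eq_iff_eq_mul.mp (by
      calc e.im d * g * e.im zL * (e.im d * g)⁻¹
          = e.im d * (g * e.im zL * g⁻¹) * (e.im d)⁻¹ := by group
        _ = _ := by rw [h, ← e.im_conj hd hq, hdq])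
    simpa using mul_mem (e.ψ.range.inv_mem (e.im_mem d))
      (e.cent_three hz (by decide +kernel) (by decide)
        (mem_centralizer_singleton_iff.mpr hcomm.eq))
  rcases hcq with hcq | hcq | hcq
  · exact key c hc hcq
  · refine key (ss * c) (mul_mem (by decide) hc) ?_
    rw [show ss * c * q * (ss * c)⁻¹ = ss * (c * q * c⁻¹) * ss⁻¹ by group, hcq]
    decide
  · exfalso
    refine e.not_conj_zz (Or.inl rfl) (e.im c * g) ?_
    rw [← hcq, e.im_conj hc hq, ← h]; group

/-- A conjugate of `(t5, t5)` in the model has no trivial component and even components. -/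
theorem shape_tt [Finite G] {g : G} {p : W} (hp : p ∈ W0) (h : g * e.im tt * g⁻¹ = e.im p) :
    p.f = false ∧ p.a ≠ 1 ∧ p.b ≠ 1 ∧ Perm.sign p.a = 1 ∧ Perm.sign p.b = 1 := by
  have hx : tt ∈ W0 := by decide
  have h2 : p * p = 1 := e.im_inj (mul_mem hp hp) (one_mem _) (by
    rw [e.im_mul hp hp, ← h, conj_mul, ← e.im_mul hx hx, show tt * tt = 1 by decide, e.im_one,
      mul_one, mul_inv_cancel])
  have h1 : p ≠ 1 := by
    rintro rfl
    rw [e.im_one, conj_eq_one_iff] at h
    exact absurd (e.im_eq_one hx h) (by decide)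
  obtain ⟨c, hc, hcp⟩ := conj_cases_invol hp h2 h1
  have hconj : e.im c * g * e.im tt * (e.im c * g)⁻¹ = e.im (c * p * c⁻¹) := by
    rw [e.im_conj hc hp, ← h]; group
  have key : ∀ j z : W, j ∈ W0 → z ∈ W0 → z * j = j * z → z ^ 3 = 1 → z ≠ 1 →
      c * p * c⁻¹ = j → False := by
    intro j z hj hz hzj hz3 hz1 hcj
    rw [hcj] at hconj
    set m := e.im c * g
    set d := m⁻¹ * e.im z * m⁻¹⁻¹ with hd
    have hdt : Commute d (e.im tt) := by
      have := Commute.conj (e.im_commute hz hj hzj) m⁻¹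
      rwa [show m⁻¹ * e.im j * m⁻¹⁻¹ = e.im tt by rw [← hconj]; group] at this
    have hdP : d ∈ e.P64 :=
      ⟨mem_centralizer_singleton_iff.mpr hdt.eq, e.cent_tt (mem_centralizer_singleton_iff.mpr hdt.eq)⟩
    obtain ⟨k, hk⟩ := e.isPGroup_P64 ⟨d, hdP⟩
    have hdk : d ^ 2 ^ k = 1 := congrArg Subtype.val hk
    have hd3 : d ^ 3 = 1 := by
      rw [hd, conj_pow, ← e.im_pow hz, hz3, e.im_one, mul_one, mul_inv_cancel]
    have hd1 := pow_gcd_eq_one.mpr ⟨hdk, hd3⟩
    rw [Nat.coprime_iff_gcd_eq_one.mp (Nat.Coprime.pow_left k (by norm_num)), pow_one, hd,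
      conj_eq_one_iff] at hd1
    exact hz1 (e.im_eq_one hz hd1)
  rcases hcp with hcp | hcp | hcp | hcp | hcp
  · exfalso
    rw [hcp] at hconj
    refine e.not_conj_tt (e.im c * g)⁻¹ ?_
    rw [← hconj]; group
  · exact shape_of_conj_tt hcp
  · exact (key ee zL (by decide) (by decide) (by decide) (by decide +kernel) (by decide) hcp).elim
  · exact (key ss zz (by decide) (by decide) (by decide) (by decide +kernel) (by decide) hcp).elim
  · exact (key (ee * ss) zz (by decide) (by decide) (by decide) (by decide +kernel) (by decide)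
      hcp).elim

/-- The centraliser of `(r5, r5)` lies in the image. -/
theorem cent_ee [Finite G] : centralizer ({e.im ee} : Set G) ≤ e.ψ.range := by
  haveI : Fact (Nat.Prime 3) := ⟨Nat.prime_three⟩
  have he : ee ∈ W0 := by decide
  have hx : tt ∈ W0 := by decide
  have hzL : zL ∈ W0 := by decide
  have hzR : zR ∈ W0 := by decide
  set C := centralizer ({e.im ee} : Set G) with hC
  set P := C ⊓ centralizer ({e.im tt} : Set G) ⊓ e.ψ.range with hP
  have hP2 : IsPGroup 2 P := e.isPGroup_P64.to_le (fun x hx => ⟨hx.1.2, hx.2⟩)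
  have hfix : ∀ w : G, Commute w (e.im ee) → w * e.im tt * w⁻¹ ∈ P →
      w * e.im tt * w⁻¹ = e.im tt := by
    intro w hw hwP
    obtain ⟨q, hq, hqw⟩ := e.exists_im hwP.2
    obtain ⟨hf, ha, hb, hsa, hsb⟩ := e.shape_tt hq hqw.symm
    have hqe := e.commute_of_im hq he (hqw ▸ mem_centralizer_singleton_iff.mp hwP.1.1)
    have hqt := e.commute_of_im hq hx (hqw ▸ mem_centralizer_singleton_iff.mp hwP.1.2)
    obtain ⟨a, b, f⟩ := q
    obtain rfl : f = false := hf
    obtain rfl := perm_r5_t5 a (congrArg W.a hqe : _) (congrArg W.a hqt : _) hsa ha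
    obtain rfl := perm_r5_t5 b (congrArg W.b hqe : _) (congrArg W.b hqt : _) hsb hb
    exact hqw.symm
  have httP : e.im tt ∈ P := ⟨⟨mem_centralizer_singleton_iff.mpr
    (e.im_commute hx he (by decide)).eq, mem_centralizer_singleton_iff.mpr rfl⟩, e.im_mem _⟩
  have heP : e.im ee ∈ P := ⟨⟨mem_centralizer_singleton_iff.mpr rfl,
    mem_centralizer_singleton_iff.mpr (e.im_commute he hx (by decide)).eq⟩, e.im_mem _⟩
  have hmax : ∀ Q : Subgroup G, IsPGroup 2 Q → P ≤ Q → Q ≤ C → Q ≤ P := by
    intro Q hQ hle hQC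
    haveI : Fact (Nat.Prime 2) := ⟨Nat.prime_two⟩
    by_contra hne
    haveI := hQ.isNilpotent
    have hlt : P.subgroupOf Q < ⊤ := lt_top_iff_ne_top.mpr fun h => hne (subgroupOf_eq_top.mp h)
    obtain ⟨w, hwN, hwP⟩ :=
      SetLike.exists_of_lt (Group.normalizerCondition_of_isNilpotent _ hlt)
    refine hwP (mem_subgroupOf.mpr ?_)
    have hw : Commute (w : G) (e.im ee) := mem_centralizer_singleton_iff.mp (hQC w.2)
    have hwtt := hfix w hw (mem_subgroupOf.mp ((mem_normalizer_iff.mp hwN ⟨_, hle httP⟩).mp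
      (mem_subgroupOf.mpr httP)))
    have hwt : (w : G) ∈ centralizer ({e.im tt} : Set G) :=
      mem_centralizer_singleton_iff.mpr (mul_inv_eq_iff_eq_mul.mp hwtt)
    exact ⟨⟨hQC w.2, hwt⟩, e.cent_tt hwt⟩
  have hdec : ∀ g ∈ C, ∃ k ∈ Cfsg.centralizerPPrimeCore 2 (e.im ee), k * g ∈ P := by
    intro g hg
    obtain ⟨k, hk, hcase⟩ := exists_core_fix (i := e.im ee) (b := e.im tt)
      (by rw [← e.im_mul he he, show ee * ee = 1 by decide, e.im_one])
      (fun h => absurd (e.im_eq_one he h) (by decide))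
      (by rw [← e.im_mul hx hx, show tt * tt = 1 by decide, e.im_one])
      (fun h => absurd (e.im_eq_one hx h) (by decide))
      (fun h => absurd (e.im_inj hx he h) (by decide))
      (show P ≤ C from inf_le_left.trans inf_le_left) hP2 httP heP hmax
      (fun w hw hwP => Or.inl (hfix w (mem_centralizer_singleton_iff.mp hw) hwP)) hg
    refine ⟨k, hk, ?_⟩
    rcases hcase with h | h
    · have hkt : k * g ∈ centralizer ({e.im tt} : Set G) :=
        mem_centralizer_singleton_iff.mpr (mul_inv_eq_iff_eq_mul.mp h)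
      exact ⟨⟨mul_mem (core_le_centralizer _ hk) hg, hkt⟩, e.cent_tt hkt⟩
    · exfalso
      rw [← e.im_mul hx he] at h
      have := (e.shape_tt (mul_mem hx he) h).2.2.2.1
      exact absurd this (by decide)
  -- the two elements of order three lie in the core
  set N := Cfsg.pPrimeCore 2 C with hN
  have hNn : N.Normal := CfsgLib.Solvable.pPrimeCore_normal 2 _
  have hmem : ∀ z ∈ W0, z * ee = ee * z → z ^ 3 = 1 → ∀ hzC : e.im z ∈ C,
      (⟨e.im z, hzC⟩ : C) ∈ N := by
    intro z hz hze hz3 hzC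
    obtain ⟨k, hk, hkP⟩ := hdec _ hzC
    obtain ⟨k', hk', rfl⟩ := hk
    obtain ⟨j, hj⟩ := hP2 ⟨_, hkP⟩
    haveI := hNn
    have h1 : (QuotientGroup.mk' N) (k' * ⟨e.im z, hzC⟩) ^ 2 ^ j = 1 := by
      rw [← map_pow, show (k' * ⟨e.im z, hzC⟩) ^ 2 ^ j = (1 : C) from
        Subtype.ext (by simpa using congrArg Subtype.val hj), map_one]
    rw [map_mul, show (QuotientGroup.mk' N) k' = 1 from (QuotientGroup.eq_one_iff k').mpr hk',
      one_mul] at h1
    have h2 : (QuotientGroup.mk' N) ⟨e.im z, hzC⟩ ^ 3 = 1 := by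
      rw [← map_pow, show (⟨e.im z, hzC⟩ : C) ^ 3 = 1 from Subtype.ext (by
        rw [SubmonoidClass.coe_pow]; exact (e.im_pow hz 3).symm.trans (by rw [hz3, e.im_one]; rfl)),
        map_one]
    have h3 := pow_gcd_eq_one.mpr ⟨h1, h2⟩
    rw [Nat.coprime_iff_gcd_eq_one.mp (Nat.Coprime.pow_left j (by norm_num)), pow_one] at h3
    exact (QuotientGroup.eq_one_iff _).mp h3
  have hLC : e.im zL ∈ C := mem_centralizer_singleton_iff.mpr (e.im_commute hzL he (by decide)).eq
  have hRC : e.im zR ∈ C := mem_centralizer_singleton_iff.mpr (e.im_commute hzR he (by decide)).eq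
  -- the subgroup of order nine
  let el : Fin 9 → W := fun i => ⟨c5 ^ (i.val / 3), c5 ^ (i.val % 3), false⟩
  have hel : ∀ i k : Fin 9, el i ∈ W0 ∧ el i ^ 3 = 1 ∧ el i * el k = el k * el i ∧
      el i * ee = ee * el i ∧ (el i = el k → i = k) ∧ ∃ l, el l = el i * el k := by decide +kernel
  have helC : ∀ i, e.im (el i) ∈ C := fun i =>
    mem_centralizer_singleton_iff.mpr (e.im_commute (hel i i).1 he (hel i i).2.2.2.1).eq
  let d9 : Fin 9 → N := fun i =>
    ⟨⟨e.im (el i), helC i⟩, hmem _ (hel i i).1 (hel i i).2.2.2.1 (hel i i).2.1 (helC i)⟩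
  have hd9inj : Function.Injective d9 := fun i k h => (hel i k).2.2.2.2.1
    (e.im_inj (hel i k).1 (hel k i).1
      (congrArg (fun x : N => ((x : C) : G)) h))
  let D : Subgroup N :=
    { carrier := Set.range d9
      one_mem' := ⟨0, Subtype.ext (Subtype.ext (by
        show e.im (el 0) = 1
        rw [show el 0 = 1 by decide, e.im_one]))⟩
      mul_mem' := by
        rintro _ _ ⟨a, rfl⟩ ⟨b, rfl⟩
        obtain ⟨l, hl⟩ := (hel a b).2.2.2.2.2
        exact ⟨l, Subtype.ext (Subtype.ext (by
          show e.im (el l) = e.im (el a) * e.im (el b)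
          rw [hl, e.im_mul (hel a b).1 (hel b a).1]))⟩
      inv_mem' := by
        rintro _ ⟨a, rfl⟩
        obtain ⟨l, hl⟩ := (hel a a).2.2.2.2.2
        refine ⟨l, eq_inv_of_mul_eq_one_left (Subtype.ext (Subtype.ext ?_))⟩
        show e.im (el l) * e.im (el a) = 1
        rw [← e.im_mul (hel l a).1 (hel a a).1, hl, ← pow_three', (hel a a).2.1, e.im_one] }
  have hD9 : Nat.card D = 9 := by
    rw [show Nat.card D = Nat.card (Set.range d9) from rfl, Nat.card_range_of_injective hd9inj]
    simp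
  have hD3 : IsPGroup 3 D := IsPGroup.of_card (n := 2) (by rw [hD9]; norm_num)
  have hDe : Cfsg.IsElementaryAbelian 3 D := by
    refine ⟨⟨⟨fun x y => Subtype.ext ?_⟩⟩, ?_⟩
    · obtain ⟨a, ha⟩ := x.2
      obtain ⟨b, hb⟩ := y.2
      show (x : N) * y = y * x
      rw [← ha, ← hb]
      refine Subtype.ext (Subtype.ext ?_)
      exact (e.im_commute (hel a b).1 (hel b a).1 (hel a b).2.2.1).eq
    · rintro _ ⟨a, rfl⟩
      refine Subtype.ext (Subtype.ext ?_)
      show e.im (el a) ^ 3 = 1
      rw [← e.im_pow (hel a a).1, (hel a a).2.1, e.im_one]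
  have hNodd : Odd (Nat.card N) :=
    Nat.coprime_two_right.mp (CfsgLib.Solvable.pPrimeCore_card_coprime 2 _)
  haveI : Group.IsSolvable N := CfsgLib.FT.solvable_of_odd hNodd
  -- no core prime to three
  have hK : Cfsg.pPrimeCore 3 N = ⊥ := by
    set K := Cfsg.pPrimeCore 3 N with hK
    have hKc : (Nat.card K).Coprime 3 := CfsgLib.Solvable.pPrimeCore_card_coprime 3 _
    haveI : K.Normal := CfsgLib.Solvable.pPrimeCore_normal 3 _
    refine le_bot_iff.mp (CfsgLib.Signalizer.le_of_centralizers hDe (by rw [hD9]; norm_num)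
      ((Nat.prime_three.coprime_iff_not_dvd).mp hKc.symm)
      (by rw [Subgroup.normalizer_eq_top]; exact le_top) ?_)
    rintro _ ⟨a, rfl⟩ ha x ⟨hxK, hxc⟩
    rw [mem_bot]
    have hne : el a ≠ 1 := fun h => ha (Subtype.ext (Subtype.ext (by
      show e.im (el a) = 1
      rw [h, e.im_one])))
    have hxc' : Commute ((x : C) : G) (e.im (el a)) :=
      congrArg (fun y : N => ((y : C) : G)) (mem_centralizer_singleton_iff.mp hxc)
    obtain ⟨q, hq, hqx⟩ := e.exists_im (e.cent_three (hel a a).1 (hel a a).2.1 hne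
      (mem_centralizer_singleton_iff.mpr hxc'.eq))
    set n := Nat.card K with hn
    have hxn : ((x : C) : G) ^ n = 1 :=
      congrArg (fun y : K => (((y : N) : C) : G)) (pow_card_eq_one' (x := (⟨x, hxK⟩ : K)))
    have hnodd : Odd n := hNodd.of_dvd_nat (card_subgroup_dvd_card K)
    have hpow : q ^ n = 1 :=
      e.im_inj (pow_mem hq n) (one_mem _) (by rw [e.im_pow hq, hqx, hxn, e.im_one])
    have hf := f_false_of_odd hnodd hpow
    have hqe := e.commute_of_im hq he (hqx ▸ mem_centralizer_singleton_iff.mp (x : C).2)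
    have hcop : Nat.Coprime n 6 := by
      rw [show 6 = 2 * 3 from rfl]
      exact Nat.Coprime.mul_right (Nat.coprime_two_right.mpr hnodd) hKc
    have hsix : ∀ c : Perm (Fin 5), c ^ n = 1 → c ^ 6 = 1 → c = 1 := fun c h1 h2 => by
      have := pow_gcd_eq_one.mpr ⟨h1, h2⟩
      rwa [Nat.coprime_iff_gcd_eq_one.mp hcop, pow_one] at this
    obtain ⟨qa, qb, qf⟩ := q
    obtain rfl : qf = false := hf
    have hqa : qa ^ n = 1 := by rw [← (pow_comp (p := ⟨qa, qb, false⟩) rfl n).1, hpow]; rfl
    have hqb : qb ^ n = 1 := by rw [← (pow_comp (p := ⟨qa, qb, false⟩) rfl n).2.1, hpow]; rfl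
    obtain rfl := hsix _ hqa (perm_r5_six _ (congrArg W.a hqe : _))
    obtain rfl := hsix _ hqb (perm_r5_six _ (congrArg W.b hqe : _))
    exact Subtype.ext (Subtype.ext (hqx.symm.trans e.im_one))
  have hcent := CfsgLib.Case.centralizer_pCore_le_of_solvable hK
  -- the core of order a power of three is `D`
  set P3 := Cfsg.pCore 3 N with hP3
  obtain ⟨S, hS⟩ := hD3.exists_le_sylow
  have hSD : (S : Subgroup N) = D := by
    refine (eq_of_le_of_card_ge hS ?_).symm
    obtain ⟨k, hk⟩ := S.2.exists_card_eq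
    rw [hD9, hk]
    rcases Nat.lt_or_ge k 3 with h' | h'
    · exact Nat.pow_le_pow_right (by norm_num) (show k ≤ 2 by omega) |>.trans (by norm_num)
    · exact absurd ((((pow_dvd_pow 3 h').trans (hk ▸ card_subgroup_dvd_card (S : Subgroup N))).trans
        (card_subgroup_dvd_card N)).trans (card_subgroup_dvd_card C)) e.not_dvd
  haveI hP3n : P3.Normal := by
    haveI := CfsgLib.Solvable.pCore_characteristic 3 N
    infer_instance
  have hP3le : P3 ≤ D := by
    rw [← hSD]
    obtain ⟨n, hn⟩ := CfsgLib.Solvable.card_pCore (p := 3) (G := N)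
    exact (IsPGroup.of_card hn).le_sylow_of_normal S
  have hDP : D ≤ P3 := by
    refine le_trans (fun x hx => mem_centralizer_iff.mpr fun y hy => ?_) hcent
    exact CfsgLib.Signalizer.elementary_commute hDe (hP3le hy) hx
  have hPD : P3 = D := le_antisymm hP3le hDP
  intro g hg
  haveI := hNn
  haveI : (P3.map N.subtype).Normal := by
    haveI := CfsgLib.Solvable.pCore_characteristic 3 N
    infer_instance
  have hzmem : (⟨e.im zL, hLC⟩ : C) ∈ P3.map N.subtype := by
    rw [hPD]
    exact ⟨d9 3, ⟨3, rfl⟩, Subtype.ext (show e.im (el 3) = e.im zL by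
      rw [show el 3 = zL by decide])⟩
  obtain ⟨y, hy, hyz⟩ := Subgroup.Normal.conj_mem ‹(P3.map N.subtype).Normal› _ hzmem ⟨g, hg⟩
  rw [hPD] at hy
  obtain ⟨i, rfl⟩ := hy
  exact e.mem_of_conj_zL (hel i i).1 (congrArg (fun x : C => (x : G)) hyz).symm

/-- The model is the whole group. -/
theorem range_eq_top [Finite G] : e.ψ.range = ⊤ := by
  have he : ee ∈ W0 := by decide
  have ht : tR ∈ W0 := by decide
  have hzL : zL ∈ W0 := by decide
  have hord : ∀ p : W, p ∈ W0 → p * p = 1 → p ≠ 1 → orderOf (e.im p) = 2 := fun p hp hpp hp1 =>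
    orderOf_eq_prime (by rw [← e.im_pow hp, pow_two, hpp, e.im_one]) fun h =>
      hp1 (e.im_eq_one hp h)
  -- all conjugates of `ee` lie in the model
  have hall : ∀ g : G, g * e.im ee * g⁻¹ ∈ e.ψ.range := by
    intro g
    obtain ⟨i, hi2, hit, hie⟩ := CfsgLib.Balance.exists_commuting_involution
      (hord tR ht (by decide) (by decide))
      (CfsgLib.Balance.conj_involution (g := g) (hord ee he (by decide) (by decide))) (by
        rw [isConj_iff]
        rintro ⟨m, hm⟩
        refine e.not_conj_tR_ee (g⁻¹ * m) ?_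
        calc g⁻¹ * m * e.im tR * (g⁻¹ * m)⁻¹ = g⁻¹ * (m * e.im tR * m⁻¹) * g := by group
          _ = _ := by rw [hm]; group)
    obtain ⟨q, hq, rfl⟩ := e.exists_im (e.cent_tR (mem_centralizer_singleton_iff.mpr hit.eq))
    have hqq : q * q = 1 := e.im_inj (mul_mem hq hq) (one_mem _) (by
      rw [e.im_mul hq hq, ← pow_two, ← hi2, pow_orderOf_eq_one, e.im_one])
    have hq1 : q ≠ 1 := by
      rintro rfl
      rw [e.im_one, orderOf_one] at hi2
      omega
    obtain ⟨c, hc, hcq⟩ := conj_cases_invol hq hqq hq1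
    have hqt := e.commute_of_im hq ht hit
    have hqf : q.f = false := by
      obtain ⟨a, b, f⟩ := q
      cases f
      · rfl
      · exfalso
        have := congrArg W.a hqt
        simp [W.mul_def, tR] at this
        exact absurd this (by decide)
    have hback : q = c⁻¹ * (c * q * c⁻¹) * c⁻¹⁻¹ := by group
    have hle : centralizer ({e.im q} : Set G) ≤ e.ψ.range := by
      rw [hback]
      refine e.cent_le_conj (inv_mem hc) (mul_mem (mul_mem hc hq) (inv_mem hc)) ?_
      have hf' : (c * q * c⁻¹).f = false := by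
        rw [W.mul_def, W.mul_def, W.inv_def, hqf]; cases c.f <;> rfl
      rcases hcq with hcq | hcq | hcq | hcq | hcq <;> rw [hcq] at hf' ⊢
      · exact e.cent_tR
      · exact e.cent_tt
      · exact e.cent_ee
      · exact absurd hf' (by decide)
      · exact absurd hf' (by decide)
    exact hle (mem_centralizer_singleton_iff.mpr hie.eq.symm)
  -- hence `zL` has all its conjugates in the model
  set K := normalClosure ({e.im ee} : Set G) with hK
  have hKle : K ≤ e.ψ.range := by
    rw [hK, normalClosure, closure_le]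
    intro x hx
    obtain ⟨y, hy, hyx⟩ := Group.mem_conjugatesOfSet_iff.mp hx
    rw [Set.mem_singleton_iff] at hy
    subst hy
    obtain ⟨m, rfl⟩ := isConj_iff.mp hyx
    exact hall m
  have hzK : e.im zL ∈ K := by
    let c₁ : W := ⟨swap 0 3 * swap 1 4, swap 0 3 * swap 1 4, false⟩
    let c₂ : W := ⟨swap 1 3 * swap 2 4, swap 0 3 * swap 1 4, false⟩
    have h1 : c₁ ∈ W0 := by decide
    have h2 : c₂ ∈ W0 := by decide
    rw [show zL = (c₁ * ee * c₁⁻¹) * (c₂ * ee * c₂⁻¹) by decide +kernel,
      e.im_mul (mul_mem (mul_mem h1 he) (inv_mem h1)) (mul_mem (mul_mem h2 he) (inv_mem h2)),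
      e.im_conj h1 he, e.im_conj h2 he]
    exact mul_mem (normalClosure_normal.conj_mem _ (subset_normalClosure (Set.mem_singleton _)) _)
      (normalClosure_normal.conj_mem _ (subset_normalClosure (Set.mem_singleton _)) _)
  rw [eq_top_iff]
  intro g _
  obtain ⟨q, hq, hqg⟩ := e.exists_im (hKle (normalClosure_normal.conj_mem _ hzK g))
  exact e.mem_of_conj_zL hq hqg.symm

theorem surjective [Finite G] : Function.Surjective e.ψ :=
  MonoidHom.range_eq_top.mp e.range_eq_top

end Data

end CfsgLib.SymEightThree.Model
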