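import Cfsg.Agent.Lib.SymEightThree.ExcAdapt
import Cfsg.Agent.Lib.SymEightThree.ExcTop
import Cfsg.Agent.Lib.SymEightThree.ExcConcl

/-!
The exceptional case of the three-local characterisation: the conclusion.
-/

set_option autoImplicit false

namespace CfsgLib.SymEightThree.Base

variable {G : Type*} [Group G]

/-- In the exceptional case the group is the model, so the second conclusion holds. -/
theorem exceptional [Finite G] (b : Base G) (hb : b.IsExc)
    (hfour : ∀ k, (k = 3 ∨ k = 4) →
      Subgroup.centralizer (b.φ '' fourSet k) ≤ b.φ.range ⊔ b.ψ.range) :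
    ∃ N : Subgroup G, N.Normal ∧ Cfsg.generalizedFittingSubgroup G = N ∧
      Nonempty (N ≃* alternatingGroup (Fin 5) × alternatingGroup (Fin 5)) ∧
      (∀ K : Subgroup G, K.Normal → K ≤ N → K = ⊥ ∨ K = N) ∧
      N.index = 4 ∧ ∀ g : G, g ^ 2 ∈ N := by
  obtain ⟨e⟩ := b.exists_data hb hfour
  exact e.conclusion e.surjective

end CfsgLib.SymEightThree.Base
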