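import Mathlib.Algebra.Group.MinimalAxioms
import Mathlib.GroupTheory.Perm.Sign
import Mathlib.Tactic

/-!
Model of the exceptional three-local configuration: pairs of permutations of five points with
equal signs, extended by the swap, together with the finite facts used about it.
-/

set_option autoImplicit false

namespace CfsgLib.SymEightThree.Model

open Equiv

/-- The wreath product of the symmetric group on five points by a group of order two. -/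
@[ext]
structure W where
  a : Perm (Fin 5)
  b : Perm (Fin 5)
  f : Bool

namespace W

instance : DecidableEq W := fun p q =>
  decidable_of_iff (p.f = q.f ∧ p.a = q.a ∧ p.b = q.b)
    ⟨fun ⟨h1, h2, h3⟩ => W.ext h2 h3 h1, fun h => by subst h; exact ⟨rfl, rfl, rfl⟩⟩

instance : Mul W :=
  ⟨fun p q => ⟨p.a * bif p.f then q.b else q.a, p.b * bif p.f then q.a else q.b, p.f != q.f⟩⟩
instance : One W := ⟨⟨1, 1, false⟩⟩
instance : Inv W := ⟨fun p => ⟨bif p.f then p.b⁻¹ else p.a⁻¹, bif p.f then p.a⁻¹ else p.b⁻¹, p.f⟩⟩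

theorem mul_def (p q : W) : p * q =
    ⟨p.a * bif p.f then q.b else q.a, p.b * bif p.f then q.a else q.b, p.f != q.f⟩ := rfl

theorem one_def : (1 : W) = ⟨1, 1, false⟩ := rfl

theorem inv_def (p : W) : p⁻¹ =
    ⟨bif p.f then p.b⁻¹ else p.a⁻¹, bif p.f then p.a⁻¹ else p.b⁻¹, p.f⟩ := rfl

instance : Group W :=
  Group.ofLeftAxioms
    (fun ⟨_, _, f⟩ ⟨_, _, f'⟩ ⟨_, _, f''⟩ => by
      cases f <;> cases f' <;> cases f'' <;> simp [mul_def, mul_assoc])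
    (fun ⟨_, _, _⟩ => by simp [mul_def, one_def])
    (fun ⟨_, _, f⟩ => by cases f <;> simp [mul_def, inv_def, one_def])

instance : Fintype W :=
  Fintype.ofEquiv (Perm (Fin 5) × Perm (Fin 5) × Bool)
    { toFun := fun p => ⟨p.1, p.2.1, p.2.2⟩
      invFun := fun p => (p.a, p.b, p.f)
      left_inv := fun _ => rfl
      right_inv := fun _ => rfl }

/-- The product of the two signs. -/
def chi : W →* ℤˣ where
  toFun p := Perm.sign p.a * Perm.sign p.b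
  map_one' := by show Perm.sign (1 : Perm (Fin 5)) * Perm.sign (1 : Perm (Fin 5)) = 1; simp
  map_mul' := fun ⟨_, _, f⟩ ⟨_, _, _⟩ => by
    show Perm.sign (_ * _) * Perm.sign (_ * _) = _
    cases f <;> simp [mul_comm, mul_left_comm]

end W

/-- The model group: equal signs in both coordinates. -/
abbrev W0 : Subgroup W := W.chi.ker

theorem mem_W0 {p : W} : p ∈ W0 ↔ Perm.sign p.a * Perm.sign p.b = 1 := Iff.rfl

instance (p : W) : Decidable (p ∈ W0) := decidable_of_iff _ mem_W0.symm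

/-- `(0 1 2)` -/
def c5 : Perm (Fin 5) := swap 0 1 * swap 1 2
/-- `(0 3 1)` -/
def s5 : Perm (Fin 5) := swap 0 3 * swap 3 1
/-- `(0 1)(3 4)` -/
def t5 : Perm (Fin 5) := swap 0 1 * swap 3 4
/-- `(0 3)(1 4)` -/
def v5 : Perm (Fin 5) := swap 0 3 * swap 1 4
/-- `(3 4)` -/
def r5 : Perm (Fin 5) := swap 3 4

def zL : W := ⟨c5, 1, false⟩
def zR : W := ⟨1, c5, false⟩
def zz : W := ⟨c5, c5, false⟩
def tR : W := ⟨1, t5, false⟩
def tL : W := ⟨t5, 1, false⟩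
def vR : W := ⟨1, v5, false⟩
def tt : W := ⟨t5, t5, false⟩
def ee : W := ⟨r5, r5, false⟩
def ss : W := ⟨1, 1, true⟩
def wSigL : W := ⟨s5, 1, false⟩
def wSigR : W := ⟨1, s5, false⟩

/-- The four-group `{1, t5, v5, t5 * v5}`. -/
def four (i : Fin 4) : Perm (Fin 5) :=
  match i with
  | 0 => 1
  | 1 => t5
  | 2 => v5
  | 3 => t5 * v5

/-- The elements of the product of the two four-groups, in binary coordinates. -/
def jel (i : Fin 16) : W :=
  ⟨four ⟨i.val / 4, by omega⟩, four ⟨i.val % 4, by omega⟩, false⟩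

/-- Exclusive or of coordinates. -/
def xor16 (i k : Fin 16) : Fin 16 := ⟨(i.val ^^^ k.val) % 16, Nat.mod_lt _ (by norm_num)⟩

/-- The linear map with given images of the coordinate vectors two, four and eight, fixing one. -/
def lin (x y z : Fin 16) (i : Fin 16) : Fin 16 :=
  xor16 (xor16 (bif i.val.testBit 0 then 1 else 0) (bif i.val.testBit 1 then x else 0))
    (xor16 (bif i.val.testBit 2 then y else 0) (bif i.val.testBit 3 then z else 0))

/-- The index of an element of the product of the two four-groups. -/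
def jidx (p : W) : Fin 16 := ((List.finRange 16).find? fun i => jel i == p).getD 0

/-- The action of an element on the product of the two four-groups. -/
def actW (p : W) (i : Fin 16) : Fin 16 := jidx (p * jel i * p⁻¹)

/-- The normaliser of the product of the two four-groups, modulo that product. -/
def hs : List W := [
  1,
  wSigL,
  wSigR,
  ee,
  ss,
  wSigL * wSigL,
  wSigR * wSigL,
  ee * wSigL,
  ss * wSigL,
  wSigR * wSigR,
  ee * wSigR,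
  ss * wSigR,
  wSigL * ee,
  wSigR * ee,
  ss * ee,
  wSigR * wSigL * wSigL,
  ss * wSigL * wSigL,
  wSigR * wSigR * wSigL,
  ee * wSigR * wSigL,
  ss * wSigR * wSigL,
  wSigR * ee * wSigL,
  ss * ee * wSigL,
  ss * wSigR * wSigR,
  wSigL * ee * wSigR,
  ss * ee * wSigR,
  wSigR * wSigL * ee,
  ss * wSigL * ee,
  ss * wSigR * ee,
  wSigR * wSigR * wSigL * wSigL,
  ss * wSigR * wSigL * wSigL,
  ss * wSigR * wSigR * wSigL,
  ss * ee * wSigR * wSigL,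
  ss * wSigR * ee * wSigL,
  ss * wSigL * ee * wSigR,
  ss * wSigR * wSigL * ee,
  ss * wSigR * wSigR * wSigL * wSigL]

/-- The action of `ee`. -/
def uTab : List (Fin 16) := [0, 1, 3, 2, 4, 5, 7, 6, 12, 13, 15, 14, 8, 9, 11, 10]

/-- The actions of the elements of `hs`. -/
def hTab : List (List (Fin 16)) := [
  [0, 1, 2, 3, 4, 5, 6, 7, 8, 9, 10, 11, 12, 13, 14, 15],
  [0, 1, 2, 3, 8, 9, 10, 11, 12, 13, 14, 15, 4, 5, 6, 7],
  [0, 2, 3, 1, 4, 6, 7, 5, 8, 10, 11, 9, 12, 14, 15, 13],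
  [0, 1, 3, 2, 4, 5, 7, 6, 12, 13, 15, 14, 8, 9, 11, 10],
  [0, 4, 8, 12, 1, 5, 9, 13, 2, 6, 10, 14, 3, 7, 11, 15],
  [0, 1, 2, 3, 12, 13, 14, 15, 4, 5, 6, 7, 8, 9, 10, 11],
  [0, 2, 3, 1, 8, 10, 11, 9, 12, 14, 15, 13, 4, 6, 7, 5],
  [0, 1, 3, 2, 12, 13, 15, 14, 8, 9, 11, 10, 4, 5, 7, 6],
  [0, 4, 8, 12, 2, 6, 10, 14, 3, 7, 11, 15, 1, 5, 9, 13],
  [0, 3, 1, 2, 4, 7, 5, 6, 8, 11, 9, 10, 12, 15, 13, 14],
  [0, 3, 2, 1, 4, 7, 6, 5, 12, 15, 14, 13, 8, 11, 10, 9],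
  [0, 8, 12, 4, 1, 9, 13, 5, 2, 10, 14, 6, 3, 11, 15, 7],
  [0, 1, 3, 2, 8, 9, 11, 10, 4, 5, 7, 6, 12, 13, 15, 14],
  [0, 2, 1, 3, 4, 6, 5, 7, 12, 14, 13, 15, 8, 10, 9, 11],
  [0, 4, 12, 8, 1, 5, 13, 9, 3, 7, 15, 11, 2, 6, 14, 10],
  [0, 2, 3, 1, 12, 14, 15, 13, 4, 6, 7, 5, 8, 10, 11, 9],
  [0, 4, 8, 12, 3, 7, 11, 15, 1, 5, 9, 13, 2, 6, 10, 14],
  [0, 3, 1, 2, 8, 11, 9, 10, 12, 15, 13, 14, 4, 7, 5, 6],
  [0, 3, 2, 1, 12, 15, 14, 13, 8, 11, 10, 9, 4, 7, 6, 5],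
  [0, 8, 12, 4, 2, 10, 14, 6, 3, 11, 15, 7, 1, 9, 13, 5],
  [0, 2, 1, 3, 12, 14, 13, 15, 8, 10, 9, 11, 4, 6, 5, 7],
  [0, 4, 12, 8, 3, 7, 15, 11, 2, 6, 14, 10, 1, 5, 13, 9],
  [0, 12, 4, 8, 1, 13, 5, 9, 2, 14, 6, 10, 3, 15, 7, 11],
  [0, 3, 2, 1, 8, 11, 10, 9, 4, 7, 6, 5, 12, 15, 14, 13],
  [0, 12, 8, 4, 1, 13, 9, 5, 3, 15, 11, 7, 2, 14, 10, 6],
  [0, 2, 1, 3, 8, 10, 9, 11, 4, 6, 5, 7, 12, 14, 13, 15],
  [0, 4, 12, 8, 2, 6, 14, 10, 1, 5, 13, 9, 3, 7, 15, 11],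
  [0, 8, 4, 12, 1, 9, 5, 13, 3, 11, 7, 15, 2, 10, 6, 14],
  [0, 3, 1, 2, 12, 15, 13, 14, 4, 7, 5, 6, 8, 11, 9, 10],
  [0, 8, 12, 4, 3, 11, 15, 7, 1, 9, 13, 5, 2, 10, 14, 6],
  [0, 12, 4, 8, 2, 14, 6, 10, 3, 15, 7, 11, 1, 13, 5, 9],
  [0, 12, 8, 4, 3, 15, 11, 7, 2, 14, 10, 6, 1, 13, 9, 5],
  [0, 8, 4, 12, 3, 11, 7, 15, 2, 10, 6, 14, 1, 9, 5, 13],
  [0, 12, 8, 4, 2, 14, 10, 6, 1, 13, 9, 5, 3, 15, 11, 7],
  [0, 8, 4, 12, 2, 10, 6, 14, 1, 9, 5, 13, 3, 11, 7, 15],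
  [0, 12, 4, 8, 3, 15, 7, 11, 1, 13, 5, 9, 2, 14, 6, 10]]

/-- The action of the sign element. -/
def uAct (i : Fin 16) : Fin 16 := uTab.getD i.val 0

/-- The action of the `k`-th element of `hs`. -/
def hAct (k : Fin 36) (i : Fin 16) : Fin 16 := (hTab.getD k.val []).getD i.val 0

/-- For each candidate action, a word leading to a forbidden action. -/
def cert : List ((Fin 16 × Fin 16 × Fin 16) × List (Bool × Fin 36)) := [
  ((2,4,9), [(true, 0)]),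
  ((2,4,12), [(true, 0)]),
  ((2,4,13), [(true, 0)]),
  ((2,5,10), [(true, 0)]),
  ((2,5,11), [(true, 0)]),
  ((2,5,14), [(true, 0)]),
  ((2,5,15), [(true, 0)]),
  ((3,4,8), [(true, 3)]),
  ((3,4,9), [(true, 3)]),
  ((3,4,13), [(true, 3)]),
  ((3,5,10), [(true, 3)]),
  ((3,5,11), [(true, 3)]),
  ((3,5,14), [(true, 3)]),
  ((3,5,15), [(true, 3)]),
  ((6,4,8), [(true, 4), (true, 4), (true, 0)]),
  ((6,4,9), [(true, 3), (true, 1), (true, 1)]),
  ((6,4,12), [(true, 14), (true, 4), (true, 0)]),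
  ((6,4,13), [(true, 21), (true, 17), (true, 6)]),
  ((6,5,10), [(true, 8), (true, 1), (true, 6)]),
  ((6,5,11), [(true, 2), (true, 30), (true, 6)]),
  ((6,5,14), [(true, 3), (true, 0)]),
  ((6,5,15), [(true, 3), (true, 0)]),
  ((7,4,8), [(true, 4), (true, 4), (true, 0)]),
  ((7,4,9), [(true, 8), (true, 15), (true, 6)]),
  ((7,4,12), [(true, 14), (true, 4), (true, 0)]),
  ((7,4,13), [(true, 0), (true, 5), (true, 1)]),
  ((7,5,10), [(true, 3), (true, 0)]),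
  ((7,5,11), [(true, 3), (true, 0)]),
  ((7,5,14), [(true, 10), (true, 29), (true, 6)]),
  ((7,5,15), [(true, 14), (true, 2), (true, 6)])]

/-- The inverse of a map of the sixteen coordinates. -/
def inv16 (g : Fin 16 → Fin 16) (i : Fin 16) : Fin 16 :=
  ((List.finRange 16).find? fun k => g k == i).getD 0

/-- Evaluation of a word. -/
def evalWord (g : Fin 16 → Fin 16) : List (Bool × Fin 36) → Fin 16 → Fin 16
  | [], i => i
  | (b, k) :: l, i =>
      hAct k (bif b then g (evalWord g l i) else inv16 g (evalWord g l i))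

end CfsgLib.SymEightThree.Model
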