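import Cfsg.Agent.Lib.SymEightThree.ExcCentX
import Cfsg.Agent.Lib.Signalizer.SolvableFunctor
import Cfsg.Agent.Lib.FT.Final

/-!
The signalizer functor on the product of the two four-groups is trivial: the centralisers of its
involutions lie in the model.
-/

set_option autoImplicit false
set_option linter.style.haveILetI false

namespace CfsgLib.SymEightThree.Model

open Subgroup Equiv

theorem jel_orbit : ∀ i : Fin 16, i ≠ 0 → ∃ k : Fin 36, hAct k 1 = i ∨ hAct k 5 = i := by
  decide +kernel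

theorem jel_orbit_four : ∀ i : Fin 4, i ≠ 0 →
    ∃ k : Fin 36, hAct k 1 = ⟨i.val, by omega⟩ := by decide +kernel

theorem perm_s5_six : ∀ a : Perm (Fin 5),
    (a * s5 = s5 * a ∨ a * (s5 * s5) = s5 * s5 * a) → a ^ 6 = 1 := by decide +kernel

/-- The subgroup generated by the two elements of order three normalising the four-groups. -/
def sig (i : Fin 9) : W := ⟨s5 ^ (i.val / 3), s5 ^ (i.val % 3), false⟩

theorem sig_facts : ∀ i k : Fin 9, sig i ∈ W0 ∧ sig i ^ 3 = 1 ∧ sig i * sig k = sig k * sig i ∧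
    (sig i = sig k → i = k) ∧ ∃ l, sig l = sig i * sig k := by decide +kernel

theorem jel_zero_mk (h : 0 < 16) : jel ⟨0, h⟩ = 1 := by revert h; decide

theorem sig_cases : ∀ a : Fin 9, sig a ≠ 1 →
    (((sig a).a = s5 ∨ (sig a).a = s5 * s5) ∨
      ∀ i : Fin 4, sig a * jel ⟨4 * i.val, by omega⟩ = jel ⟨4 * i.val, by omega⟩ * sig a) ∧
    (((sig a).b = s5 ∨ (sig a).b = s5 * s5) ∨
      ∀ i : Fin 4, sig a * jel ⟨i.val, by omega⟩ = jel ⟨i.val, by omega⟩ * sig a) := by
  decide +kernel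

namespace Data

variable {G : Type*} [Group G] (e : Data G)

theorem core_map [Finite G] {i h x : G} (hx : x ∈ Cfsg.centralizerPPrimeCore 2 i) :
    h * x * h⁻¹ ∈ Cfsg.centralizerPPrimeCore 2 (h * i * h⁻¹) := by
  refine le_core (R := (Cfsg.centralizerPPrimeCore 2 i).map (MulAut.conj h).toMonoidHom) ?_ ?_ ?_
    ⟨x, hx, rfl⟩
  · rintro _ ⟨y, hy, rfl⟩
    exact mem_centralizer_singleton_iff.mpr
      (Commute.conj (mem_centralizer_singleton_iff.mp (core_le_centralizer _ hy)) h).eq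
  · rw [card_map_of_injective (MulAut.conj h).injective]
    exact core_odd i
  · rintro g hg _ ⟨y, hy, rfl⟩
    refine ⟨h⁻¹ * g * h * y * (h⁻¹ * g * h)⁻¹, core_conj_mem ?_ hy, ?_⟩
    · have := Commute.conj (mem_centralizer_singleton_iff.mp hg) h⁻¹
      rw [show h⁻¹ * (h * i * h⁻¹) * h⁻¹⁻¹ = i by group, inv_inv] at this
      exact mem_centralizer_singleton_iff.mpr this.eq
    · simp [mul_assoc]

/-- Every centraliser of an involution of the product of the four-groups is covered by its core and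
the image. -/
theorem exists_split_jel [Finite G] {i : Fin 16} (hi : i ≠ 0) {g : G}
    (hg : Commute g (e.im (jel i))) :
    ∃ k ∈ Cfsg.centralizerPPrimeCore 2 (e.im (jel i)), k * g ∈ e.ψ.range := by
  obtain ⟨k, hk⟩ := jel_orbit i hi
  have key : ∀ j : Fin 16, hAct k j = i →
      (∀ g : G, Commute g (e.im (jel j)) →
        ∃ o ∈ Cfsg.centralizerPPrimeCore 2 (e.im (jel j)), o * g ∈ e.ψ.range) →
      ∃ o ∈ Cfsg.centralizerPPrimeCore 2 (e.im (jel i)), o * g ∈ e.ψ.range := by
    intro j hj hsplit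
    set h := e.im (hs.getD k.val 1) with hh
    have hji : h * e.im (jel j) * h⁻¹ = e.im (jel i) := by
      rw [hh, ← e.im_conj (hs_mem k) (jel_mem j), hAct_spec, hj]
    obtain ⟨o, ho, hor⟩ := hsplit (h⁻¹ * g * h) (by
      have := Commute.conj hg h⁻¹
      rw [← hji, show h⁻¹ * (h * e.im (jel j) * h⁻¹) * h⁻¹⁻¹ = e.im (jel j) by group,
        inv_inv] at this
      exact this)
    refine ⟨h * o * h⁻¹, hji ▸ core_map ho, ?_⟩
    rw [show h * o * h⁻¹ * g = h * (o * (h⁻¹ * g * h)) * h⁻¹ by group]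
    exact mul_mem (mul_mem (e.im_mem _) hor) (e.ψ.range.inv_mem (e.im_mem _))
  rcases hk with hk | hk
  · exact key 1 hk fun g hg => e.exists_split_tR (by rwa [show jel 1 = tR by decide] at hg) |>.imp
      fun o ho => ⟨(show jel 1 = tR by decide).symm ▸ ho.1, ho.2⟩
  · exact key 5 hk fun g hg => e.exists_split_tt (by rwa [show jel 5 = tt by decide] at hg) |>.imp
      fun o ho => ⟨(show jel 5 = tt by decide).symm ▸ ho.1, ho.2⟩

/-- The product of the two four-groups. -/
def J : Subgroup G where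
  carrier := {x | ∃ i : Fin 16, e.im (jel i) = x}
  one_mem' := ⟨0, by rw [show jel 0 = 1 by decide, e.im_one]⟩
  mul_mem' := by
    rintro _ _ ⟨i, rfl⟩ ⟨k, rfl⟩
    exact ⟨xor16 i k, by rw [jel_mul, e.im_mul (jel_mem i) (jel_mem k)]⟩
  inv_mem' := by
    rintro _ ⟨i, rfl⟩
    exact ⟨i, eq_inv_of_mul_eq_one_left (by
      rw [← e.im_mul (jel_mem i) (jel_mem i), jel_sq, e.im_one])⟩

theorem J_elementary : Cfsg.IsElementaryAbelian 2 e.J := by
  refine ⟨⟨⟨fun x y => Subtype.ext ?_⟩⟩, fun a ha => ?_⟩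
  · obtain ⟨i, hi⟩ := x.2
    obtain ⟨k, hk⟩ := y.2
    show (x : G) * y = y * x
    rw [← hi, ← hk]; exact (e.jel_comm_im i k).eq
  · obtain ⟨i, rfl⟩ := ha
    rw [← e.im_pow (jel_mem i), pow_two, jel_sq, e.im_one]

theorem J_card [Finite G] : 2 ^ 3 ≤ Nat.card e.J := by
  let f : Fin 16 → e.J := fun i => ⟨e.im (jel i), i, rfl⟩
  have hf : Function.Injective f := fun i k h =>
    jel_inj _ _ (e.im_inj (jel_mem i) (jel_mem k) (congrArg Subtype.val h))
  calc 2 ^ 3 ≤ Nat.card (Fin 16) := by simp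
    _ ≤ _ := Nat.card_le_card_of_injective f hf

theorem jel_ne_zero {i : Fin 16} (h : e.im (jel i) ≠ 1) : i ≠ 0 := by
  rintro rfl
  rw [show jel 0 = 1 by decide, e.im_one] at h
  exact h rfl

theorem functor [Finite G] :
    Cfsg.IsSolvableSignalizerFunctor 2 e.J (Cfsg.centralizerPPrimeCore 2) := by
  refine ⟨⟨fun a _ _ => core_le_centralizer a,
    fun a _ _ => fun h => (Nat.not_even_iff_odd.mpr (core_odd a)) (even_iff_two_dvd.mpr h), ?_, ?_⟩,
    fun a _ _ => CfsgLib.FT.solvable_of_odd (core_odd a)⟩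
  · rintro a ⟨i, rfl⟩ _ b ⟨k, rfl⟩ x hx
    exact core_conj_mem (mem_centralizer_singleton_iff.mpr (e.jel_comm_im k i).eq) hx
  · rintro a ⟨i, rfl⟩ - b ⟨k, rfl⟩ hb x ⟨hxa, hxb⟩
    set O := Cfsg.centralizerPPrimeCore 2 (e.im (jel k)) with hO
    set R := Cfsg.centralizerPPrimeCore 2 (e.im (jel i)) ⊓ centralizer {e.im (jel k)} with hR
    have hRC : R ≤ centralizer ({e.im (jel k)} : Set G) := inf_le_right
    have hRN : R ≤ normalizer (O : Set G) := fun r hr => mem_normalizer_iff.mpr fun y =>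
      ⟨fun hy => core_conj_mem (hRC hr) hy, fun hy => by
        simpa [mul_assoc] using core_conj_mem (inv_mem (hRC hr)) hy⟩
    have hodd : Odd (Nat.card ↥((O ⊔ R) ⊓ e.ψ.range)) := by
      refine Odd.of_dvd_nat (Odd.mul ((core_odd _).of_dvd_nat (card_dvd_of_le (inf_le_left :
        R ≤ _))) (core_odd (e.im (jel k)))) ((card_dvd_of_le inf_le_left).trans ?_)
      exact sup_comm O R ▸ CfsgLib.Components.card_sup_dvd hRN
    have hbot := e.eq_bot_of_odd inf_le_right hodd (by
      intro l y hy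
      have hl : e.im (jel l) ∈ centralizer ({e.im (jel k)} : Set G) :=
        mem_centralizer_singleton_iff.mpr (e.jel_comm_im l k).eq
      have hl' : e.im (jel l) ∈ centralizer ({e.im (jel i)} : Set G) :=
        mem_centralizer_singleton_iff.mpr (e.jel_comm_im l i).eq
      have hmap : (O ⊔ R).map (MulAut.conj (e.im (jel l))).toMonoidHom ≤ O ⊔ R := by
        rw [Subgroup.map_sup]
        refine sup_le ?_ ?_ <;> rintro _ ⟨z, hz, rfl⟩
        · exact mem_sup_left (core_conj_mem hl hz)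
        · exact mem_sup_right ⟨core_conj_mem hl' hz.1,
            mul_mem (mul_mem hl hz.2) ((centralizer _).inv_mem hl)⟩
      exact ⟨hmap ⟨y, hy.1, rfl⟩,
        mul_mem (mul_mem (e.im_mem _) hy.2) (e.ψ.range.inv_mem (e.im_mem _))⟩)
    obtain ⟨o, ho, hor⟩ := e.exists_split_jel (e.jel_ne_zero hb)
      (mem_centralizer_singleton_iff.mp hxb)
    have hmem : o * x ∈ (O ⊔ R) ⊓ e.ψ.range :=
      ⟨mul_mem (mem_sup_left ho) (mem_sup_right ⟨hxa, hxb⟩), hor⟩
    rw [hbot, mem_bot] at hmem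
    rw [eq_inv_of_mul_eq_one_right hmem]
    exact inv_mem ho

/-- The core of the centraliser of a nontrivial element of the right four-group has no element
of order three. -/
theorem core_no_three [Finite G] {i : Fin 4} (hi : i ≠ 0) {d : G}
    (hd : d ∈ Cfsg.centralizerPPrimeCore 2 (e.im (jel ⟨i.val, by omega⟩))) (hd3 : d ^ 3 = 1) :
    d = 1 := by
  obtain ⟨k, hk⟩ := jel_orbit_four i hi
  set h := e.im (hs.getD k.val 1) with hh
  have ht : tR ∈ W0 := by decide
  have hz : zL ∈ W0 := by decide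
  have hji : h⁻¹ * e.im (jel ⟨i.val, by omega⟩) * h⁻¹⁻¹ = e.im tR := by
    rw [← show jel 1 = tR by decide, ← hk, hh, ← hAct_spec, e.im_conj (hs_mem k) (jel_mem 1)]
    group
  have hd' := core_map (h := h⁻¹) hd
  rw [hji] at hd'
  set d' := h⁻¹ * d * h⁻¹⁻¹ with hd'def
  have hd'3 : d' ^ 3 = 1 := by rw [hd'def, conj_pow, hd3, mul_one, mul_inv_cancel]
  have hd't : Commute d' (e.im tR) := mem_centralizer_singleton_iff.mp (core_le_centralizer _ hd')
  obtain ⟨m, hm, hm1, -⟩ := e.exists_conj_into (c := e.im zL) (e.im_commute hz ht (by decide))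
    (by rw [← e.im_pow hz, show zL ^ 3 = 1 by decide +kernel, e.im_one]) hd't hd't hd'3 hd'3
    (Commute.refl d')
  have hmem : m * d' * m⁻¹ ∈ Cfsg.centralizerPPrimeCore 2 (e.im (jel 1)) ⊓ e.ψ.range :=
    ⟨by rw [show jel 1 = tR by decide]
        exact core_conj_mem (mem_centralizer_singleton_iff.mpr hm.eq) hd',
      e.cent_three hz (by decide +kernel) (by decide) (mem_centralizer_singleton_iff.mpr hm1.eq)⟩
  rw [e.core_inf_range, mem_bot, conj_eq_one_iff, hd'def, conj_eq_one_iff] at hmem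
  exact hmem

/-- The signalizer functor is trivial. -/
theorem core_eq_bot [Finite G] {i : Fin 16} (hi : i ≠ 0) :
    Cfsg.centralizerPPrimeCore 2 (e.im (jel i)) = ⊥ := by
  haveI : Fact (Nat.Prime 2) := ⟨Nat.prime_two⟩
  haveI : Fact (Nat.Prime 3) := ⟨Nat.prime_three⟩
  set θ := Cfsg.centralizerPPrimeCore (G := G) 2 with hθ
  obtain ⟨hWf, hWc⟩ := CfsgLib.Signalizer.iSup_functor_spec e.J_elementary e.J_card e.functor
  set U := ⨆ a : {a : G // a ∈ e.J ∧ a ≠ 1}, θ a with hU
  have hUodd : Odd (Nat.card U) := Nat.not_even_iff_odd.mp fun h => hWf.2.1 (even_iff_two_dvd.mp h)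
  have hjne : ∀ j : Fin 16, j ≠ 0 → e.im (jel j) ∈ e.J ∧ e.im (jel j) ≠ 1 := fun j hj =>
    ⟨⟨j, rfl⟩, fun h => hj (jel_inj j 0 ((e.im_eq_one (jel_mem j) h).trans
      (show (1 : W) = jel 0 by decide)))⟩
  -- the order is prime to three
  let V : Subgroup G :=
    { carrier := {x | ∃ i : Fin 4, e.im (jel ⟨i.val, by omega⟩) = x}
      one_mem' := ⟨0, by rw [show jel ⟨((0 : Fin 4) : ℕ), by omega⟩ = 1 by decide, e.im_one]⟩
      mul_mem' := by
        rintro _ _ ⟨a, rfl⟩ ⟨b, rfl⟩
        have hab : ∀ a b : Fin 4, ∃ c : Fin 4, jel ⟨c.val, by omega⟩ =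
            jel ⟨a.val, by omega⟩ * jel ⟨b.val, by omega⟩ := by decide +kernel
        obtain ⟨c, hc⟩ := hab a b
        exact ⟨c, by rw [hc, e.im_mul (jel_mem _) (jel_mem _)]⟩
      inv_mem' := by
        rintro _ ⟨a, rfl⟩
        exact ⟨a, eq_inv_of_mul_eq_one_left (by
          rw [← e.im_mul (jel_mem _) (jel_mem _), jel_sq, e.im_one])⟩ }
  have hVJ : V ≤ e.J := by rintro _ ⟨a, rfl⟩; exact ⟨_, rfl⟩
  have hVe : Cfsg.IsElementaryAbelian 2 V :=
    CfsgLib.Signalizer.elementary_of_le e.J_elementary hVJ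
  have hV4 : 2 ^ 2 ≤ Nat.card V := by
    let f : Fin 4 → V := fun a => ⟨e.im (jel ⟨a.val, by omega⟩), a, rfl⟩
    have hf : Function.Injective f := fun a b h => Fin.ext (congrArg (fun j : Fin 16 => j.val)
      (jel_inj _ _ (e.im_inj (jel_mem _) (jel_mem _) (congrArg Subtype.val h))) : _)
    calc 2 ^ 2 ≤ Nat.card (Fin 4) := by simp
      _ ≤ _ := Nat.card_le_card_of_injective f hf
  have hVN : V ≤ normalizer (U : Set G) := hVJ.trans (CfsgLib.Signalizer.family_le_normalizer hWf)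
  have h3 : ¬ 3 ∣ Nat.card U := by
    intro hdvd
    obtain ⟨P, hP⟩ := CfsgLib.Solvable.exists_invariant_sylow hVN
      (CfsgLib.Signalizer.elementary_coprime hVe hWf.2.1) (Or.inr hWf.1) 3
    set P' := (P : Subgroup U).map U.subtype with hP'
    have hPle : P' ≤ ⊥ := by
      refine CfsgLib.Signalizer.le_of_centralizers hVe hV4
        (fun h => hWf.2.1 (h.trans (card_dvd_of_le (map_subtype_le _)))) hP ?_
      rintro a ⟨l, rfl⟩ ha x ⟨hx, hxc⟩
      rw [mem_bot]
      have hl : l ≠ 0 := by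
        rintro rfl
        exact ha ((congrArg e.im (jel_zero_mk _)).trans e.im_one)
      have hxθ : x ∈ θ (e.im (jel ⟨l.val, by omega⟩)) := by
        have := hWc _ ⟨_, rfl⟩ ha
        show x ∈ Cfsg.centralizerPPrimeCore 2 _
        rw [← this]
        exact ⟨map_subtype_le _ hx, hxc⟩
      obtain ⟨y, hy, hyx⟩ := hx
      obtain ⟨n, hn⟩ := P.2 ⟨y, hy⟩
      have hxn : x ^ 3 ^ n = 1 := by
        rw [← hyx, ← map_pow]
        exact (congrArg U.subtype (congrArg Subtype.val hn)).trans (map_one _)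
      clear hn
      induction n with
      | zero => simpa using hxn
      | succ n ih =>
        refine ih (e.core_no_three hl (pow_mem hxθ _) ?_)
        rw [← pow_mul, ← pow_succ]; exact hxn
    have hcard : Nat.card (P : Subgroup U) = 1 := by
      rw [← card_map_of_injective U.subtype_injective, ← hP', eq_bot_iff.mpr hPle, card_bot]
    have := P.dvd_card_of_dvd_card hdvd
    rw [hcard] at this
    omega
  -- the elements of order three normalise `U`
  let S : Subgroup G :=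
    { carrier := {x | ∃ i : Fin 9, e.im (sig i) = x}
      one_mem' := ⟨0, by rw [show sig 0 = 1 by decide, e.im_one]⟩
      mul_mem' := by
        rintro _ _ ⟨a, rfl⟩ ⟨b, rfl⟩
        obtain ⟨l, hl⟩ := (sig_facts a b).2.2.2.2
        exact ⟨l, by rw [hl, e.im_mul (sig_facts a b).1 (sig_facts b a).1]⟩
      inv_mem' := by
        rintro _ ⟨a, rfl⟩
        obtain ⟨l, hl⟩ := (sig_facts a a).2.2.2.2
        refine ⟨l, eq_inv_of_mul_eq_one_left ?_⟩
        rw [← e.im_mul (sig_facts l a).1 (sig_facts a a).1, hl, ← pow_three', (sig_facts a a).2.1,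
          e.im_one] }
  have hSe : Cfsg.IsElementaryAbelian 3 S := by
    refine ⟨⟨⟨fun x y => Subtype.ext ?_⟩⟩, ?_⟩
    · obtain ⟨a, ha⟩ := x.2
      obtain ⟨b, hb⟩ := y.2
      show (x : G) * y = y * x
      rw [← ha, ← hb]
      exact (e.im_commute (sig_facts a b).1 (sig_facts b a).1 (sig_facts a b).2.2.1).eq
    · rintro _ ⟨a, rfl⟩
      rw [← e.im_pow (sig_facts a a).1, (sig_facts a a).2.1, e.im_one]
  have hS9 : 3 ^ 2 ≤ Nat.card S := by
    let f : Fin 9 → S := fun a => ⟨e.im (sig a), a, rfl⟩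
    have hf : Function.Injective f := fun a b h =>
      (sig_facts a b).2.2.2.1 (e.im_inj (sig_facts a b).1 (sig_facts b a).1 (congrArg Subtype.val h))
    calc 3 ^ 2 ≤ Nat.card (Fin 9) := by simp
      _ ≤ _ := Nat.card_le_card_of_injective f hf
  have hSN : S ≤ normalizer (U : Set G) := by
    rw [le_normalizer_iff]
    rintro _ ⟨a, rfl⟩ x hx
    have hJc : ∀ j : Fin 16, ∃ l : Fin 16, sig a * jel j * (sig a)⁻¹ = jel l := by
      revert a; decide +kernel
    have hmap : U.map (MulAut.conj (e.im (sig a))).toMonoidHom ≤ U := by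
      rw [hU, Subgroup.map_iSup]
      refine iSup_le fun ⟨b, hb, hb1⟩ => ?_
      obtain ⟨j, rfl⟩ := hb
      obtain ⟨l, hl⟩ := hJc j
      have hl' : e.im (sig a) * e.im (jel j) * (e.im (sig a))⁻¹ = e.im (jel l) := by
        rw [← e.im_conj (sig_facts a a).1 (jel_mem j), hl]
      rintro _ ⟨y, hy, rfl⟩
      have hne : e.im (jel l) ≠ 1 := fun h => hb1 (by
        rw [h, conj_eq_one_iff] at hl'; exact hl')
      refine mem_iSup_of_mem ⟨e.im (jel l), ⟨l, rfl⟩, hne⟩ ?_
      · show e.im (sig a) * y * (e.im (sig a))⁻¹ ∈ θ (e.im (jel l))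
        rw [← hl']; exact core_map hy
    exact hmap ⟨x, hx, rfl⟩
  have hUbot : U ≤ ⊥ := by
    refine CfsgLib.Signalizer.le_of_centralizers hSe hS9 h3 hSN ?_
    rintro _ ⟨a, rfl⟩ ha x ⟨hxU, hxc⟩
    rw [mem_bot]
    set R := U ⊓ centralizer ({e.im (sig a)} : Set G) with hR
    have hne : sig a ≠ 1 := fun h => ha (by rw [h, e.im_one])
    obtain ⟨q, hq, rfl⟩ := e.exists_im
      (e.cent_three (sig_facts a a).1 (sig_facts a a).2.1 hne hxc)
    have hqs := e.commute_of_im hq (sig_facts a a).1 (mem_centralizer_singleton_iff.mp hxc)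
    set n := Nat.card U with hn
    have hpow : q ^ n = 1 := e.im_inj (pow_mem hq n) (one_mem _) (by
      rw [e.im_pow hq, e.im_one]
      exact congrArg Subtype.val (pow_card_eq_one' (x := (⟨e.im q, hxU⟩ : U))))
    have hf := f_false_of_odd hUodd hpow
    have hcop : Nat.Coprime n 6 := by
      rw [show 6 = 2 * 3 from rfl]
      exact Nat.Coprime.mul_right (Nat.coprime_two_right.mpr hUodd)
        ((Nat.prime_three.coprime_iff_not_dvd.mpr h3).symm)
    have hsix : ∀ c : Perm (Fin 5), c ^ n = 1 → c ^ 6 = 1 → c = 1 := fun c h1 h2 => by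
      have := pow_gcd_eq_one.mpr ⟨h1, h2⟩
      rwa [Nat.coprime_iff_gcd_eq_one.mp hcop, pow_one] at this
    have hRodd : Odd (Nat.card R) := hUodd.of_dvd_nat (card_dvd_of_le inf_le_left)
    have hconjR : ∀ j : Fin 16, sig a * jel j = jel j * sig a → ∀ y ∈ R,
        e.im (jel j) * y * (e.im (jel j))⁻¹ ∈ R := fun j hj y hy => by
      refine ⟨(mem_normalizer_iff.mp (CfsgLib.Signalizer.family_le_normalizer hWf ⟨j, rfl⟩) y).mp
        hy.1, mul_mem (mul_mem ?_ hy.2) ((centralizer _).inv_mem ?_)⟩ <;>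
      exact mem_centralizer_singleton_iff.mpr
        (e.im_commute (jel_mem j) (sig_facts a a).1 hj.symm).eq
    obtain ⟨qa, qb, qf⟩ := q
    obtain rfl : qf = false := hf
    have hqa : qa ^ n = 1 := by rw [← (pow_comp (p := ⟨qa, qb, false⟩) rfl n).1, hpow]; rfl
    have hqb : qb ^ n = 1 := by rw [← (pow_comp (p := ⟨qa, qb, false⟩) rfl n).2.1, hpow]; rfl
    have hcomA : qa * (sig a).a = (sig a).a * qa := (congrArg W.a hqs : _)
    have hcomB : qb * (sig a).b = (sig a).b * qb := (congrArg W.b hqs : _)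
    obtain ⟨h1, h2⟩ := sig_cases a hne
    have ha1 : qa = 1 := by
      rcases h1 with h1 | h1
      · exact hsix _ hqa (perm_s5_six _ (by
          rcases h1 with h | h <;> rw [h] at hcomA
          exacts [Or.inl hcomA, Or.inr hcomA]))
      · exact e.left_eq_one hRodd (fun l => hconjR _ (h1 l)) hq ⟨hxU, hxc⟩
    have hb1 : qb = 1 := by
      rcases h2 with h2 | h2
      · exact hsix _ hqb (perm_s5_six _ (by
          rcases h2 with h | h <;> rw [h] at hcomB
          exacts [Or.inl hcomB, Or.inr hcomB]))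
      · exact (e.right_eq_one hRodd (fun l => hconjR _ (h2 l)) hq ⟨hxU, hxc⟩).1
    subst ha1 hb1
    exact e.im_one
  exact le_bot_iff.mp ((le_iSup (fun a : {a : G // a ∈ e.J ∧ a ≠ 1} => θ a)
    ⟨_, hjne i hi⟩).trans hUbot)

theorem cent_tR [Finite G] : centralizer ({e.im tR} : Set G) ≤ e.ψ.range := by
  intro g hg
  obtain ⟨k, hk, hkg⟩ := e.exists_split_tR (mem_centralizer_singleton_iff.mp hg)
  rw [← show jel 1 = tR by decide, e.core_eq_bot (by decide), mem_bot] at hk
  rwa [hk, one_mul] at hkg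

theorem cent_tt [Finite G] : centralizer ({e.im tt} : Set G) ≤ e.ψ.range := by
  intro g hg
  obtain ⟨k, hk, hkg⟩ := e.exists_split_tt (mem_centralizer_singleton_iff.mp hg)
  rw [← show jel 5 = tt by decide, e.core_eq_bot (by decide), mem_bot] at hk
  rwa [hk, one_mul] at hkg

end Data

end CfsgLib.SymEightThree.Model
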