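import Cfsg.Agent.Lib.AltEightThree.CentTModel
import Cfsg.Agent.Lib.AltEightThree.Invols

/-!
Model facts for the transfer step: a Sylow two-subgroup of the symmetric group on eight points
and the four transpositions in it.
-/

set_option autoImplicit false
set_option maxRecDepth 20000
set_option synthInstance.maxSize 2000
set_option synthInstance.maxHeartbeats 200000

namespace CfsgLib.SymEightThree.Index

open Equiv Equiv.Perm CfsgLib.AltEightThree CfsgLib.AltEightThree.CentT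

/-- `(4 5)` -/
def pr : Perm (Fin 8) := swap 4 5
/-- `(0 5)(1 6)(2 7)` -/
def pr3 : Perm (Fin 8) := swap 0 5 * swap 1 6 * swap 2 7
/-- `(3 6 7)` -/
def pz' : Perm (Fin 8) := swap 3 6 * swap 6 7
/-- The map exchanging the two blocks of four points. -/
def pB : Perm (Fin 8) := swap 0 4 * swap 1 5 * swap 2 6 * swap 3 7

/-- The four transpositions. -/
def sw : Fin 4 → Perm (Fin 8) := ![swap 0 1, swap 2 3, swap 4 5, swap 6 7]

/-- The permutations preserving `{pt, pu}`. -/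
def T0 : Subgroup (Perm (Fin 8)) := Subgroup.normalizer ({pt, pu} : Set (Perm (Fin 8)))

theorem mem_T0 {x : Perm (Fin 8)} : x ∈ T0 ↔
    (x * pt * x⁻¹ = pt ∧ x * pu * x⁻¹ = pu) ∨ (x * pt * x⁻¹ = pu ∧ x * pu * x⁻¹ = pt) := by
  have hne : pt ≠ pu := by decide
  have himg : MulAut.conj x '' ({pt, pu} : Set (Perm (Fin 8))) =
      {x * pt * x⁻¹, x * pu * x⁻¹} := by
    rw [Set.image_pair]
    rfl
  rw [T0, Subgroup.mem_normalizer_iff_conj_image_eq, himg, Set.pair_eq_pair_iff]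

theorem basic : sw 2 * sw 3 = pt ∧ sw 0 * sw 1 = pu ∧ sw 1 * sw 0 = pu ∧ sw 3 * sw 2 = pt := by
  decide

theorem sw_injective : Function.Injective sw := by decide

theorem mem_facts : (∀ i, sw i * pt * (sw i)⁻¹ = pt ∧ sw i * pu * (sw i)⁻¹ = pu) ∧
    ps * pt * ps⁻¹ = pt ∧ ps * pu * ps⁻¹ = pu ∧ pB * pt * pB⁻¹ = pu ∧ pB * pu * pB⁻¹ = pt := by
  decide

theorem sw_mem (i : Fin 4) : sw i ∈ T0 := mem_T0.mpr (Or.inl (mem_facts.1 i))
theorem ps_mem : ps ∈ T0 := mem_T0.mpr (Or.inl ⟨mem_facts.2.1, mem_facts.2.2.1⟩)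
theorem pB_mem : pB ∈ T0 := mem_T0.mpr (Or.inr ⟨mem_facts.2.2.2.1, mem_facts.2.2.2.2⟩)

theorem pB_conj : ∀ i : Fin 4, pB * sw i * pB⁻¹ = sw (i + 2) := by decide

theorem pB_sq : pB * pB = 1 := by decide

theorem sw_facts : (∀ i, sw i * sw i = 1 ∧ sw i ≠ 1 ∧ (sw i).support.card = 2 ∧
      Perm.sign (sw i) = -1) ∧
    ps * sw 0 * ps⁻¹ = sw 0 ∧ ps * sw 1 * ps⁻¹ = sw 1 ∧ ps * sw 2 * ps⁻¹ = sw 3 ∧
    ps * sw 3 * ps⁻¹ = sw 2 ∧ ps * ps = 1 ∧ ps ≠ 1 ∧ ps.support.card = 4 ∧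
    pr * pt * pr⁻¹ = pt ∧ pr * (ps * pt) * pr⁻¹ = ps := by
  decide

/-- Elements of `T0` as pairs, possibly times `pB`. -/
theorem exists_of_mem_T0 {x : Perm (Fin 8)} (hx : x ∈ T0) : ∃ a b : Perm (Fin 4),
    a * t4 = t4 * a ∧ b * t4 = t4 * b ∧ (x = emb44 (a, b) ∨ x = emb44 (a, b) * pB) := by
  have key : ∀ y : Perm (Fin 8), y * pt * y⁻¹ = pt → y * pu * y⁻¹ = pu →
      ∃ a b : Perm (Fin 4), a * t4 = t4 * a ∧ b * t4 = t4 * b ∧ y = emb44 (a, b) := by
    intro y ht hu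
    rw [mul_inv_eq_iff_eq_mul] at ht hu
    obtain ⟨a, b, hab⟩ := exists_emb44 y fun i hi => by
      rw [← pt_pred]
      have h := DFunLike.congr_fun ht i
      rw [Perm.mul_apply, Perm.mul_apply, (pt_pred i).mpr hi] at h
      exact h.symm
    rw [← hab, ← emb44_t, ← map_mul, ← map_mul] at ht
    rw [← hab, ← emb44_u, ← map_mul, ← map_mul] at hu
    exact ⟨a, b, congrArg Prod.fst (emb44_injective hu), congrArg Prod.snd (emb44_injective ht),
      hab.symm⟩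
  rcases mem_T0.mp hx with ⟨ht, hu⟩ | ⟨ht, hu⟩
  · obtain ⟨a, b, ha, hb, h⟩ := key x ht hu
    exact ⟨a, b, ha, hb, Or.inl h⟩
  · have hBt := mem_facts.2.2.2.1
    have hBu := mem_facts.2.2.2.2
    obtain ⟨a, b, ha, hb, h⟩ := key (x * pB)
      (by
        calc x * pB * pt * (x * pB)⁻¹ = x * (pB * pt * pB⁻¹) * x⁻¹ := by group
          _ = pt := by rw [hBt, hu])
      (by
        calc x * pB * pu * (x * pB)⁻¹ = x * (pB * pu * pB⁻¹) * x⁻¹ := by group
          _ = pu := by rw [hBu, ht])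
    exact ⟨a, b, ha, hb, Or.inr (by rw [← h, mul_assoc, pB_sq, mul_one])⟩

theorem pow_eight : ∀ a b : Perm (Fin 4), a * t4 = t4 * a → b * t4 = t4 * b →
    emb44 (a, b) ^ 8 = 1 ∧ (emb44 (a, b) * pB) ^ 8 = 1 := by
  decide +kernel

theorem transposition_mem : ∀ a b : Perm (Fin 4), a * t4 = t4 * a → b * t4 = t4 * b →
    ((emb44 (a, b)).support.card = 2 → ∃ i, emb44 (a, b) = sw i) ∧
      (emb44 (a, b) * pB).support.card ≠ 2 := by
  decide +kernel

/-- Exchanges two of the transpositions by conjugation and fixes the other two. -/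
def Swaps (x : Perm (Fin 8)) (i j k l : Fin 4) : Prop :=
  x * sw i = sw j * x ∧ x * sw j = sw i * x ∧ x * sw k = sw k * x ∧ x * sw l = sw l * x

instance (x : Perm (Fin 8)) (i j k l : Fin 4) : Decidable (Swaps x i j k l) :=
  inferInstanceAs (Decidable (_ ∧ _ ∧ _ ∧ _))

theorem swaps_pairs : ∀ a b : Perm (Fin 4), a * t4 = t4 * a → b * t4 = t4 * b →
    ∀ i j k l : Fin 4, [i, j, k, l].Nodup →
      (Swaps (emb44 (a, b)) i j k l ∨ Swaps (emb44 (a, b) * pB) i j k l) →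
        (i.val / 2 = j.val / 2 ∧ k.val / 2 = l.val / 2) := by
  decide +kernel

theorem swaps_s : ∀ a b : Perm (Fin 4), a * t4 = t4 * a → b * t4 = t4 * b →
    ¬ Swaps (emb44 (a, b) * pB) 2 3 0 1 ∧
      (Swaps (emb44 (a, b)) 2 3 0 1 → emb44 (a, b) * emb44 (a, b) = 1 →
        (emb44 (a, b)).support.card = 4 → emb44 (a, b) = ps ∨ emb44 (a, b) = ps * pt) := by
  decide +kernel

theorem T0_isPGroup : IsPGroup 2 T0 := fun x => ⟨3, by
  obtain ⟨a, b, ha, hb, h | h⟩ := exists_of_mem_T0 x.2 <;> refine Subtype.ext ?_ <;>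
    rw [SubmonoidClass.coe_pow, h]
  exacts [(pow_eight a b ha hb).1, (pow_eight a b ha hb).2]⟩

/-- A transposition in `T0` is one of the four. -/
theorem eq_sw_of_mem {x : Perm (Fin 8)} (hx : x ∈ T0) (h2 : x.support.card = 2) :
    ∃ i, x = sw i := by
  obtain ⟨a, b, ha, hb, rfl | rfl⟩ := exists_of_mem_T0 hx
  · exact (transposition_mem a b ha hb).1 h2
  · exact absurd h2 (transposition_mem a b ha hb).2

theorem pairs_of_swaps {x : Perm (Fin 8)} (hx : x ∈ T0) {i j k l : Fin 4}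
    (hd : [i, j, k, l].Nodup) (h : Swaps x i j k l) :
    i.val / 2 = j.val / 2 ∧ k.val / 2 = l.val / 2 := by
  obtain ⟨a, b, ha, hb, rfl | rfl⟩ := exists_of_mem_T0 hx
  · exact swaps_pairs a b ha hb i j k l hd (Or.inl h)
  · exact swaps_pairs a b ha hb i j k l hd (Or.inr h)

theorem eq_s_of_swaps {x : Perm (Fin 8)} (hx : x ∈ T0) (h : Swaps x 2 3 0 1) (hxx : x * x = 1)
    (h4 : x.support.card = 4) : x = ps ∨ x = ps * pt := by
  obtain ⟨a, b, ha, hb, rfl | rfl⟩ := exists_of_mem_T0 hx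
  · exact (swaps_s a b ha hb).2 h hxx h4
  · exact absurd h (swaps_s a b ha hb).1

/-! ### Centraliser orders -/

theorem pr3_facts : pr3 * pr3 = 1 ∧ pr3 ≠ 1 ∧ pr3.support.card = 6 ∧
    pr3 * (pz * pw) = pz * pw * pr3 ∧ pn * (pz * pw) = pz * pw * pn ∧ pn * pn = 1 ∧ pn ≠ 1 ∧
    pn.support.card = 8 ∧ pt * pz = pz * pt ∧ pr * pz = pz * pr ∧ pr * pz' = pz' * pr ∧
    pz * pz' = pz' * pz ∧ pz ^ 3 = 1 ∧ pz' ^ 3 = 1 ∧ (pz * pw) ^ 3 = 1 ∧ pz ≠ 1 ∧ pz * pw ≠ 1 ∧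
    pz' ≠ 1 ∧ pz' ≠ pz ∧ pz' ≠ pz⁻¹ ∧ pt * pt = 1 ∧ pt ≠ 1 ∧ pt.support.card = 4 := by
  decide

theorem cycleType_of_support {x : Perm (Fin 8)} {k : ℕ} (hxx : x * x = 1) (hx1 : x ≠ 1)
    (hc : x.support.card = 2 * k) : x.cycleType = Multiset.replicate k 2 := by
  obtain ⟨m, hm, hm'⟩ := cycleType_invol hxx hx1
  obtain rfl : m = k := by omega
  exact hm

theorem not_nine_dvd {x : Perm (Fin 8)} {k : ℕ} (hk : k = 2 ∨ k = 3 ∨ k = 4)
    (h : x.cycleType = Multiset.replicate k 2) :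
    ¬ 9 ∣ Nat.card (Subgroup.centralizer ({x} : Set (Perm (Fin 8)))) := by
  rw [Perm.nat_card_centralizer, h]
  rcases hk with rfl | rfl | rfl <;>
    simp [Multiset.toFinset_replicate, Multiset.count_replicate, Nat.factorial]

theorem card_centralizer_lt :
    Nat.card (Subgroup.centralizer ({pz * pw} : Set (Perm (Fin 8)))) <
      Nat.card (Subgroup.centralizer ({pz} : Set (Perm (Fin 8)))) := by
  have hz : pz.cycleType = {3} := by
    have := isThreeCycle_swap_mul_swap_same (α := Fin 8) (a := 1) (b := 0) (c := 2)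
      (by decide) (by decide) (by decide)
    rw [swap_comm 1 0] at this
    exact this.cycleType
  rw [Perm.nat_card_centralizer, Perm.nat_card_centralizer, cycleType_py, hz]
  simp [Multiset.toFinset_replicate, Multiset.count_replicate, Nat.factorial]

/-- Involutions by the number of moved points. -/
theorem invol_types {x : Perm (Fin 8)} (hxx : x * x = 1) (hx1 : x ≠ 1) :
    x.support.card = 2 ∨ ∃ c : Perm (Fin 8),
      c * pt * c⁻¹ = x ∧ x.support.card = 4 ∨ c * pr3 * c⁻¹ = x ∧ x.support.card = 6 ∨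
        c * pn * c⁻¹ = x ∧ x.support.card = 8 := by
  obtain ⟨h3, h31, h36, -, -, hn, hn1, hn8, -, -, -, -, -, -, -, -, -, -, -, -, ht, ht1, ht4⟩ :=
    pr3_facts
  obtain ⟨m, hm, hm'⟩ := cycleType_invol hxx hx1
  have h8 : x.support.card ≤ 8 := (Finset.card_le_univ _).trans (by simp)
  have hm0 : m ≠ 0 := fun h0 => hx1 (cycleType_eq_zero.1 (by rw [hm, h0]; rfl))
  obtain rfl | rfl | rfl | rfl : m = 1 ∨ m = 2 ∨ m = 3 ∨ m = 4 := by omega
  · exact Or.inl hm'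
  · obtain ⟨c, hc⟩ := isConj_iff.mp (isConj_iff_cycleType_eq.2
      ((cycleType_of_support ht ht1 (k := 2) ht4).trans hm.symm))
    exact Or.inr ⟨c, Or.inl ⟨hc, hm'⟩⟩
  · obtain ⟨c, hc⟩ := isConj_iff.mp (isConj_iff_cycleType_eq.2
      ((cycleType_of_support h3 h31 (k := 3) h36).trans hm.symm))
    exact Or.inr ⟨c, Or.inr (Or.inl ⟨hc, hm'⟩)⟩
  · obtain ⟨c, hc⟩ := isConj_iff.mp (isConj_iff_cycleType_eq.2
      ((cycleType_of_support hn hn1 (k := 4) hn8).trans hm.symm))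
    exact Or.inr ⟨c, Or.inr (Or.inr ⟨hc, hm'⟩)⟩

end CfsgLib.SymEightThree.Index
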