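import Cfsg.Agent.Lib.SymEightThree.Base
import Cfsg.Agent.Lib.SymEightThree.IndexModel
import Cfsg.Agent.Lib.AltEightThree.CentT
import Cfsg.Agent.Lib.Fusion.ThompsonTransfer

/-!
An embedded symmetric group on eight points with the local subgroups has a subgroup of index two
of the ambient group meeting it in the alternating group.
-/

set_option autoImplicit false
set_option linter.style.haveILetI false
set_option maxHeartbeats 1000000

namespace CfsgLib.SymEightThree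

open Subgroup Equiv Index
open CfsgLib.AltEightThree (pz pw pt ps pu pn A8 mem_A8)

variable {G : Type*} [Group G] [Finite G] (e : EmbEight G)

namespace EmbEight

theorem cent_z_le : centralizer ({e.φ pz} : Set G) ≤ e.φ.range := fun g hg => e.le_z
  (CfsgLib.AltEightThree.CentT.mem_normalizer_zpowers (Or.inl (by
    show g * e.φ pz * g⁻¹ = e.φ pz
    rw [mem_centralizer_singleton_iff.mp hg, mul_inv_cancel_right])))

theorem cent_y_le : centralizer ({e.φ (pz * pw)} : Set G) ≤ e.φ.range := e.le_y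

theorem card_cent {c : Perm (Fin 8)} (hc : centralizer ({e.φ c} : Set G) ≤ e.φ.range) :
    Nat.card (centralizer ({e.φ c} : Set G)) =
      Nat.card (centralizer ({c} : Set (Perm (Fin 8)))) := by
  rw [Nat.card_congr ((centralizer ({c} : Set (Perm (Fin 8)))).equivMapOfInjective e.φ e.inj).toEquiv]
  congr 2
  refine le_antisymm (fun g hg => ?_) ?_
  · obtain ⟨x, rfl⟩ := MonoidHom.mem_range.mp (hc hg)
    exact mem_map_of_mem _ (mem_centralizer_singleton_iff.mpr (e.inj (by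
      rw [map_mul, map_mul]; exact mem_centralizer_singleton_iff.mp hg)))
  · rintro _ ⟨x, hx, rfl⟩
    exact mem_centralizer_singleton_iff.mpr (by
      rw [← map_mul, ← map_mul, mem_centralizer_singleton_iff.mp hx])

/-- A centraliser containing a self-contained element of order three has Sylow three-subgroups of
order three. -/
theorem sylow_three_card {x c : Perm (Fin 8)} (hc : centralizer ({e.φ c} : Set G) ≤ e.φ.range)
    (hc3 : c ^ 3 = 1) (hc1 : c ≠ 1) (hxc : x * c = c * x)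
    (h9 : ¬ 9 ∣ Nat.card (centralizer ({x} : Set (Perm (Fin 8))))) :
    ∀ P : Sylow 3 (centralizer ({e.φ x} : Set G)), Nat.card P = 3 := by
  haveI : Fact (Nat.Prime 3) := ⟨Nat.prime_three⟩
  set C := centralizer ({e.φ x} : Set G) with hC
  let c' : C := ⟨e.φ c, mem_centralizer_singleton_iff.mpr (by rw [← map_mul, ← map_mul, hxc])⟩
  have hord : orderOf c' = 3 := orderOf_eq_prime
    (Subtype.ext (by rw [SubmonoidClass.coe_pow, ← map_pow, hc3, map_one]; rfl))
    (fun h => hc1 (e.inj ((congrArg Subtype.val h).trans (map_one _).symm)))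
  obtain ⟨P, hP⟩ := (IsPGroup.of_card (p := 3) (n := 1)
    (by rw [Nat.card_zpowers, hord, pow_one]) : IsPGroup 3 (zpowers c')).exists_le_sylow
  suffices h : Nat.card P = 3 by
    intro Q
    obtain ⟨g, hg⟩ := MulAction.exists_smul_eq C P Q
    exact ((congrArg (fun R : Sylow 3 C => Nat.card R) hg).symm.trans
      (card_map_of_injective (MulAut.conj g).injective)).trans h
  obtain ⟨k, hk⟩ := P.2.exists_card_eq
  have h3 : 3 ∣ Nat.card P := by
    have h := Subgroup.orderOf_dvd_natCard _ (hP (mem_zpowers c'))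
    rw [hord] at h
    exact h
  have hk2 : k < 3 := by
    by_contra hcon
    refine e.not_dvd ((dvd_trans ?_ (card_subgroup_dvd_card (P : Subgroup C))).trans
      (card_subgroup_dvd_card C))
    rw [hk]
    rw [show (27 : ℕ) = 3 ^ 3 by norm_num]
    exact pow_dvd_pow 3 (by omega)
  have hk0 : k ≠ 0 := by
    rintro rfl
    rw [hk] at h3
    norm_num at h3
  obtain rfl | rfl : k = 1 ∨ k = 2 := by omega
  · exact hk.trans (pow_one 3)
  exfalso
  have hcomm := IsPGroup.commutative_of_card_eq_prime_sq hk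
  have hle : (P : Subgroup C).map C.subtype ≤ e.φ.range := by
    rintro _ ⟨g, hg, rfl⟩
    refine hc (mem_centralizer_singleton_iff.mpr ?_)
    exact congrArg (fun y : (P : Subgroup C) => ((y : C) : G))
      (hcomm ⟨g, hg⟩ ⟨c', hP (mem_zpowers c')⟩)
  have hcard : Nat.card (((P : Subgroup C).map C.subtype).comap e.φ) = 3 ^ 2 := by
    rw [← card_map_of_injective e.inj, map_comap_eq, inf_eq_right.mpr hle,
      card_map_of_injective C.subtype_injective, hk]
  refine h9 ((show (9 : ℕ) = 3 ^ 2 by norm_num).trans hcard.symm |>.dvd.trans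
    (card_dvd_of_le fun g hg => ?_))
  exact mem_centralizer_singleton_iff.mpr (e.inj (by
    rw [map_mul, map_mul]
    exact mem_centralizer_singleton_iff.mp (map_subtype_le (P : Subgroup C) hg)))

/-- The data for the three classes of involutions moving at least four points. -/
theorem big_data : ∀ x, x = pt ∨ x = pr3 ∨ x = pn → ∃ c : Perm (Fin 8),
    centralizer ({e.φ c} : Set G) ≤ e.φ.range ∧ c ^ 3 = 1 ∧ c ≠ 1 ∧ x * c = c * x ∧
      ¬ 9 ∣ Nat.card (centralizer ({x} : Set (Perm (Fin 8)))) := by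
  obtain ⟨h3, h31, h36, h3y, hny, hnn, hn1, hn8, htz, -, -, -, hz3, -, hy3, hz1, hy1, -, -, -,
    htt, ht1, ht4⟩ := pr3_facts
  rintro x (rfl | rfl | rfl)
  · exact ⟨pz, e.cent_z_le, hz3, hz1, htz,
      not_nine_dvd (k := 2) (Or.inl rfl) (cycleType_of_support htt ht1 ht4)⟩
  · exact ⟨pz * pw, e.cent_y_le, hy3, hy1, h3y,
      not_nine_dvd (k := 3) (Or.inr (Or.inl rfl)) (cycleType_of_support h3 h31 h36)⟩
  · exact ⟨pz * pw, e.cent_y_le, hy3, hy1, hny,
      not_nine_dvd (k := 4) (Or.inr (Or.inr rfl)) (cycleType_of_support hnn hn1 hn8)⟩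

/-- The transposition class is separate from the other classes of involutions. -/
theorem not_isConj_r {x : Perm (Fin 8)} (hx : x = pt ∨ x = pr3 ∨ x = pn) :
    ¬ IsConj (e.φ pr) (e.φ x) := by
  obtain ⟨-, -, -, -, -, -, -, -, -, hrz, hrz', hzz', hz3, hz'3, -, hz1, -, hz'1, hne, hne',
    -⟩ := pr3_facts
  obtain ⟨c, hc, hc3, hc1, hxc, h9⟩ := e.big_data x hx
  haveI : Fact (Nat.Prime 3) := ⟨Nat.prime_three⟩
  intro hcon
  obtain ⟨g, hg⟩ := isConj_iff.mp hcon
  set C := centralizer ({e.φ x} : Set G) with hC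
  have himg : ∀ d, pr * d = d * pr → g * e.φ d * g⁻¹ ∈ C := fun d hd =>
    mem_centralizer_singleton_iff.mpr (by rw [← hg, conj_mul, conj_mul, ← map_mul, ← map_mul, hd])
  set a : C := ⟨_, himg pz hrz⟩ with ha
  set b : C := ⟨_, himg pz' hrz'⟩ with hb
  have hcube : ∀ d, d ^ 3 = 1 → (g * e.φ d * g⁻¹) ^ 3 = 1 := fun d hd => by
    rw [conj_pow, ← map_pow, hd, map_one, mul_one, mul_inv_cancel]
  have ha3 : a ^ 3 = 1 := Subtype.ext (hcube pz hz3)
  have hb3 : b ^ 3 = 1 := Subtype.ext (hcube pz' hz'3)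
  have ha1 : a ≠ 1 := fun h => hz1 (e.inj ((conj_eq_one_iff.mp (congrArg Subtype.val h)).trans
    (map_one _).symm))
  have hp : ∀ d : C, d ^ 3 = 1 → IsPGroup 3 (zpowers d) := fun d hd w => ⟨1, by
    obtain ⟨k, hk⟩ := mem_zpowers_iff.mp w.2
    refine Subtype.ext ?_
    rw [SubmonoidClass.coe_pow, ← hk, pow_one, ← zpow_natCast, ← zpow_mul, mul_comm, zpow_mul,
      zpow_natCast, hd, one_zpow]
    rfl⟩
  have hab : b * a * b⁻¹ = a := Subtype.ext (by
    show g * e.φ pz' * g⁻¹ * (g * e.φ pz * g⁻¹) * (g * e.φ pz' * g⁻¹)⁻¹ = g * e.φ pz * g⁻¹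
    rw [conj_mul, ← map_mul, ← hzz', map_mul]
    group)
  obtain ⟨Q, hQ⟩ := ((hp a ha3).to_sup_of_normal_left' (hp b hb3) (zpowers_le.mpr
    (CfsgLib.AltEightThree.CentT.mem_normalizer_zpowers (Or.inl hab)))).exists_le_sylow
  have hQ3 := e.sylow_three_card hc hc3 hc1 hxc h9 Q
  have heq : zpowers a = (Q : Subgroup C) :=
    eq_of_le_of_card_ge (le_sup_left.trans hQ) (by
      rw [Nat.card_zpowers, orderOf_eq_prime ha3 ha1]; exact hQ3.le)
  have hba : b ∈ zpowers a := heq ▸ hQ (mem_sup_right (mem_zpowers b))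
  have key : ∀ d₁ d₂, g * e.φ d₁ * g⁻¹ = g * e.φ d₂ * g⁻¹ → d₁ = d₂ := fun d₁ d₂ h =>
    e.inj (mul_left_cancel (mul_right_cancel h))
  rcases CfsgLib.AltEightThree.CentT.eq_of_mem_zpowers ha3 hba with h | h | h
  · exact hz'1 (key _ _ ((congrArg Subtype.val h).trans
      (show (1 : G) = g * e.φ 1 * g⁻¹ by simp)))
  · exact hne (key _ _ (congrArg Subtype.val h))
  · refine hne' (key _ _ ((congrArg Subtype.val h).trans ?_))
    show (g * e.φ pz * g⁻¹)⁻¹ = g * e.φ pz⁻¹ * g⁻¹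
    rw [map_inv]; group

/-- The double transpositions are separate from the larger involutions. -/
theorem not_isConj_t {x : Perm (Fin 8)} (hx : x = pr3 ∨ x = pn) :
    ¬ IsConj (e.φ pt) (e.φ x) := by
  obtain ⟨-, -, -, h3y, hny, -, -, -, htz, -, -, -, hz3, -, hy3, hz1, hy1, -⟩ := pr3_facts
  haveI : Fact (Nat.Prime 3) := ⟨Nat.prime_three⟩
  obtain ⟨-, -, -, -, -, h9⟩ := e.big_data x (Or.inr hx)
  have hxy : x * (pz * pw) = pz * pw * x := by rcases hx with rfl | rfl; exacts [h3y, hny]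
  intro hcon
  obtain ⟨g, hg⟩ := isConj_iff.mp hcon
  set C := centralizer ({e.φ x} : Set G) with hC
  let a : C := ⟨g * e.φ pz * g⁻¹, mem_centralizer_singleton_iff.mpr (by
    rw [← hg, conj_mul, conj_mul, ← map_mul, ← map_mul, htz])⟩
  let y : C := ⟨e.φ (pz * pw), mem_centralizer_singleton_iff.mpr (by
    rw [← map_mul, ← map_mul, hxy])⟩
  have ha3 : a ^ 3 = 1 := Subtype.ext (by
    show (g * e.φ pz * g⁻¹) ^ 3 = 1
    rw [conj_pow, ← map_pow, hz3, map_one, mul_one, mul_inv_cancel])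
  have ha1 : a ≠ 1 := fun h => hz1 (e.inj ((conj_eq_one_iff.mp (congrArg Subtype.val h)).trans
    (map_one _).symm))
  have hy3' : y ^ 3 = 1 := Subtype.ext (by
    show e.φ (pz * pw) ^ 3 = 1
    rw [← map_pow, hy3, map_one])
  have hy1' : y ≠ 1 := fun h => hy1 (e.inj ((congrArg Subtype.val h).trans (map_one _).symm))
  obtain ⟨P, hP⟩ := (IsPGroup.of_card (p := 3) (n := 1)
    (by rw [Nat.card_zpowers, orderOf_eq_prime ha3 ha1, pow_one]) :
      IsPGroup 3 (zpowers a)).exists_le_sylow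
  obtain ⟨Q, hQ⟩ := (IsPGroup.of_card (p := 3) (n := 1)
    (by rw [Nat.card_zpowers, orderOf_eq_prime hy3' hy1', pow_one]) :
      IsPGroup 3 (zpowers y)).exists_le_sylow
  have hQeq : (Q : Subgroup C) = zpowers y :=
    (eq_of_le_of_card_ge hQ (by
      rw [Nat.card_zpowers, orderOf_eq_prime hy3' hy1']
      exact (e.sylow_three_card e.cent_y_le hy3 hy1 hxy h9 Q).le)).symm
  obtain ⟨k, hk⟩ := MulAction.exists_smul_eq C P Q
  have hmem : k * a * k⁻¹ ∈ (Q : Subgroup C) := by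
    rw [← hk, Sylow.coe_subgroup_smul]
    exact ⟨a, hP (mem_zpowers a), rfl⟩
  rw [hQeq] at hmem
  set h' := (k : G) * g with hh'
  have hval : ((k * a * k⁻¹ : C) : G) = h' * e.φ pz * h'⁻¹ := by
    show (k : G) * (g * e.φ pz * g⁻¹) * (k : G)⁻¹ = h' * e.φ pz * h'⁻¹
    rw [hh']; group
  have hconj : h' * e.φ pz * h'⁻¹ = e.φ (pz * pw) ∨ h' * e.φ pz * h'⁻¹ = (e.φ (pz * pw))⁻¹ := by
    rcases CfsgLib.AltEightThree.CentT.eq_of_mem_zpowers hy3' hmem with h | h | h
    · exact absurd (conj_eq_one_iff.mp h) ha1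
    · exact Or.inl (hval.symm.trans (congrArg Subtype.val h))
    · exact Or.inr (hval.symm.trans (congrArg Subtype.val h))
  have hle : (centralizer ({e.φ pz} : Set G)).map (MulAut.conj h').toMonoidHom ≤
      centralizer ({e.φ (pz * pw)} : Set G) := by
    rintro _ ⟨d, hd, rfl⟩
    refine mem_centralizer_singleton_iff.mpr ?_
    have hd' : Commute (h' * d * h'⁻¹) (h' * e.φ pz * h'⁻¹) :=
      Commute.map (show Commute d (e.φ pz) from mem_centralizer_singleton_iff.mp hd)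
        (MulAut.conj h')
    rcases hconj with he | he <;> rw [he] at hd'
    · exact hd'.eq
    · exact (inv_inv (e.φ (pz * pw)) ▸ hd'.inv_right : Commute _ _).eq
  have := card_le_of_le hle
  rw [card_map_of_injective (MulAut.conj h').injective, e.card_cent e.cent_z_le,
    e.card_cent e.cent_y_le] at this
  exact absurd this (not_le.mpr card_centralizer_lt)

theorem isConj_map {a b : Perm (Fin 8)} (h : ∃ c, c * a * c⁻¹ = b) : IsConj (e.φ a) (e.φ b) := by
  obtain ⟨c, rfl⟩ := h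
  exact isConj_iff.mpr ⟨e.φ c, by rw [← map_inv, ← map_mul, ← map_mul]⟩

theorem exists_conj_of_support {a b : Perm (Fin 8)} {k : ℕ} (ha : a * a = 1) (ha1 : a ≠ 1)
    (hak : a.support.card = 2 * k) (hb : b * b = 1) (hb1 : b ≠ 1) (hbk : b.support.card = 2 * k) :
    ∃ c, c * a * c⁻¹ = b :=
  isConj_iff.mp (Perm.isConj_iff_cycleType_eq.2
    ((cycleType_of_support ha ha1 hak).trans (cycleType_of_support hb hb1 hbk).symm))

theorem support_two {x : Perm (Fin 8)} (hxx : x * x = 1) (hx1 : x ≠ 1)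
    (h : IsConj (e.φ pr) (e.φ x)) : x.support.card = 2 := by
  rcases invol_types hxx hx1 with h2 | ⟨c, ⟨hc, -⟩ | ⟨hc, -⟩ | ⟨hc, -⟩⟩
  · exact h2
  all_goals exfalso
  · exact e.not_isConj_r (Or.inl rfl) (h.trans (e.isConj_map ⟨c, hc⟩).symm)
  · exact e.not_isConj_r (Or.inr (Or.inl rfl)) (h.trans (e.isConj_map ⟨c, hc⟩).symm)
  · exact e.not_isConj_r (Or.inr (Or.inr rfl)) (h.trans (e.isConj_map ⟨c, hc⟩).symm)

theorem support_four {x : Perm (Fin 8)} (hxx : x * x = 1) (hx1 : x ≠ 1)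
    (h : IsConj (e.φ ps) (e.φ x)) : x.support.card = 4 := by
  obtain ⟨-, -, -, -, -, -, -, -, -, -, -, -, -, -, -, -, -, -, -, -, htt, ht1, ht4⟩ := pr3_facts
  obtain ⟨hsw, -, -, -, -, hss, hs1, hs4, -⟩ := sw_facts
  have ht : IsConj (e.φ pt) (e.φ x) :=
    (e.isConj_map (exists_conj_of_support (k := 2) htt ht1 ht4 hss hs1 hs4)).trans h
  rcases invol_types hxx hx1 with h2 | ⟨c, ⟨-, h4⟩ | ⟨hc, -⟩ | ⟨hc, -⟩⟩
  · exfalso
    obtain ⟨h22, h21, h2c, -⟩ := hsw 2
    exact e.not_isConj_r (Or.inl rfl)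
      ((e.isConj_map (exists_conj_of_support (k := 1) (a := sw 2) h22 h21 h2c hxx hx1 h2)).trans
        ht.symm)
  · exact h4
  · exact absurd (ht.trans (e.isConj_map ⟨c, hc⟩).symm) (e.not_isConj_t (Or.inl rfl))
  · exact absurd (ht.trans (e.isConj_map ⟨c, hc⟩).symm) (e.not_isConj_t (Or.inr rfl))

omit [Finite G] in
theorem image_mul {g : G} {a b a' b' : Perm (Fin 8)} (ha : g * e.φ a * g⁻¹ = e.φ a')
    (hb : g * e.φ b * g⁻¹ = e.φ b') : g * e.φ (a * b) * g⁻¹ = e.φ (a' * b') := by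
  rw [map_mul, map_mul, ← ha, ← hb, conj_mul]

/-- An element mapping the transpositions of the second block to themselves, and `T0` into
itself, lies in the image. -/
theorem mem_range_of_fix {g : G} (hg : ∀ x ∈ T0, ∃ x' ∈ T0, g * e.φ x * g⁻¹ = e.φ x')
    {σ : Fin 4 → Fin 4} (hσ : ∀ i, g * e.φ (sw i) * g⁻¹ = e.φ (sw (σ i)))
    (h23 : σ 2 = 2 ∧ σ 3 = 3 ∨ σ 2 = 3 ∧ σ 3 = 2)
    (h01 : σ 0 = 0 ∧ σ 1 = 1 ∨ σ 0 = 1 ∧ σ 1 = 0) : g ∈ e.φ.range := by
  obtain ⟨-, hs0, hs1, hs2, hs3, hss, hsne, -, hrt, hrs⟩ := sw_facts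
  obtain ⟨hb23, -, -, hb32⟩ := Index.basic
  obtain ⟨x, hx, hgx⟩ := hg ps ps_mem
  have key : ∀ i j, ps * sw i * ps⁻¹ = sw j → x * sw (σ i) = sw (σ j) * x := fun i j h => by
    refine e.inj ?_
    rw [← e.image_mul hgx (hσ i), ← e.image_mul (hσ j) hgx, mul_inv_eq_iff_eq_mul.mp h]
  have hsw : Swaps x 2 3 0 1 := by
    have k2 := key 2 3 hs2
    have k3 := key 3 2 hs3
    have k0 := key 0 0 hs0
    have k1 := key 1 1 hs1
    rcases h23 with ⟨a, b⟩ | ⟨a, b⟩ <;> rcases h01 with ⟨c, d⟩ | ⟨c, d⟩ <;>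
      rw [a, b] at k2 k3 <;> rw [c] at k0 <;> rw [d] at k1 <;>
      first
      | exact ⟨k2, k3, k0, k1⟩
      | exact ⟨k2, k3, k1, k0⟩
      | exact ⟨k3, k2, k0, k1⟩
      | exact ⟨k3, k2, k1, k0⟩
  have hxx : x * x = 1 := e.inj (by
    rw [← e.image_mul hgx hgx, hss, map_one, mul_one, mul_inv_cancel])
  have hx1 : x ≠ 1 := fun h => hsne (e.inj (by
    rw [h, map_one] at hgx
    rw [map_one]; exact conj_eq_one_iff.mp hgx))
  have h4 := e.support_four hxx hx1 (isConj_iff.mpr ⟨g, hgx⟩)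
  have ht : g * e.φ pt * g⁻¹ = e.φ pt := by
    have h' := e.image_mul (hσ 2) (hσ 3)
    rw [hb23] at h'
    rcases h23 with ⟨a, b⟩ | ⟨a, b⟩ <;> rw [a, b] at h'
    · rwa [hb23] at h'
    · rwa [hb32] at h'
  have four : ∀ h : G, h * e.φ pt * h⁻¹ = e.φ pt → h * e.φ ps * h⁻¹ = e.φ ps →
      h ∈ e.φ.range := fun h h1 h2 => e.le_four (mem_centralizer_iff.mpr fun y hy => by
    rcases hy with rfl | rfl
    exacts [(mul_inv_eq_iff_eq_mul.mp h1).symm, (mul_inv_eq_iff_eq_mul.mp h2).symm])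
  rcases eq_s_of_swaps hx hsw hxx h4 with rfl | rfl
  · exact four g ht hgx
  · have hr := four (e.φ pr * g)
      (by
        calc e.φ pr * g * e.φ pt * (e.φ pr * g)⁻¹
            = e.φ pr * (g * e.φ pt * g⁻¹) * (e.φ pr)⁻¹ := by group
          _ = e.φ pt := by rw [ht, ← map_inv, ← map_mul, ← map_mul, hrt])
      (by
        calc e.φ pr * g * e.φ ps * (e.φ pr * g)⁻¹
            = e.φ pr * (g * e.φ ps * g⁻¹) * (e.φ pr)⁻¹ := by group
          _ = e.φ ps := by rw [hgx, ← map_inv, ← map_mul, ← map_mul, hrs])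
    have := mul_mem (inv_mem (MonoidHom.mem_range.mpr ⟨pr, rfl⟩)) hr
    rwa [inv_mul_cancel_left] at this

theorem fin_pairs : ∀ a b c d : Fin 4, [a, b, c, d].Nodup → a.val / 2 = b.val / 2 →
    c.val / 2 = d.val / 2 →
    ((sw a * sw b = pt ∧ sw c * sw d = pu) ∨ (sw a * sw b = pu ∧ sw c * sw d = pt)) ∧
      (((a = 2 ∧ b = 3 ∨ a = 3 ∧ b = 2) ∧ (c = 0 ∧ d = 1 ∨ c = 1 ∧ d = 0)) ∨
        ((a + 2 = 2 ∧ b + 2 = 3 ∨ a + 2 = 3 ∧ b + 2 = 2) ∧
          (c + 2 = 0 ∧ d + 2 = 1 ∨ c + 2 = 1 ∧ d + 2 = 0))) := by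
  decide +kernel

/-- The image of `T0` is self-normalising. -/
theorem normalising_T0 {g : G} (hg : ∀ x ∈ T0, ∃ x' ∈ T0, g * e.φ x * g⁻¹ = e.φ x') :
    ∃ x ∈ T0, g = e.φ x := by
  obtain ⟨hsw, -, -, hs2, hs3, -⟩ := sw_facts
  obtain ⟨-, hs0, hs1, -⟩ := sw_facts
  obtain ⟨hb23, hb01, -, -⟩ := Index.basic
  have hex : ∀ i, ∃ j, g * e.φ (sw i) * g⁻¹ = e.φ (sw j) := by
    intro i
    obtain ⟨h2, h1, hc, -⟩ := hsw i
    obtain ⟨x, hx, hgx⟩ := hg _ (sw_mem i)
    have hxx : x * x = 1 := e.inj (by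
      rw [← e.image_mul hgx hgx, h2, map_one, mul_one, mul_inv_cancel])
    have hx1 : x ≠ 1 := fun h => h1 (e.inj (by
      rw [h, map_one] at hgx
      rw [map_one]; exact conj_eq_one_iff.mp hgx))
    obtain ⟨hr2, hr1, hrc, -⟩ := hsw 2
    have hconj : IsConj (e.φ pr) (e.φ x) :=
      (e.isConj_map (exists_conj_of_support (k := 1) (a := sw 2) hr2 hr1 hrc h2 h1 hc)).trans
        (isConj_iff.mpr ⟨g, hgx⟩)
    obtain ⟨j, rfl⟩ := eq_sw_of_mem hx (e.support_two hxx hx1 hconj)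
    exact ⟨j, hgx⟩
  choose σ hσ using hex
  have hinj : Function.Injective σ := fun i j h => by
    have := (hσ i).trans ((congrArg (fun k => e.φ (sw k)) h).trans (hσ j).symm)
    exact sw_injective (e.inj (mul_left_cancel (mul_right_cancel this)))
  have hd : [σ 2, σ 3, σ 0, σ 1].Nodup :=
    List.Nodup.map hinj (show ([2, 3, 0, 1] : List (Fin 4)).Nodup by decide)
  obtain ⟨xs, hxs, hgxs⟩ := hg ps ps_mem
  have key : ∀ i j, ps * sw i * ps⁻¹ = sw j → xs * sw (σ i) = sw (σ j) * xs := fun i j h => by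
    refine e.inj ?_
    rw [← e.image_mul hgxs (hσ i), ← e.image_mul (hσ j) hgxs, mul_inv_eq_iff_eq_mul.mp h]
  obtain ⟨hp, hp'⟩ := pairs_of_swaps hxs hd ⟨key 2 3 hs2, key 3 2 hs3, key 0 0 hs0, key 1 1 hs1⟩
  obtain ⟨hprod, hcases⟩ := fin_pairs _ _ _ _ hd hp hp'
  have hrange : g ∈ e.φ.range := by
    rcases hcases with ⟨h23, h01⟩ | ⟨h23, h01⟩
    · exact e.mem_range_of_fix hg hσ h23 h01
    · have hB : ∀ a : G, e.φ pB * g * a * (e.φ pB * g)⁻¹ =
          e.φ pB * (g * a * g⁻¹) * (e.φ pB)⁻¹ := fun a => by group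
      have hr := e.mem_range_of_fix (g := e.φ pB * g) (σ := fun i => σ i + 2)
        (fun x hx => by
          obtain ⟨x', hx', hgx⟩ := hg x hx
          exact ⟨pB * x' * pB⁻¹, mul_mem (mul_mem pB_mem hx') (inv_mem pB_mem), by
            rw [hB, hgx, map_mul, map_mul, map_inv]⟩)
        (fun i => by rw [hB, hσ, ← map_inv, ← map_mul, ← map_mul, pB_conj]) h23 h01
      have := mul_mem (inv_mem (MonoidHom.mem_range.mpr ⟨pB, rfl⟩)) hr
      rwa [inv_mul_cancel_left] at this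
  obtain ⟨x, rfl⟩ := MonoidHom.mem_range.mp hrange
  refine ⟨x, mem_T0.mpr ?_, rfl⟩
  have hxi : ∀ i, x * sw i * x⁻¹ = sw (σ i) := fun i => e.inj (by
    rw [map_mul, map_mul, map_inv]; exact hσ i)
  have ht : x * pt * x⁻¹ = sw (σ 2) * sw (σ 3) := by
    rw [← hb23, ← hxi 2, ← hxi 3, conj_mul]
  have hu : x * pu * x⁻¹ = sw (σ 0) * sw (σ 1) := by
    rw [← hb01, ← hxi 0, ← hxi 1, conj_mul]
  rw [ht, hu]
  exact hprod

theorem exists_sylow : ∃ P : Sylow 2 G, (P : Subgroup G) = T0.map e.φ := by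
  haveI : Fact (Nat.Prime 2) := ⟨Nat.prime_two⟩
  obtain ⟨P, hP⟩ := (T0_isPGroup.map e.φ).exists_le_sylow
  refine ⟨P, by_contra fun hne => ?_⟩
  obtain ⟨g, -, hgT, hgn⟩ :=
    CfsgLib.AltEightThree.CentT.exists_normalizing hP P.2 (Ne.symm hne)
  obtain ⟨x, hx, rfl⟩ := e.normalising_T0 (g := g) fun x hx => by
    obtain ⟨x', hx', he⟩ := hgn _ (mem_map_of_mem _ hx)
    exact ⟨x', hx', he.symm⟩
  exact hgT (mem_map_of_mem _ hx)

/-- The transfer: a normal subgroup of index two meeting the image in the alternating group. -/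
theorem exists_index_two : ∃ M : Subgroup G, M.index = 2 ∧ M.comap e.φ = A8 ∧ e.φ pr ∉ M := by
  haveI : Fact (Nat.Prime 2) := ⟨Nat.prime_two⟩
  obtain ⟨hsw, -⟩ := sw_facts
  obtain ⟨h2, -, -, hsgn⟩ := hsw 2
  obtain ⟨P, hP⟩ := e.exists_sylow
  have hrel : ((T0 ⊓ A8).map e.φ).relIndex (P : Subgroup G) = 2 := by
    rw [hP, relIndex_map_map_of_injective _ _ e.inj, inf_relIndex_left]
    show (A8.subgroupOf T0).index = 2
    have hker : A8.subgroupOf T0 = (Perm.sign.comp T0.subtype).ker := by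
      ext x
      rw [mem_subgroupOf, mem_A8, MonoidHom.mem_ker]
      rfl
    have hrange : (Perm.sign.comp T0.subtype).range = ⊤ := by
      refine eq_top_iff.2 fun v _ => ?_
      rcases Int.units_eq_one_or v with rfl | rfl
      · exact one_mem _
      · exact ⟨⟨sw 2, sw_mem 2⟩, hsgn⟩
    rw [hker, index_ker, hrange, card_top, Nat.card_eq_fintype_card, Fintype.card_units_int]
  have hu : e.φ pr ^ 2 = 1 := by
    rw [← map_pow, pow_two]
    exact (congrArg e.φ h2).trans (map_one _)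
  obtain ⟨M, hMn, hM2, hrM⟩ := ThompsonTransfer.exists_normal_index_two (P : Subgroup G)
    ((T0 ⊓ A8).map e.φ) (Nat.not_even_iff_odd.mp fun hev => P.not_dvd_index hev.two_dvd) hrel
    (e.φ pr) hu (by
      rintro g ⟨x, hx, hgx⟩
      have hxx : x * x = 1 := e.inj (by
        rw [map_mul, hgx, conj_mul, ← pow_two, hu, mul_one, mul_inv_cancel, map_one])
      have hx1 : x ≠ 1 := fun h => by
        rw [h, map_one] at hgx
        exact (hsw 2).2.1 (e.inj ((conj_eq_one_iff.mp hgx.symm).trans (map_one _).symm))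
      have hx2 := e.support_two hxx hx1 (isConj_iff.mpr ⟨g, hgx.symm⟩)
      have hswap : x.IsSwap := Perm.card_support_eq_two.mp hx2
      have hsx : Perm.sign x = -1 := by
        obtain ⟨a, b, hab, rfl⟩ := hswap
        exact Perm.sign_swap hab
      rw [mem_A8.mp hx.2] at hsx
      exact absurd hsx (by decide))
  refine ⟨M, hM2, ?_, hrM⟩
  have hdvd : (M.comap e.φ).index ∣ 2 := by
    rw [index_comap]
    exact hM2 ▸ relIndex_dvd_index_of_normal M _
  rcases (Nat.dvd_prime Nat.prime_two).mp hdvd with h | h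
  · rw [index_eq_one] at h
    exact absurd (show pr ∈ M.comap e.φ from h ▸ mem_top _) hrM
  · exact Perm.eq_alternatingGroup_of_index_eq_two h

/-- The embedded alternating group inside the subgroup of index two. -/
theorem exists_emb {M : Subgroup G} (hM : M.comap e.φ = A8) :
    ∃ e₁ : CfsgLib.AltEightThree.Emb M, ∀ x : A8, ((e₁.φ x : M) : G) = e.φ x := by
  let φ₁ : A8 →* M := (e.φ.comp A8.subtype).codRestrict M fun x => by
    show (x : Perm (Fin 8)) ∈ M.comap e.φ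
    rw [hM]; exact x.2
  have hin : ∀ g : M, (g : G) ∈ e.φ.range → g ∈ φ₁.range := by
    rintro ⟨g, hg⟩ ⟨x, rfl⟩
    exact ⟨⟨x, hM ▸ (show x ∈ M.comap e.φ from hg)⟩, rfl⟩
  refine ⟨{ φ := φ₁
            inj := fun a b h => Subtype.ext (e.inj (congrArg Subtype.val h))
            not_dvd := fun h => e.not_dvd (h.trans (card_subgroup_dvd_card M))
            le_z := fun g hg => hin g (e.le_z ?_)
            le_y := fun g hg => hin g (e.le_y ?_)
            le_four := fun g hg => hin g (e.le_four ?_) }, fun x => rfl⟩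
  · have hz3 : (e.φ pz) ^ 3 = 1 := by
      rw [← map_pow, pr3_facts.2.2.2.2.2.2.2.2.2.2.2.2.1, map_one]
    refine CfsgLib.AltEightThree.CentT.mem_normalizer_zpowers ?_
    have h := (mem_normalizer_iff.mp hg (φ₁ CfsgLib.AltEightThree.z)).mp (mem_zpowers _)
    have h' : ((g * φ₁ CfsgLib.AltEightThree.z * g⁻¹ : M) : G) ∈ zpowers (e.φ pz) := by
      obtain ⟨k, hk⟩ := mem_zpowers_iff.mp h
      rw [← hk, SubgroupClass.coe_zpow]
      exact zpow_mem (mem_zpowers _) k
    rcases CfsgLib.AltEightThree.CentT.eq_of_mem_zpowers hz3 h' with he | he | he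
    · exact absurd (e.inj ((conj_eq_one_iff.mp he).trans (map_one _).symm))
        pr3_facts.2.2.2.2.2.2.2.2.2.2.2.2.2.2.2.1
    · exact Or.inl he
    · exact Or.inr he
  · exact mem_centralizer_singleton_iff.mpr
      (congrArg Subtype.val (mem_centralizer_singleton_iff.mp hg))
  · refine mem_centralizer_iff.mpr fun y hy => ?_
    rcases hy with rfl | rfl
    · exact congrArg Subtype.val
        (mem_centralizer_iff.mp hg (φ₁ CfsgLib.AltEightThree.t) (Or.inl rfl))
    · exact congrArg Subtype.val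
        (mem_centralizer_iff.mp hg (φ₁ CfsgLib.AltEightThree.s) (Or.inr rfl))

/-- Surjectivity, given the characterisation of the alternating group on eight points. -/
theorem surjective_of_alt
    (halt : ∀ (H : Subgroup G) (e₁ : CfsgLib.AltEightThree.Emb H), Function.Surjective e₁.φ) :
    Function.Surjective e.φ := by
  obtain ⟨M, hM2, hMA, hrM⟩ := e.exists_index_two
  obtain ⟨e₁, he₁⟩ := e.exists_emb hMA
  intro g
  by_cases hg : g ∈ M
  · obtain ⟨x, hx⟩ := halt M e₁ ⟨g, hg⟩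
    exact ⟨x, by rw [← he₁, hx]⟩
  · have hgm : e.φ pr * g ∈ M :=
      (mul_mem_iff_of_index_two hM2).mpr ⟨fun h => absurd h hrM, fun h => absurd h hg⟩
    obtain ⟨x, hx⟩ := halt M e₁ ⟨_, hgm⟩
    refine ⟨pr⁻¹ * x, ?_⟩
    rw [map_mul, ← he₁, hx, map_inv]
    exact inv_mul_cancel_left _ _

end EmbEight

end CfsgLib.SymEightThree
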