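import Cfsg.Agent.Lib.SymEightThree.Base
import Mathlib.GroupTheory.SpecificGroups.Dihedral
import Mathlib.Algebra.Group.TypeTags.Finite
import Mathlib.GroupTheory.Index

/-!
The local hypotheses of the three-local characterisation of the symmetric group on eight points
give the `Base` data.
-/

set_option autoImplicit false

namespace CfsgLib.SymEightThree

open Equiv

namespace Local

theorem s3_center : ∀ a s : Perm (Fin 3), s ^ 3 = 1 → s ≠ 1 → a * s = s * a →
    a = 1 ∨ a = s ∨ a = s⁻¹ := by decide +kernel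

theorem s3_conj : ∀ a s : Perm (Fin 3), s ^ 3 = 1 → s ≠ 1 →
    a * s * a⁻¹ = s ∨ a * s * a⁻¹ = s⁻¹ := by decide +kernel

theorem s3_gen : ∀ a s : Perm (Fin 3), s ^ 3 = 1 → s ≠ 1 → ∃ i : Fin 3, ∃ j : Fin 2,
    a = s ^ (i : ℕ) * swap 0 1 ^ (j : ℕ) := by decide +kernel

theorem s3_inv : ∀ s : Perm (Fin 3), s ^ 3 = 1 → swap 0 1 * s * (swap 0 1)⁻¹ = s⁻¹ := by
  decide +kernel

theorem s5_normal : ∀ t : Perm (Fin 5), t ^ 3 = 1 →
    (swap 0 1 * t * (swap 0 1)⁻¹ = t ∨ swap 0 1 * t * (swap 0 1)⁻¹ = t⁻¹) →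
    (swap 1 2 * t * (swap 1 2)⁻¹ = t ∨ swap 1 2 * t * (swap 1 2)⁻¹ = t⁻¹) →
    (swap 2 3 * t * (swap 2 3)⁻¹ = t ∨ swap 2 3 * t * (swap 2 3)⁻¹ = t⁻¹) →
    (swap 3 4 * t * (swap 3 4)⁻¹ = t ∨ swap 3 4 * t * (swap 3 4)⁻¹ = t⁻¹) → t = 1 := by
  decide +kernel

theorem s5_three : ∀ b : Perm (Fin 5), b ^ 3 = 1 → b ≠ 1 →
    ∃ h : Perm (Fin 5), h * c5 * h⁻¹ = b := by decide +kernel

theorem s5_centralizer : ∀ b : Perm (Fin 5), b ^ 2 = 1 → b * c5 = c5 * b → b ≠ 1 → b = r5 := by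
  decide +kernel

theorem s5_sigma : ∀ t : Perm (Fin 5), t ^ 2 = 1 → t * c5 * t⁻¹ = c5⁻¹ → t * r5 = r5 * t →
    ∃ k : Fin 3, c5 ^ (k : ℕ) * t * (c5 ^ (k : ℕ))⁻¹ = a5 ∨
      c5 ^ (k : ℕ) * t * (c5 ^ (k : ℕ))⁻¹ = b5 := by decide +kernel

theorem s5_norm_card :
    Nat.card {b : Perm (Fin 5) // b * c5 * b⁻¹ = c5 ∨ b * c5 * b⁻¹ = c5⁻¹} = 12 := by
  rw [Nat.card_eq_fintype_card]; decide +kernel

theorem c5_pow : c5 ^ 3 = 1 ∧ c5 ≠ 1 ∧ r5 * c5 = c5 * r5 ∧ r5 ^ 2 = 1 ∧ r5 ≠ 1 ∧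
    a5 * c5⁻¹ * a5⁻¹ = c5 := by decide +kernel

theorem zpowers_three {G : Type*} [Group G] {c x : G} (hc : c ^ 3 = 1)
    (hx : x ∈ Subgroup.zpowers c) : x = 1 ∨ x = c ∨ x = c⁻¹ := by
  obtain ⟨k, rfl⟩ := hx
  have h3 : c ^ (3 : ℤ) = 1 := by exact_mod_cast hc
  have h : ∀ r q : ℤ, c ^ (r + 3 * q) = c ^ r := fun r q => by
    rw [zpow_add, zpow_mul, h3, one_zpow, mul_one]
  have hk : c ^ k = c ^ (k % 3) := by
    conv_lhs => rw [show k = k % 3 + 3 * (k / 3) from (Int.emod_add_mul_ediv k 3).symm]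
    exact h _ _
  simp only [hk]
  rcases (show k % 3 = 0 ∨ k % 3 = 1 ∨ k % 3 = 2 from by omega) with e | e | e <;> rw [e]
  · left; simp
  · right; left; simp
  · right; right
    apply eq_inv_of_mul_eq_one_left
    rw [← zpow_add_one]; exact h3

theorem order_three {G : Type*} [Group G] {c : G} (hc : c ^ 3 = 1) (hne : c ≠ 1) :
    Nat.card (Subgroup.zpowers c) = 3 := by
  haveI : Fact (Nat.Prime 3) := ⟨Nat.prime_three⟩
  rw [Nat.card_zpowers, orderOf_eq_prime hc hne]

theorem mem_normalizer_of_conj {G : Type*} [Group G] [Finite G] {K : Subgroup G} {g : G}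
    (h : ∀ k ∈ K, g * k * g⁻¹ ∈ K) : g ∈ Subgroup.normalizer (K : Set G) := by
  have hle : K.map (MulAut.conj g).toMonoidHom ≤ K := by
    rintro _ ⟨k, hk, rfl⟩; simpa using h k hk
  have heq : K.map (MulAut.conj g).toMonoidHom = K :=
    Subgroup.eq_of_le_of_card_ge hle
      (le_of_eq (Subgroup.card_map_of_injective (MulAut.conj g).injective).symm)
  rw [Subgroup.mem_normalizer_iff]
  intro k
  refine ⟨fun hk => h k hk, fun hk => ?_⟩
  have hk' : g * k * g⁻¹ ∈ K.map (MulAut.conj g).toMonoidHom := by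
    rw [heq]; exact hk
  obtain ⟨k', hk', he⟩ := hk'
  have : k' = k := by simpa using he
  rw [← this]; exact hk'

theorem mem_normalizer_zpowers {G : Type*} [Group G] [Finite G] {z g : G}
    (h : g * z * g⁻¹ ∈ Subgroup.zpowers z) :
    g ∈ Subgroup.normalizer (Subgroup.zpowers z : Set G) :=
  mem_normalizer_of_conj fun k hk => by
    obtain ⟨i, rfl⟩ := hk
    show g * z ^ i * g⁻¹ ∈ _
    rw [← conj_zpow]
    exact zpow_mem h i

theorem card_centralizer_conj {G : Type*} [Group G] (h y : G) :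
    Nat.card (Subgroup.centralizer ({h * y * h⁻¹} : Set G)) =
      Nat.card (Subgroup.centralizer ({y} : Set G)) := by
  have he : Subgroup.centralizer ({h * y * h⁻¹} : Set G) =
      (Subgroup.centralizer ({y} : Set G)).map (MulAut.conj h).toMonoidHom := by
    ext x
    simp only [Subgroup.mem_centralizer_singleton_iff, Subgroup.mem_map]
    constructor
    · intro hx
      refine ⟨h⁻¹ * x * h, ?_, by simp [mul_assoc]⟩
      have e : h⁻¹ * (x * (h * y * h⁻¹)) * h = h⁻¹ * ((h * y * h⁻¹) * x) * h := by rw [hx]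
      simpa [mul_assoc] using e
    · rintro ⟨x', hx', rfl⟩
      simp only [MulEquiv.coe_toMonoidHom, MulAut.conj_apply]
      have e : h * (x' * y) * h⁻¹ = h * (y * x') * h⁻¹ := by rw [hx']
      simpa [mul_assoc] using e
  rw [he, Subgroup.card_map_of_injective (MulAut.conj h).injective]

variable {G : Type*} [Group G] [Finite G]

/-- The hypotheses, transported to an embedding of the normaliser of `⟨z⟩`. -/
structure Loc (G : Type*) [Group G] where
  E : Perm (Fin 3) × Perm (Fin 5) →* G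
  inj : Function.Injective E
  z : G
  s : Perm (Fin 3)
  s_pow : s ^ 3 = 1
  s_ne : s ≠ 1
  z_eq : E (s, 1) = z
  range_eq : E.range = Subgroup.normalizer (Subgroup.zpowers z : Set G)

namespace Loc

variable (l : Loc G)

/-- The component isomorphic to the symmetric group on five points. -/
def φ₀ : Perm (Fin 5) →* G := l.E.comp (MonoidHom.inr _ _)

theorem φ₀_apply (x : Perm (Fin 5)) : l.φ₀ x = l.E (1, x) := rfl

theorem z_pow : l.z ^ 3 = 1 := by
  rw [← l.z_eq, ← map_pow]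
  convert map_one l.E
  simp [Prod.ext_iff, l.s_pow]

omit [Finite G] in
theorem z_ne : l.z ≠ 1 := fun h => l.s_ne <| by
  have := l.inj (a₁ := (l.s, 1)) (a₂ := 1) (by rw [map_one, l.z_eq, h])
  exact (Prod.ext_iff.mp this).1

theorem of_norm {k : G} (h : k * l.z * k⁻¹ ∈ Subgroup.zpowers l.z) :
    ∃ p, l.E p = k := by
  have := mem_normalizer_zpowers h
  rw [← l.range_eq] at this
  exact this

theorem z_comm_φ₀ (x : Perm (Fin 5)) : Commute l.z (l.φ₀ x) := by
  rw [← l.z_eq, φ₀_apply]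
  exact Commute.map (by simp [Commute, SemiconjBy]) l.E

/-- The centraliser of `z`. -/
theorem mem_cent {k : G} (h : k * l.z = l.z * k) :
    ∃ a x, (a = 1 ∨ a = l.z ∨ a = l.z⁻¹) ∧ k = a * l.φ₀ x := by
  obtain ⟨⟨a, x⟩, rfl⟩ := l.of_norm (k := k) (by
    rw [h, mul_inv_cancel_right]; exact Subgroup.mem_zpowers _)
  rw [← l.z_eq, ← map_mul, ← map_mul] at h
  have ha : a * l.s = l.s * a := (Prod.ext_iff.mp (l.inj h)).1
  refine ⟨l.E (a, 1), x, ?_, by rw [φ₀_apply, ← map_mul]; simp⟩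
  rcases s3_center a l.s l.s_pow l.s_ne ha with rfl | rfl | rfl
  · left; exact map_one _
  · right; left; exact l.z_eq
  · right; right
    rw [← l.z_eq, ← map_inv]; simp

/-- An involution of the centraliser of `z` lies in the component. -/
theorem inv_cent {k : G} (h : k * l.z = l.z * k) (h2 : k ^ 2 = 1) :
    ∃ x, k = l.φ₀ x := by
  obtain ⟨a, x, ha, rfl⟩ := l.mem_cent h
  refine ⟨x, ?_⟩
  have hc : Commute a (l.φ₀ x) := by
    rcases ha with rfl | rfl | rfl
    exacts [Commute.one_left _, l.z_comm_φ₀ x, (l.z_comm_φ₀ x).inv_left]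
  rw [hc.mul_pow] at h2
  have ha3 : a ^ 3 = 1 := by
    rcases ha with rfl | rfl | rfl
    exacts [one_pow _, l.z_pow, by rw [inv_pow, l.z_pow, inv_one]]
  obtain ⟨q, hq3, rfl⟩ : ∃ q : Perm (Fin 3), q ^ 3 = 1 ∧ l.E (q, 1) = a := by
    rcases ha with rfl | rfl | rfl
    · exact ⟨1, one_pow _, map_one _⟩
    · exact ⟨l.s, l.s_pow, l.z_eq⟩
    · refine ⟨l.s⁻¹, by rw [inv_pow, l.s_pow, inv_one], ?_⟩
      rw [← l.z_eq, ← map_inv]; simp
  rw [φ₀_apply, ← map_pow, ← map_pow, ← map_mul, ← map_one l.E] at h2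
  have hq2 : q ^ 2 = 1 := by simpa using (Prod.ext_iff.mp (l.inj h2)).1
  have hq : q = 1 := by rw [pow_succ, hq2, one_mul] at hq3; exact hq3
  rw [hq, Prod.mk_one_one, map_one, one_mul]

/-- The component is invariant under the normaliser of `⟨z⟩`. -/
theorem conj_φ₀ {k : G} (h : k * l.z * k⁻¹ ∈ Subgroup.zpowers l.z) (x : Perm (Fin 5)) :
    k * l.φ₀ x * k⁻¹ ∈ l.φ₀.range := by
  obtain ⟨⟨a, b⟩, rfl⟩ := l.of_norm h
  refine ⟨b * x * b⁻¹, ?_⟩
  rw [φ₀_apply, φ₀_apply, ← map_inv, ← map_mul, ← map_mul]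
  simp

end Loc

/-- The embedding attached to the isomorphism of the normaliser. -/
theorem exists_loc (z : G) (hz : z ^ 3 = 1) (hz1 : z ≠ 1)
    (eL : Subgroup.normalizer (Subgroup.zpowers z : Set G) ≃* Perm (Fin 3) × Perm (Fin 5)) :
    ∃ l : Loc G, l.z = z := by
  set E : Perm (Fin 3) × Perm (Fin 5) →* G :=
    (Subgroup.subtype _).comp eL.symm.toMonoidHom with hE
  have hinj : Function.Injective E := Subtype.val_injective.comp eL.symm.injective
  have hr : E.range = Subgroup.normalizer (Subgroup.zpowers z : Set G) := by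
    ext x
    constructor
    · rintro ⟨p, rfl⟩; exact (eL.symm p).2
    · intro hx; exact ⟨eL ⟨x, hx⟩, by simp [hE]⟩
  obtain ⟨⟨s, t⟩, hst⟩ : z ∈ E.range := by
    rw [hr]; exact Subgroup.le_normalizer (Subgroup.mem_zpowers z)
  have h3 : s ^ 3 = 1 ∧ t ^ 3 = 1 := by
    have : E ((s, t) ^ 3) = E 1 := by rw [map_pow, hst, hz, map_one]
    simpa [Prod.ext_iff] using hinj this
  have key : ∀ x : Perm (Fin 5), x * t * x⁻¹ = t ∨ x * t * x⁻¹ = t⁻¹ := by
    intro x
    have hx : E (1, x) ∈ Subgroup.normalizer (Subgroup.zpowers z : Set G) := by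
      rw [← hr]; exact ⟨_, rfl⟩
    have hm := (Subgroup.mem_normalizer_iff.mp hx z).mp (Subgroup.mem_zpowers z)
    have hne : E (1, x) * z * (E (1, x))⁻¹ ≠ 1 := by simp [hz1]
    rcases zpowers_three hz hm with e | e | e
    · exact absurd e hne
    · left
      rw [← hst, ← map_inv, ← map_mul, ← map_mul] at e
      simpa using congrArg Prod.snd (hinj e)
    · right
      rw [← hst, ← map_inv, ← map_inv, ← map_mul, ← map_mul] at e
      simpa using congrArg Prod.snd (hinj e)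
  have ht : t = 1 := s5_normal t h3.2 (key _) (key _) (key _) (key _)
  subst ht
  refine ⟨⟨E, hinj, z, s, h3.1, ?_, hst, hr⟩, rfl⟩
  rintro rfl
  exact hz1 (by rw [← hst]; exact map_one E)

/-- The centraliser data for a placed component. -/
structure Placed (G : Type*) [Group G] (D : Subgroup G) where
  l : Loc G
  h : Perm (Fin 5)
  w_mem : l.φ₀ (h * c5 * h⁻¹) ∈ D
  z_mem : l.z ∈ D
  card_D : Nat.card D = 9
  card_N : Nat.card (Subgroup.normalizer (D : Set G)) = 144

namespace Placed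

variable {D : Subgroup G} (d : Placed G D)

/-- `E` reparametrised so that `c5` lies in `D`. -/
def F : Perm (Fin 3) × Perm (Fin 5) →* G :=
  d.l.E.comp ((MulEquiv.refl _).prodCongr (MulAut.conj d.h)).toMonoidHom

theorem F_apply (a : Perm (Fin 3)) (x : Perm (Fin 5)) :
    d.F (a, x) = d.l.E (a, d.h * x * d.h⁻¹) := rfl

omit [Finite G] in
theorem F_inj : Function.Injective d.F :=
  d.l.inj.comp (MulEquiv.injective _)

/-- The component. -/
def φ : Perm (Fin 5) →* G := d.F.comp (MonoidHom.inr _ _)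

omit [Finite G] in
theorem φ_apply (x : Perm (Fin 5)) : d.φ x = d.F (1, x) := rfl

omit [Finite G] in
theorem φ_inj : Function.Injective d.φ := fun x y e =>
  (Prod.ext_iff.mp (d.F_inj (a₁ := (1, x)) (a₂ := (1, y)) e)).2

theorem F_s : d.F (d.l.s, 1) = d.l.z := by rw [F_apply, mul_one, mul_inv_cancel, d.l.z_eq]

theorem F_surj {k : G} (h : k * d.l.z * k⁻¹ ∈ Subgroup.zpowers d.l.z) : ∃ p, d.F p = k := by
  obtain ⟨⟨a, x⟩, rfl⟩ := d.l.of_norm h
  exact ⟨(a, d.h⁻¹ * x * d.h), by rw [F_apply]; simp [mul_assoc]⟩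

theorem F_norm (p : Perm (Fin 3) × Perm (Fin 5)) :
    d.F p ∈ Subgroup.normalizer (Subgroup.zpowers d.l.z : Set G) := by
  rw [← d.l.range_eq]; exact ⟨_, rfl⟩

theorem D_eq : D = ((Subgroup.zpowers d.l.s).prod (Subgroup.zpowers c5)).map d.F := by
  symm
  apply Subgroup.eq_of_le_of_card_ge
  · rintro _ ⟨⟨a, x⟩, ⟨⟨i, rfl⟩, ⟨j, rfl⟩⟩, rfl⟩
    have e : ((d.l.s ^ i, c5 ^ j) : Perm (Fin 3) × Perm (Fin 5))
        = (d.l.s, 1) ^ i * (1, c5) ^ j := by ext1 <;> simp
    show d.F (d.l.s ^ i, c5 ^ j) ∈ D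
    rw [e, map_mul, map_zpow, map_zpow, d.F_s]
    exact mul_mem (zpow_mem d.z_mem i) (zpow_mem (by
      rw [F_apply]; exact d.w_mem) j)
  · rw [Subgroup.card_map_of_injective d.F_inj, Nat.card_congr (Subgroup.prodEquiv _ _).toEquiv,
      Nat.card_prod, order_three d.l.s_pow d.l.s_ne, order_three c5_pow.1 c5_pow.2.1, d.card_D]

theorem F_mem_D {a : Perm (Fin 3)} {x : Perm (Fin 5)} (h : d.F (a, x) ∈ D) :
    (a = 1 ∨ a = d.l.s ∨ a = d.l.s⁻¹) ∧ (x = 1 ∨ x = c5 ∨ x = c5⁻¹) := by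
  obtain ⟨⟨a', x'⟩, hm, e⟩ := (SetLike.ext_iff.mp d.D_eq _).mp h
  obtain ⟨rfl, rfl⟩ := Prod.ext_iff.mp (d.F_inj e)
  exact ⟨zpowers_three d.l.s_pow hm.1, zpowers_three c5_pow.1 hm.2⟩

theorem mem_D {a : Perm (Fin 3)} {x : Perm (Fin 5)} (ha : a ∈ Subgroup.zpowers d.l.s)
    (hx : x ∈ Subgroup.zpowers c5) : d.F (a, x) ∈ D := by
  exact (SetLike.ext_iff.mp d.D_eq _).mpr ⟨(a, x), ⟨ha, hx⟩, rfl⟩

theorem F_mem_norm (a : Perm (Fin 3)) (x : Perm (Fin 5)) :
    d.F (a, x) ∈ Subgroup.normalizer (D : Set G) ↔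
      (x * c5 * x⁻¹ = c5 ∨ x * c5 * x⁻¹ = c5⁻¹) := by
  constructor
  · intro h
    have hm := (Subgroup.mem_normalizer_iff.mp h (d.F (1, c5))).mp
      (d.mem_D (one_mem _) (Subgroup.mem_zpowers _))
    rw [← map_inv, ← map_mul, ← map_mul] at hm
    obtain ⟨-, e⟩ := d.F_mem_D (a := a * 1 * a⁻¹) (x := x * c5 * x⁻¹) hm
    rcases e with e | e | e
    · exact absurd (conj_eq_one_iff.mp e) c5_pow.2.1
    · exact Or.inl e
    · exact Or.inr e
  · intro hx
    apply mem_normalizer_of_conj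
    intro k hk
    obtain ⟨⟨a', x'⟩, ⟨⟨i, rfl⟩, ⟨j, rfl⟩⟩, rfl⟩ := (SetLike.ext_iff.mp d.D_eq k).mp hk
    show d.F (a, x) * d.F (d.l.s ^ i, c5 ^ j) * (d.F (a, x))⁻¹ ∈ D
    rw [← map_inv, ← map_mul, ← map_mul]
    apply d.mem_D (a := a * d.l.s ^ i * a⁻¹) (x := x * c5 ^ j * x⁻¹)
    · rw [← conj_zpow]
      apply zpow_mem
      rcases s3_conj a _ d.l.s_pow d.l.s_ne with e | e <;> rw [e]
      exacts [Subgroup.mem_zpowers _, inv_mem (Subgroup.mem_zpowers _)]
    · rw [← conj_zpow]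
      apply zpow_mem
      rcases hx with e | e <;> rw [e]
      exacts [Subgroup.mem_zpowers _, inv_mem (Subgroup.mem_zpowers _)]

/-- The part of the normaliser of `D` fixing the line of `z` has index two. -/
theorem index_two :
    ((Subgroup.normalizer (Subgroup.zpowers d.l.z : Set G)).subgroupOf
      (Subgroup.normalizer (D : Set G))).index = 2 := by
  set N := Subgroup.normalizer (D : Set G)
  set M := (Subgroup.normalizer (Subgroup.zpowers d.l.z : Set G)).subgroupOf N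
  let f : Perm (Fin 3) × {b : Perm (Fin 5) // b * c5 * b⁻¹ = c5 ∨ b * c5 * b⁻¹ = c5⁻¹} → M :=
    fun p => ⟨⟨d.F (p.1, p.2.1), (d.F_mem_norm _ _).mpr p.2.2⟩,
      Subgroup.mem_subgroupOf.mpr (d.F_norm _)⟩
  have hf : Function.Bijective f := by
    refine ⟨fun p q e => ?_, fun m => ?_⟩
    · have := Prod.ext_iff.mp (d.F_inj (congrArg (fun m : M => ((m : N) : G)) e))
      exact Prod.ext this.1 (Subtype.ext this.2)
    · have hm := Subgroup.mem_subgroupOf.mp m.2
      obtain ⟨⟨a, x⟩, hax⟩ := d.F_surj (k := ((m : N) : G))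
        ((Subgroup.mem_normalizer_iff.mp hm _).mp (Subgroup.mem_zpowers _))
      have hx : d.F (a, x) ∈ N := by rw [hax]; exact (m : N).2
      exact ⟨(a, ⟨x, (d.F_mem_norm a x).mp hx⟩), Subtype.ext (Subtype.ext hax)⟩
  have hM : Nat.card M = 72 := by
    rw [← Nat.card_eq_of_bijective f hf, Nat.card_prod, s5_norm_card,
      Nat.card_eq_fintype_card, Fintype.card_perm, Fintype.card_fin]
    decide
  have := M.index_mul_card
  rw [hM, d.card_N] at this
  omega

/-- An element of the normaliser of `D` sending `z` to `φ c5`, with square normalising the line. -/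
theorem exists_g : ∃ g : G, g ∈ Subgroup.normalizer (D : Set G) ∧
    g * d.l.z * g⁻¹ = d.φ c5 ∧ g * g * d.l.z * (g * g)⁻¹ ∈ Subgroup.zpowers d.l.z := by
  set N := Subgroup.normalizer (D : Set G)
  set L := Subgroup.normalizer (Subgroup.zpowers d.l.z : Set G)
  have hi := d.index_two
  obtain ⟨g, hg⟩ : ∃ g : N, g ∉ L.subgroupOf N := by
    by_contra! hall
    rw [(Subgroup.eq_top_iff' _).mpr hall, Subgroup.index_top] at hi
    omega
  have hsq : ∀ k : N, (k : G) * k * d.l.z * ((k : G) * k)⁻¹ ∈ Subgroup.zpowers d.l.z :=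
    fun k => by
    have : k * k ∈ L.subgroupOf N := (Subgroup.mul_mem_iff_of_index_two hi).mpr Iff.rfl
    exact (Subgroup.mem_normalizer_iff.mp (Subgroup.mem_subgroupOf.mp this) _).mp
      (Subgroup.mem_zpowers _)
  set t : N := ⟨d.F (swap 0 1, 1), (d.F_mem_norm _ _).mpr (by simp)⟩
  have ht : t ∈ L.subgroupOf N := Subgroup.mem_subgroupOf.mpr (d.F_norm _)
  have ht' : g⁻¹ * t * g ∈ L.subgroupOf N := by
    rw [Subgroup.mul_mem_iff_of_index_two hi, Subgroup.mul_mem_iff_of_index_two hi,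
      Subgroup.inv_mem_iff]
    tauto
  have hgD : (g : G) * d.l.z * (g : G)⁻¹ ∈ D :=
    (Subgroup.mem_normalizer_iff.mp g.2 _).mp d.z_mem
  obtain ⟨p, hp⟩ : (g : G) * d.l.z * (g : G)⁻¹ ∈ d.F.range := by
    obtain ⟨p, -, e⟩ := (SetLike.ext_iff.mp d.D_eq _).mp hgD; exact ⟨p, e⟩
  obtain ⟨a, x⟩ := p
  have hax := d.F_mem_D (a := a) (x := x) (hp ▸ hgD)
  have hout : (g : G) * d.l.z * (g : G)⁻¹ ∉ Subgroup.zpowers d.l.z := fun h =>
    hg (Subgroup.mem_subgroupOf.mpr (mem_normalizer_zpowers h))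
  have hz_mem : ∀ i, (i = 1 ∨ i = d.l.s ∨ i = d.l.s⁻¹) →
      d.F (i, 1) ∈ Subgroup.zpowers d.l.z := by
    rintro i (rfl | rfl | rfl)
    · rw [Prod.mk_one_one, map_one]; exact one_mem _
    · rw [d.F_s]; exact Subgroup.mem_zpowers _
    · have : ((d.l.s⁻¹, 1) : Perm (Fin 3) × Perm (Fin 5)) = (d.l.s, 1)⁻¹ := by simp
      rw [this, map_inv, d.F_s]; exact inv_mem (Subgroup.mem_zpowers _)
  have hx1 : x ≠ 1 := fun e => hout (by rw [← hp, e]; exact hz_mem a hax.1)
  -- conjugating by `t`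
  have hrel : d.F (swap 0 1, 1) * d.F (a, x) * (d.F (swap 0 1, 1))⁻¹ = d.F (a, x) ∨
      d.F (swap 0 1, 1) * d.F (a, x) * (d.F (swap 0 1, 1))⁻¹ = (d.F (a, x))⁻¹ := by
    rw [hp]
    have hm := (Subgroup.mem_normalizer_iff.mp (Subgroup.mem_subgroupOf.mp ht') d.l.z).mp
      (Subgroup.mem_zpowers _)
    simp only [Subgroup.coe_mul, Subgroup.coe_inv] at hm
    rcases zpowers_three d.l.z_pow hm with e | e | e
    · exact absurd (conj_eq_one_iff.mp e) d.l.z_ne
    · left
      calc _ = (g : G) * ((g : G)⁻¹ * d.F (swap 0 1, 1) * g * d.l.z *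
            ((g : G)⁻¹ * d.F (swap 0 1, 1) * g)⁻¹) * (g : G)⁻¹ := by simp [mul_assoc]
        _ = _ := by rw [e]
    · right
      calc _ = (g : G) * ((g : G)⁻¹ * d.F (swap 0 1, 1) * g * d.l.z *
            ((g : G)⁻¹ * d.F (swap 0 1, 1) * g)⁻¹) * (g : G)⁻¹ := by simp [mul_assoc]
        _ = _ := by rw [e]; simp [mul_assoc]
  have ha : a = 1 := by
    simp only [← map_inv, ← map_mul] at hrel
    rcases hrel with e | e
    · have e1 := congrArg Prod.fst (d.F_inj e)
      have := s3_inv d.l.s d.l.s_pow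
      rcases hax.1 with rfl | rfl | rfl
      · rfl
      · exfalso
        simp only [Prod.fst_mul, Prod.fst_inv] at e1
        rw [this] at e1
        exact d.l.s_ne (by
          have h3 := d.l.s_pow
          rw [pow_succ, pow_two, mul_assoc] at h3
          calc d.l.s = d.l.s * (d.l.s * d.l.s⁻¹) := by simp
            _ = d.l.s * (d.l.s * d.l.s) := by rw [e1]
            _ = 1 := h3)
      · exfalso
        simp only [Prod.fst_mul, Prod.fst_inv] at e1
        have e2 : swap 0 1 * d.l.s * (swap 0 1)⁻¹ = d.l.s := by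
          have := congrArg (·⁻¹) e1
          simpa [mul_assoc] using this
        rw [this] at e2
        exact d.l.s_ne (by
          have h3 := d.l.s_pow
          rw [pow_succ, pow_two, mul_assoc] at h3
          calc d.l.s = d.l.s * (d.l.s * d.l.s⁻¹) := by simp
            _ = d.l.s * (d.l.s * d.l.s) := by rw [e2]
            _ = 1 := h3)
    · exfalso
      have e1 := congrArg Prod.snd (d.F_inj e)
      simp only [Prod.snd_mul, Prod.snd_inv, one_mul, inv_one, mul_one] at e1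
      apply hx1
      rcases hax.2 with rfl | rfl | rfl
      · rfl
      all_goals exact absurd e1 (by decide +kernel)
  subst ha
  rcases hax.2 with rfl | rfl | rfl
  · exact absurd rfl hx1
  · exact ⟨g, g.2, hp.symm, hsq g⟩
  · set u : N := ⟨d.F (1, a5), (d.F_mem_norm _ _).mpr (Or.inr (by decide +kernel))⟩
    refine ⟨((u * g : N) : G), (u * g).2, ?_, hsq (u * g)⟩
    calc ((u * g : N) : G) * d.l.z * ((u * g : N) : G)⁻¹
        = d.F (1, a5) * ((g : G) * d.l.z * (g : G)⁻¹) * (d.F (1, a5))⁻¹ := by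
          simp [u, mul_assoc]
      _ = d.φ c5 := by
          rw [← hp, ← map_inv, ← map_mul, ← map_mul, φ_apply]
          congr 1
          simp [c5_pow.2.2.2.2.2]

theorem φ_comm (a : Perm (Fin 3)) (x : Perm (Fin 5)) : Commute (d.F (a, 1)) (d.φ x) := by
  rw [φ_apply]; exact Commute.map (by simp [Commute, SemiconjBy]) d.F

theorem z_comm (x : Perm (Fin 5)) : Commute d.l.z (d.φ x) := d.F_s ▸ d.φ_comm _ x

theorem range_eq : d.φ.range = d.l.φ₀.range := by
  ext k
  constructor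
  · rintro ⟨x, rfl⟩; exact ⟨_, rfl⟩
  · rintro ⟨x, rfl⟩
    exact ⟨d.h⁻¹ * x * d.h, by rw [φ_apply, F_apply]; simp [mul_assoc, Loc.φ₀_apply]⟩

theorem inv_cent {k : G} (h : k * d.l.z = d.l.z * k) (h2 : k ^ 2 = 1) : ∃ x, d.φ x = k := by
  obtain ⟨x, rfl⟩ := d.l.inv_cent h h2
  exact (d.range_eq ▸ ⟨x, rfl⟩ : d.l.φ₀ x ∈ d.φ.range)

theorem conj_φ {k : G} (h : k * d.l.z * k⁻¹ ∈ Subgroup.zpowers d.l.z) (x : Perm (Fin 5)) :
    k * d.φ x * k⁻¹ ∈ d.φ.range := by
  obtain ⟨y, hy⟩ : d.φ x ∈ d.l.φ₀.range := d.range_eq ▸ ⟨x, rfl⟩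
  rw [← hy, d.range_eq]
  exact d.l.conj_φ₀ h y

end Placed

end Local

open Local in
/-- The local hypotheses give the base data. -/
theorem exists_base {G : Type*} [Group G] [Finite G]
    (P : Sylow 3 G) (D : Subgroup G) (hDP : D = P) (y z : G) (hgen : Subgroup.closure {y, z} = D)
    (hcomm : IsMulCommutative D) (hcard : Nat.card D = 9) (hexp : ∀ a ∈ D, a ^ 3 = 1)
    (eN : Subgroup.normalizer (D : Set G) ⧸ D.subgroupOf (Subgroup.normalizer (D : Set G)) ≃
      DihedralGroup 4 × Multiplicative (ZMod 2))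
    (hycard : Nat.card (Subgroup.centralizer ({y} : Set G)) = 36)
    (hysq : ∀ g ∈ Subgroup.centralizer ({y} : Set G), g ^ 2 ∈ D)
    (eL : Subgroup.normalizer (Subgroup.zpowers z : Set G) ≃* Equiv.Perm (Fin 3) × Equiv.Perm (Fin 5)) :
    Nonempty (Base G) := by
  have hzD : z ∈ D := hgen ▸ Subgroup.subset_closure (by simp)
  have hyD : y ∈ D := hgen ▸ Subgroup.subset_closure (by simp)
  have hyz : y ∉ Subgroup.zpowers z := fun hy => by
    have : D ≤ Subgroup.zpowers z := by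
      rw [← hgen, Subgroup.closure_le]
      rintro k (rfl | rfl)
      exacts [hy, Subgroup.mem_zpowers _]
    have h9 := Subgroup.card_le_of_le this
    rw [hcard, Nat.card_zpowers] at h9
    have h3 := Nat.le_of_dvd (by norm_num) (orderOf_dvd_of_pow_eq_one (hexp z hzD))
    omega
  have hz1 : z ≠ 1 := by
    rintro rfl
    have : D ≤ Subgroup.zpowers y := by
      rw [← hgen, Subgroup.closure_le]
      rintro k (rfl | rfl)
      exacts [Subgroup.mem_zpowers _, one_mem _]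
    have h9 := Subgroup.card_le_of_le this
    rw [hcard, Nat.card_zpowers] at h9
    have h3 := Nat.le_of_dvd (by norm_num) (orderOf_dvd_of_pow_eq_one (hexp y hyD))
    omega
  obtain ⟨l, rfl⟩ := exists_loc z (hexp z hzD) hz1 eL
  -- place the component
  have hyc : y * l.z = l.z * y :=
    congrArg Subtype.val (hcomm.is_comm.comm ⟨y, hyD⟩ ⟨l.z, hzD⟩)
  obtain ⟨a, x, ha, hy⟩ := l.mem_cent hyc
  have haD : a ∈ D := by rcases ha with rfl | rfl | rfl; exacts [one_mem _, hzD, inv_mem hzD]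
  have haz : a ∈ Subgroup.zpowers l.z := by
    rcases ha with rfl | rfl | rfl
    exacts [one_mem _, Subgroup.mem_zpowers _, inv_mem (Subgroup.mem_zpowers _)]
  have hxD : l.φ₀ x ∈ D := by
    have := mul_mem (inv_mem haD) (hy ▸ hyD); rwa [inv_mul_cancel_left] at this
  have hx3 : x ^ 3 = 1 := by
    have := hexp _ hxD
    rw [← map_pow, ← map_one l.φ₀] at this
    exact (Prod.ext_iff.mp (l.inj this)).2
  have hx1 : x ≠ 1 := fun e => hyz (by rw [hy, e, map_one, mul_one]; exact haz)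
  obtain ⟨h, rfl⟩ := s5_three x hx3 hx1
  have hN : Nat.card (Subgroup.normalizer (D : Set G)) = 144 := by
    rw [Subgroup.card_eq_card_quotient_mul_card_subgroup
      (D.subgroupOf (Subgroup.normalizer (D : Set G))), Nat.card_congr eN,
      Nat.card_congr (Subgroup.subgroupOfEquivOfLe Subgroup.le_normalizer).toEquiv, hcard,
      Nat.card_prod, DihedralGroup.nat_card, Nat.card_eq_fintype_card, Fintype.card_multiplicative,
      ZMod.card]
  set d : Placed G D := ⟨l, h, hxD, hzD, hcard, hN⟩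
  show Nonempty (Base G)
  change y * d.l.z = d.l.z * y at hyc
  have hl : d.l = l := rfl
  obtain ⟨g, hgN, hgz, hgg⟩ := d.exists_g
  set z := d.l.z with hzdef
  set w := d.φ c5 with hw
  have hgw : g⁻¹ * w * g = z := by rw [← hgz]; simp [mul_assoc]
  have hrz : d.φ r5 * z = z * d.φ r5 := (d.z_comm r5).symm.eq
  have hrw : d.φ r5 * w = w * d.φ r5 := by rw [hw, ← map_mul, ← map_mul, c5_pow.2.2.1]
  have hgwg : g * w * g⁻¹ ∈ Subgroup.zpowers z := by
    rw [← hgz]; simpa [mul_assoc] using hgg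
  -- the involution of the centraliser of `D` is fixed
  have hgr : g⁻¹ * d.φ r5 * g = d.φ r5 := by
    have hcomm_z : g⁻¹ * d.φ r5 * g * z = z * (g⁻¹ * d.φ r5 * g) := by
      calc g⁻¹ * d.φ r5 * g * z = g⁻¹ * (d.φ r5 * w) * g := by
            rw [← hgw]; simp [mul_assoc]
        _ = g⁻¹ * (w * d.φ r5) * g := by rw [hrw]
        _ = z * (g⁻¹ * d.φ r5 * g) := by rw [← hgw]; simp [mul_assoc]
    have hsq : (g⁻¹ * d.φ r5 * g) ^ 2 = 1 := by
      have := conj_pow (i := 2) (a := g⁻¹) (b := d.φ r5)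
      rw [inv_inv] at this
      rw [this, ← map_pow, c5_pow.2.2.2.1, map_one]; simp
    obtain ⟨x', hx'⟩ := d.inv_cent hcomm_z hsq
    have hcw : g⁻¹ * d.φ r5 * g * w = w * (g⁻¹ * d.φ r5 * g) := by
      have hc : Commute (d.φ r5) (g * w * g⁻¹) := by
        obtain ⟨i, hi⟩ := hgwg
        rw [← hi]; exact ((d.z_comm r5).zpow_left i).symm
      calc g⁻¹ * d.φ r5 * g * w = g⁻¹ * (d.φ r5 * (g * w * g⁻¹)) * g := by simp [mul_assoc]
        _ = g⁻¹ * ((g * w * g⁻¹) * d.φ r5) * g := by rw [hc.eq]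
        _ = w * (g⁻¹ * d.φ r5 * g) := by simp [mul_assoc]
    rw [← hx', hw, ← map_mul, ← map_mul] at hcw
    have e : x' = r5 := by
      refine s5_centralizer x' (d.φ_inj ?_) (d.φ_inj hcw) fun e => ?_
      · rw [map_pow, hx', hsq, map_one]
      · rw [e, map_one] at hx'
        have : d.φ r5 = 1 := by
          calc d.φ r5 = g * (g⁻¹ * d.φ r5 * g) * g⁻¹ := by simp [mul_assoc]
            _ = 1 := by rw [← hx']; simp
        exact c5_pow.2.2.2.2.1 (d.φ_inj (by rw [this, map_one]))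
    rw [← hx', e]
  have hgr' : g * d.φ r5 * g⁻¹ = d.φ r5 := by
    conv_lhs => rw [← hgr]
    simp [mul_assoc]
  -- the element inverting `z`
  set τ := d.F (swap 0 1, 1) with hτ
  have hτz : τ * z * τ⁻¹ = z⁻¹ := by
    rw [hτ, hzdef, ← d.F_s, ← map_inv, ← map_inv, ← map_mul, ← map_mul]
    congr 1
    exact Prod.ext (s3_inv d.l.s d.l.s_pow) (by simp)
  have hττ : τ ^ 2 = 1 := by
    rw [hτ, ← map_pow]
    convert map_one d.F
    simp [pow_two]
  obtain ⟨t, ht⟩ : ∃ t, d.φ t = g * τ * g⁻¹ := by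
    apply d.inv_cent
    · obtain ⟨i, hi : z ^ i = _⟩ := hgwg
      have hc : Commute (g * τ * g⁻¹) (g * w * g⁻¹) :=
        (d.φ_comm (swap 0 1) c5).map (MulAut.conj g).toMonoidHom
      rw [← hi] at hc
      rcases zpowers_three d.l.z_pow ⟨i, rfl⟩ with e | e | e
      · exfalso
        replace e : g * w * g⁻¹ = 1 := hi ▸ e
        exact c5_pow.2.1 (d.φ_inj (by rw [← hw, conj_eq_one_iff.mp e, map_one]))
      · rw [show z ^ i = z from e] at hc; exact hc.eq
      · rw [show z ^ i = z⁻¹ from e] at hc; exact (Commute.inv_right_iff.mp hc).eq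
    · rw [conj_pow, hττ]; simp
  have ht2 : t ^ 2 = 1 := d.φ_inj (by rw [map_pow, ht, conj_pow, hττ]; simp)
  have htc : t * c5 * t⁻¹ = c5⁻¹ := d.φ_inj (by
    rw [map_mul, map_mul, map_inv, map_inv, ht, ← hw, ← hgz]
    calc g * τ * g⁻¹ * (g * z * g⁻¹) * (g * τ * g⁻¹)⁻¹ = g * (τ * z * τ⁻¹) * g⁻¹ := by
          simp [mul_assoc]
      _ = (g * z * g⁻¹)⁻¹ := by rw [hτz]; simp [mul_assoc])
  have htr : t * r5 = r5 * t := d.φ_inj (by
    rw [map_mul, map_mul, ht]
    conv_lhs => rw [← hgr']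
    conv_rhs => rw [← hgr']
    exact ((d.φ_comm (swap 0 1) r5).map (MulAut.conj g).toMonoidHom).eq)
  obtain ⟨k, hk⟩ := s5_sigma t ht2 htc htr
  set σ := c5 ^ (k : ℕ) * t * (c5 ^ (k : ℕ))⁻¹ with hσ
  set τ' := z ^ (k : ℕ) * τ * (z ^ (k : ℕ))⁻¹ with hτ'
  have hgσ : g⁻¹ * d.φ σ * g = τ' := by
    rw [hσ, map_mul, map_mul, map_inv, map_pow, ← hw, ht, ← hgz, conj_pow, hτ']
    simp [mul_assoc]
  have hclz : z ∈ Subgroup.closure {g⁻¹ * w * g, g⁻¹ * d.φ σ * g} :=
    Subgroup.subset_closure (by simp [hgw])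
  have hclτ : τ ∈ Subgroup.closure {g⁻¹ * w * g, g⁻¹ * d.φ σ * g} := by
    have h1 : τ' ∈ Subgroup.closure {g⁻¹ * w * g, g⁻¹ * d.φ σ * g} :=
      Subgroup.subset_closure (by simp [hgσ])
    have h2 : τ = (z ^ (k : ℕ))⁻¹ * τ' * z ^ (k : ℕ) := by simp [hτ', mul_assoc]
    rw [h2]
    exact mul_mem (mul_mem (inv_mem (pow_mem hclz _)) h1) (pow_mem hclz _)
  -- transfer of the centraliser of `y`
  have hyne : Nat.card (Subgroup.centralizer ({w} : Set G)) ≠ 36 := by
    rw [← hgz, card_centralizer_conj]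
    intro h36
    let f : Perm (Fin 5) → Subgroup.centralizer ({z} : Set G) := fun x =>
      ⟨d.φ x, Subgroup.mem_centralizer_singleton_iff.mpr (d.z_comm x).symm.eq⟩
    have := Nat.card_le_card_of_injective f fun p q e => d.φ_inj (congrArg Subtype.val e)
    rw [h36, Nat.card_eq_fintype_card, Fintype.card_perm, Fintype.card_fin] at this
    norm_num [Nat.factorial] at this
  obtain ⟨hh, hhD, hhy⟩ : ∃ hh, hh ∈ Subgroup.normalizer (D : Set G) ∧
      (z * w = hh * y * hh⁻¹ ∨ z * w = hh * y⁻¹ * hh⁻¹) := by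
    obtain ⟨⟨a', x'⟩, -, hy'⟩ : y ∈ ((Subgroup.zpowers d.l.s).prod (Subgroup.zpowers c5)).map d.F :=
      d.D_eq ▸ hyD
    obtain ⟨ha', hx'⟩ := d.F_mem_D (a := a') (x := x') (hy' ▸ hyD)
    have hzw : z * w = d.F (d.l.s, c5) := by
      rw [hw, hzdef, ← d.F_s, Placed.φ_apply, ← map_mul]; simp
    have hτN : τ ∈ Subgroup.normalizer (D : Set G) := (d.F_mem_norm _ _).mpr (by simp)
    have e3 := s3_inv d.l.s d.l.s_pow
    have hxne : x' ≠ 1 := by
      rintro rfl
      apply hyz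
      rw [← hy']
      rcases ha' with rfl | rfl | rfl
      · rw [Prod.mk_one_one, map_one]; exact one_mem _
      · rw [d.F_s]; exact Subgroup.mem_zpowers _
      · have : ((d.l.s⁻¹, 1) : Perm (Fin 3) × Perm (Fin 5)) = (d.l.s, 1)⁻¹ := by simp
        rw [this, map_inv, d.F_s]; exact inv_mem (Subgroup.mem_zpowers _)
    have hane : a' ≠ 1 := by
      rintro rfl
      apply hyne
      rcases hx' with rfl | rfl | rfl
      · exact absurd rfl hxne
      · rw [hw, Placed.φ_apply, hy']; exact hycard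
      · rw [← hycard, ← hy']
        congr 1
        have : ((1, c5⁻¹) : Perm (Fin 3) × Perm (Fin 5)) = (1, c5)⁻¹ := by simp
        rw [this, map_inv, hw, Placed.φ_apply]
        have hce : ∀ u : G, Subgroup.centralizer ({u⁻¹} : Set G) = Subgroup.centralizer ({u} : Set G) :=
          fun u => by
          ext k'
          simp only [Subgroup.mem_centralizer_singleton_iff]
          exact ⟨fun e => (Commute.inv_right_iff.mp e).eq, fun e => (Commute.inv_right e).eq⟩
        rw [hce]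
    rw [hzw, ← hy']
    rcases ha' with rfl | rfl | rfl
    · exact absurd rfl hane
    · rcases hx' with rfl | rfl | rfl
      · exact absurd rfl hxne
      · exact ⟨1, one_mem _, Or.inl (by simp)⟩
      · refine ⟨τ, hτN, Or.inr ?_⟩
        rw [hτ, ← map_inv, ← map_inv, ← map_mul, ← map_mul]
        congr 1
        have : swap 0 1 * d.l.s⁻¹ * (swap 0 1)⁻¹ = d.l.s := by
          have := congrArg (·⁻¹) e3; simpa [mul_assoc] using this
        exact Prod.ext this.symm (by simp)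
    · rcases hx' with rfl | rfl | rfl
      · exact absurd rfl hxne
      · refine ⟨τ, hτN, Or.inl ?_⟩
        rw [hτ, ← map_inv, ← map_mul, ← map_mul]
        congr 1
        have : swap 0 1 * d.l.s⁻¹ * (swap 0 1)⁻¹ = d.l.s := by
          have := congrArg (·⁻¹) e3; simpa [mul_assoc] using this
        exact Prod.ext this.symm (by simp)
      · exact ⟨1, one_mem _, Or.inr (by
          rw [one_mul, inv_one, mul_one, ← map_inv]; simp)⟩
  have hcent_inv : Subgroup.centralizer ({y⁻¹} : Set G) = Subgroup.centralizer ({y} : Set G) := by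
    ext k'
    simp only [Subgroup.mem_centralizer_singleton_iff]
    exact ⟨fun e => (Commute.inv_right_iff.mp e).eq, fun e => (Commute.inv_right e).eq⟩
  refine ⟨{
    φ := d.φ
    inj := d.φ_inj
    g := g
    σ := σ
    σ_cases := hk
    g_range := ?_
    g_r := hgr
    comm_c := fun x => by rw [← hw, hgw]; exact d.z_comm x
    comm_σ := fun x => ?_
    c_not_mem := ?_
    centz := ?_
    normz := ?_
    card_y := ?_
    sq_y := ?_
    not_dvd := ?_ }⟩
  · have key : ∀ x, g * g * d.φ x * (g * g)⁻¹ ∈ d.φ.range := d.conj_φ hgg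
    apply Subgroup.eq_of_le_of_card_ge
    swap
    · exact ((Subgroup.card_map_of_injective (f := (MulAut.conj g⁻¹).toMonoidHom)
        (MulAut.conj g⁻¹).injective).trans
        (Subgroup.card_map_of_injective (f := (MulAut.conj g).toMonoidHom)
          (MulAut.conj g).injective).symm).le
    rintro _ ⟨_, ⟨x, rfl⟩, rfl⟩
    exact ⟨g * g * d.φ x * (g * g)⁻¹, key x, by simp [mul_assoc]⟩
  · rw [hgσ, hτ']
    have h1 := d.z_comm x
    exact ((h1.pow_left _).mul_left (d.φ_comm _ x)).mul_left (h1.pow_left _).inv_left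
  · rw [← hw, hgw]
    rintro ⟨x, hx⟩
    rw [hzdef, ← d.F_s, Placed.φ_apply] at hx
    exact d.l.s_ne (Prod.ext_iff.mp (d.F_inj hx)).1.symm
  · rw [← hw, hgw]
    intro k' hk'
    obtain ⟨a', x', ha', rfl⟩ := d.l.mem_cent (Subgroup.mem_centralizer_singleton_iff.mp hk')
    refine mul_mem (Subgroup.mem_sup_left ?_) (Subgroup.mem_sup_right ?_)
    · rcases ha' with rfl | rfl | rfl
      exacts [one_mem _, Subgroup.mem_zpowers _, inv_mem (Subgroup.mem_zpowers _)]
    · rw [d.range_eq]; exact ⟨x', rfl⟩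
  · rw [← hw]
    intro k' hk'
    have hm : k' * z * k'⁻¹ ∈ Subgroup.zpowers z := by
      rw [hgw] at hk'
      exact (Subgroup.mem_normalizer_iff.mp hk' z).mp (Subgroup.mem_zpowers z)
    obtain ⟨⟨a', x'⟩, rfl⟩ := d.F_surj hm
    obtain ⟨i, j, ha'⟩ := s3_gen a' d.l.s d.l.s_pow d.l.s_ne
    have e : ((a', x') : Perm (Fin 3) × Perm (Fin 5)) =
        (d.l.s, 1) ^ (i : ℕ) * (swap 0 1, 1) ^ (j : ℕ) * (1, x') := by
      ext1 <;> simp [ha']
    have e2 : d.F (a', x') = z ^ (i : ℕ) * τ ^ (j : ℕ) * d.φ x' := by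
      rw [e, hzdef, hτ, Placed.φ_apply, ← d.F_s, ← map_pow, ← map_pow, ← map_mul, ← map_mul]
    rw [e2]
    exact mul_mem (Subgroup.mem_sup_left (mul_mem (pow_mem hclz _) (pow_mem hclτ _)))
      (Subgroup.mem_sup_right ⟨x', rfl⟩)
  · rw [← hw, hgw]
    rcases hhy with e | e <;> rw [e, card_centralizer_conj]
    · exact hycard
    · rw [hcent_inv]; exact hycard
  · rw [← hw, hgw]
    intro x hx
    have hcl : Subgroup.closure ({z, w} : Set G) = D := by
      apply le_antisymm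
      · rw [Subgroup.closure_le]
        rintro k' (rfl | rfl)
        exacts [d.z_mem, d.mem_D (one_mem _) (Subgroup.mem_zpowers _)]
      · intro k' hk'
        obtain ⟨⟨a', x'⟩, ⟨⟨i, rfl⟩, ⟨j, rfl⟩⟩, rfl⟩ := (SetLike.ext_iff.mp d.D_eq k').mp hk'
        have e : ((d.l.s ^ i, c5 ^ j) : Perm (Fin 3) × Perm (Fin 5))
            = (d.l.s, 1) ^ i * (1, c5) ^ j := by ext1 <;> simp
        show d.F (d.l.s ^ i, c5 ^ j) ∈ _
        rw [e, map_mul, map_zpow, map_zpow, d.F_s]
        exact mul_mem (zpow_mem (Subgroup.subset_closure (by simp [hzdef])) i)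
          (zpow_mem (Subgroup.subset_closure (by simp [hw, Placed.φ_apply])) j)
    rw [hcl]
    have hy' : hh⁻¹ * x * hh ∈ Subgroup.centralizer ({y} : Set G) := by
      rw [Subgroup.mem_centralizer_singleton_iff] at hx
      rcases hhy with e | e
      · rw [e] at hx
        rw [Subgroup.mem_centralizer_singleton_iff]
        calc hh⁻¹ * x * hh * y = hh⁻¹ * (x * (hh * y * hh⁻¹)) * hh := by simp [mul_assoc]
          _ = hh⁻¹ * ((hh * y * hh⁻¹) * x) * hh := by rw [hx]
          _ = _ := by simp [mul_assoc]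
      · rw [e] at hx
        rw [← hcent_inv, Subgroup.mem_centralizer_singleton_iff]
        calc hh⁻¹ * x * hh * y⁻¹ = hh⁻¹ * (x * (hh * y⁻¹ * hh⁻¹)) * hh := by simp [mul_assoc]
          _ = hh⁻¹ * ((hh * y⁻¹ * hh⁻¹) * x) * hh := by rw [hx]
          _ = _ := by simp [mul_assoc]
    have := (Subgroup.mem_normalizer_iff.mp hhD _).mp (hysq _ hy')
    have e2 : hh * (hh⁻¹ * x * hh) ^ 2 * hh⁻¹ = x ^ 2 := by simp [pow_two, mul_assoc]
    rwa [e2] at this
  · intro h27
    haveI : Fact (Nat.Prime 3) := ⟨Nat.prime_three⟩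
    have hP : Nat.card P = 9 := by rw [← hcard, hDP]
    rw [P.card_eq_multiplicity] at hP
    have : 3 ≤ (Nat.card G).factorization 3 :=
      (Nat.prime_three.pow_dvd_iff_le_factorization Nat.card_pos.ne').mp (by norm_num; exact h27)
    have h9 := Nat.pow_le_pow_right (show 0 < 3 by norm_num) this
    omega

end CfsgLib.SymEightThree
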