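import Cfsg.Agent.Lib.SymEightThree.Base
import Cfsg.Agent.Lib.FischerSylow.Group

/-!
The symmetric case: the two components of the local data generate a symmetric group on eight points.
-/

set_option autoImplicit false

namespace CfsgLib.SymEightThree

open Equiv Subgroup

/-- The first generator of the four-group on the points other than `3`. -/
def f3a : Perm (Fin 5) := swap 4 0 * swap 1 2
/-- The second generator of the four-group on the points other than `3`. -/
def f3b : Perm (Fin 5) := swap 4 1 * swap 0 2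

set_option maxRecDepth 4000 in
theorem fourSet_three_cases : ∀ x : Perm (Fin 5), x * x = 1 → x 3 = 3 → Perm.sign x = 1 →
    x = 1 ∨ x = f3a ∨ x = f3b ∨ x = f3a * f3b := by
  decide +kernel

theorem mem_fourSet_four :
    r5 * f3a * r5 ∈ fourSet 4 := by
  refine ⟨?_, ?_, ?_⟩ <;> decide +kernel

theorem mem_fourSet_three :
    r5 * (swap 0 1 * swap 2 3) * r5 ∈ fourSet 3 := by
  refine ⟨?_, ?_, ?_⟩ <;> decide +kernel

/-- The points of the cycle product fixed by the following permutations. -/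
def centWord (k : Fin 36) : Perm (Fin 8) :=
  let z : Perm (Fin 8) := swap 0 1 * swap 1 2
  let w : Perm (Fin 8) := swap 5 6 * swap 6 7
  let e : Perm (Fin 8) := swap 0 5 * swap 1 6 * swap 2 7
  z ^ ((k : ℕ) % 3) * w ^ ((k : ℕ) / 3 % 3) * e ^ ((k : ℕ) / 9 % 2) * (swap 3 4) ^ ((k : ℕ) / 18)

set_option maxRecDepth 4000 in
theorem centWord_comm : ∀ k, centWord k * (swap 0 1 * swap 1 2 * (swap 5 6 * swap 6 7)) =
    (swap 0 1 * swap 1 2 * (swap 5 6 * swap 6 7)) * centWord k := by
  decide +kernel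

set_option maxRecDepth 4000 in
theorem centWord_injective : Function.Injective centWord := by
  have h : ∀ j k, centWord j = centWord k → j = k := by decide +kernel
  exact fun j k e => h j k e

variable {G : Type*} [Group G]

namespace Base

/-- A subgroup containing the images of the adjacent transpositions contains the image. -/
theorem range_le_of_swaps (θ : Perm (Fin 5) →* G) (H : Subgroup G)
    (h0 : θ (swap 0 1) ∈ H) (h1 : θ (swap 1 2) ∈ H) (h2 : θ (swap 2 3) ∈ H)
    (h3 : θ (swap 3 4) ∈ H) : θ.range ≤ H := by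
  rintro _ ⟨x, rfl⟩
  have hx : x ∈ Submonoid.closure (Set.range fun i : Fin 4 => swap i.castSucc i.succ) := by
    rw [Equiv.Perm.mclosure_swap_castSucc_succ]; trivial
  induction hx using Submonoid.closure_induction with
  | mem y hy =>
    obtain ⟨i, rfl⟩ := hy
    fin_cases i
    · exact h0
    · exact h1
    · exact h2
    · exact h3
  | one => rw [map_one]; exact H.one_mem
  | mul y z _ _ hy hz => rw [map_mul]; exact H.mul_mem hy hz

variable (b : Base G)

/-- Every element of the second component is a conjugate from the first by `g`. -/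
theorem exists_conj_eq (y : Perm (Fin 5)) : ∃ x, b.g * b.φ x * b.g⁻¹ = b.ψ y := by
  have h : b.ψ y ∈ b.φ.range.map (MulAut.conj b.g).toMonoidHom := by
    rw [b.g_range, ← b.ψ_range]; exact ⟨y, rfl⟩
  obtain ⟨_, ⟨x, rfl⟩, hx⟩ := h
  exact ⟨x, by simpa using hx⟩

theorem φc_comm (y : Perm (Fin 5)) : Commute (b.φ c5) (b.ψ y) := by
  obtain ⟨x, hx⟩ := b.exists_conj_eq y
  have h := (b.ψc_comm x).map (MulAut.conj b.g).toMonoidHom
  simpa [hx, b.conj_g_ψ] using h

theorem φσ_comm (y : Perm (Fin 5)) : Commute (b.φ b.σ) (b.ψ y) := by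
  obtain ⟨x, hx⟩ := b.exists_conj_eq y
  have h := (b.ψσ_comm x).map (MulAut.conj b.g).toMonoidHom
  simpa [hx, b.conj_g_ψ] using h

theorem exists_embEight [Finite G] (h : b.IsSym)
    (hfour : ∀ k, (k = 3 ∨ k = 4) →
      Subgroup.centralizer (b.φ '' fourSet k) ≤ b.φ.range ⊔ b.ψ.range) :
    Nonempty (EmbEight G) := by
  obtain ⟨hσ, hV⟩ := h
  -- cross commutations
  have hψa : ∀ x, Commute (b.ψ (swap 0 1)) (b.φ x) := fun x => by
    have := b.ψσ_comm x; rwa [hσ] at this
  have hψb : ∀ x, Commute (b.ψ (swap 1 2)) (b.φ x) := fun x => by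
    have e : (swap 1 2 : Perm (Fin 5)) = c5 * swap 0 1 * c5⁻¹ := by decide +kernel
    rw [e, map_mul, map_mul, map_inv]
    exact ((b.ψc_comm x).mul_left (hψa x)).mul_left (b.ψc_comm x).inv_left
  have hφa : ∀ y, Commute (b.φ (swap 0 1)) (b.ψ y) := fun y => by
    have := b.φσ_comm y; rwa [hσ] at this
  have hφb : ∀ y, Commute (b.φ (swap 1 2)) (b.ψ y) := fun y => by
    have e : (swap 1 2 : Perm (Fin 5)) = c5 * swap 0 1 * c5⁻¹ := by decide +kernel
    rw [e, map_mul, map_mul, map_inv]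
    exact ((b.φc_comm y).mul_left (hφa y)).mul_left (b.φc_comm y).inv_left
  have hcore : Commute (b.φ f3a) (b.ψ (swap 0 1 * swap 2 3)) := by
    have h0 := (hV _ mem_fourSet_four _ mem_fourSet_three).map (MulAut.conj (b.φ r5)).toMonoidHom
    have hr : r5⁻¹ = r5 := by decide +kernel
    simp only [MulEquiv.coe_toMonoidHom, MulAut.conj_apply] at h0
    have e1 : b.φ r5 * b.φ (r5 * f3a * r5) * (b.φ r5)⁻¹ = b.φ f3a := by
      rw [← map_inv, hr, ← map_mul, ← map_mul]; congr 1; decide +kernel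
    have e2 : b.φ r5 * b.ψ (r5 * (swap 0 1 * swap 2 3) * r5) * (b.φ r5)⁻¹ =
        b.ψ (swap 0 1 * swap 2 3) := by
      rw [← b.ψ_r, ← map_inv, hr, ← map_mul, ← map_mul]; congr 1; decide +kernel
    rwa [e1, e2] at h0
  have hmid : Commute (b.ψ (swap 2 3)) (b.φ (swap 4 0)) := by
    have eψ : (swap 2 3 : Perm (Fin 5)) = swap 0 1 * (swap 0 1 * swap 2 3) := by decide +kernel
    have eφ : (swap 4 0 : Perm (Fin 5)) = f3a * swap 1 2 := by decide +kernel
    rw [eψ, map_mul]
    refine (hψa _).mul_left ?_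
    rw [eφ, map_mul b.φ]
    exact hcore.symm.mul_right (hφb _).symm
  -- the generators
  let q : Fin 7 → G := ![b.ψ (swap 0 1), b.ψ (swap 1 2), b.ψ (swap 2 3), b.ψ (swap 3 4),
    b.φ (swap 4 0), b.φ (swap 0 1), b.φ (swap 1 2)]
  have h34 : b.ψ (swap 3 4) = b.φ (swap 3 4) := b.ψ_r
  have sqψ : ∀ i j, b.ψ (swap i j) * b.ψ (swap i j) = 1 := fun i j => by
    rw [← map_mul, swap_mul_self, map_one]
  have sqφ : ∀ i j, b.φ (swap i j) * b.φ (swap i j) = 1 := fun i j => by
    rw [← map_mul, swap_mul_self, map_one]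
  have hsq : ∀ i, q i * q i = 1 := by
    intro i; fin_cases i <;> first | exact sqψ _ _ | exact sqφ _ _
  have cψ : ∀ x y : Perm (Fin 5), x * y = y * x → b.ψ x * b.ψ y = b.ψ y * b.ψ x := fun x y e => by
    rw [← map_mul, ← map_mul, e]
  have cφ : ∀ x y : Perm (Fin 5), x * y = y * x → b.φ x * b.φ y = b.φ y * b.φ x := fun x y e => by
    rw [← map_mul, ← map_mul, e]
  have bψ : ∀ x y : Perm (Fin 5), (x * y) ^ 3 = 1 → (b.ψ x * b.ψ y) ^ 3 = 1 := fun x y e => by
    rw [← map_mul, ← map_pow, e, map_one]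
  have bφ : ∀ x y : Perm (Fin 5), (x * y) ^ 3 = 1 → (b.φ x * b.φ y) ^ 3 = 1 := fun x y e => by
    rw [← map_mul, ← map_pow, e, map_one]
  have hc : ∀ i j : Fin 7, (i : ℕ) + 1 < j → q i * q j = q j * q i := by
    intro i j hij
    fin_cases i <;> fin_cases j <;> (try (simp at hij; done)) <;>
      simp only [q, Matrix.cons_val, Matrix.cons_val_zero, Matrix.cons_val_one, Fin.zero_eta,
        Fin.mk_one, Fin.reduceFinMk, h34] <;>
      first
        | exact (hψa _).eq
        | exact (hψb _).eq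
        | exact (hφa _).symm.eq
        | exact (hφb _).symm.eq
        | exact hmid.eq
        | exact cφ _ _ (by decide +kernel)
        | exact cψ _ _ (by decide +kernel)
  have hb : ∀ i j : Fin 7, (i : ℕ) + 1 = j → (q i * q j) ^ 3 = 1 := by
    intro i j hij
    fin_cases i <;> fin_cases j <;> (try (simp at hij; done)) <;>
      simp only [q, Matrix.cons_val, Matrix.cons_val_zero, Matrix.cons_val_one, Fin.zero_eta,
        Fin.mk_one, Fin.reduceFinMk] <;>
      first
        | exact bψ _ _ (by decide +kernel)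
        | exact bφ _ _ (by decide +kernel)
        | (rw [h34]; exact bφ _ _ (by decide +kernel))
  obtain ⟨Φ, hΦ⟩ := CfsgLib.FischerSylow.exists_hom q hsq hc hb
  have g0 : Φ (swap 0 1) = b.ψ (swap 0 1) := hΦ 0
  have g1 : Φ (swap 1 2) = b.ψ (swap 1 2) := hΦ 1
  have g2 : Φ (swap 2 3) = b.ψ (swap 2 3) := hΦ 2
  have g3 : Φ (swap 3 4) = b.φ (swap 3 4) := (hΦ 3).trans h34
  have g4 : Φ (swap 4 5) = b.φ (swap 4 0) := hΦ 4
  have g5 : Φ (swap 5 6) = b.φ (swap 0 1) := hΦ 5
  have g6 : Φ (swap 6 7) = b.φ (swap 1 2) := hΦ 6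
  have gz : Φ (swap 0 1 * swap 1 2) = b.ψ c5 := by rw [map_mul, g0, g1, c5, map_mul]
  have gw : Φ (swap 5 6 * swap 6 7) = b.φ c5 := by rw [map_mul, g5, g6, c5, map_mul]
  have ga : Φ (swap 4 5 * swap 6 7) = b.φ f3a := by rw [map_mul, g4, g6, f3a, map_mul]
  have gb : Φ (swap 4 6 * swap 5 7) = b.φ f3b := by
    have e8 : (swap 4 6 * swap 5 7 : Perm (Fin 8)) =
        swap 4 5 * swap 5 6 * swap 4 5 * (swap 5 6 * swap 6 7 * swap 5 6) := by decide +kernel
    have e5 : f3b =
        swap 4 0 * swap 0 1 * swap 4 0 * (swap 0 1 * swap 1 2 * swap 0 1) := by decide +kernel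
    rw [e8, e5]; simp only [map_mul, g4, g5, g6]
  have hψle : b.ψ.range ≤ Φ.range :=
    range_le_of_swaps _ _ ⟨_, g0⟩ ⟨_, g1⟩ ⟨_, g2⟩ (h34 ▸ ⟨_, g3⟩)
  have hφle : b.φ.range ≤ Φ.range := by
    refine range_le_of_swaps _ _ ⟨_, g5⟩ ⟨_, g6⟩ ?_ ⟨_, g3⟩
    have e : (swap 2 3 : Perm (Fin 5)) =
        swap 3 4 * (swap 4 0 * (swap 0 1 * swap 1 2 * swap 0 1) * swap 4 0) * swap 3 4 := by
      decide +kernel
    refine ⟨swap 3 4 * (swap 4 5 * (swap 5 6 * swap 6 7 * swap 5 6) * swap 4 5) * swap 3 4, ?_⟩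
    rw [e]; simp only [map_mul, g3, g4, g5, g6]
  have hinj : Function.Injective Φ := by
    refine CfsgLib.FischerSylow.injective_of_noncomm (by norm_num) Φ (swap 0 1) (swap 1 2) ?_
    rw [g0, g1, ← map_mul, ← map_mul]
    intro e
    exact absurd (b.ψ_injective e) (by decide +kernel)
  refine ⟨⟨Φ, hinj, b.not_dvd, ?_, ?_, ?_⟩⟩
  · rw [gz, b.ψ_apply]
    refine le_trans b.normz (sup_le ?_ hφle)
    rw [closure_le, Set.insert_subset_iff, Set.singleton_subset_iff]
    rw [← b.ψ_apply, ← b.ψ_apply]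
    exact ⟨hψle ⟨_, rfl⟩, hψle ⟨_, rfl⟩⟩
  · rw [map_mul Φ (swap 0 1 * swap 1 2), gz, gw]
    have hcard : Nat.card (centralizer ({b.ψ c5 * b.φ c5} : Set G)) = 36 := by
      rw [b.ψ_apply]; exact b.card_y
    let S : Subgroup G := centralizer ({b.ψ c5 * b.φ c5} : Set G)
    let F : Fin 36 → S := fun k => ⟨Φ (centWord k), by
      rw [mem_centralizer_singleton_iff]
      have := congrArg Φ (centWord_comm k)
      simpa [map_mul, gz, gw, ← mul_assoc, g0, g1, g5, g6, c5] using this⟩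
    have hF : Function.Bijective F :=
      (Nat.bijective_iff_injective_and_card F).mpr
        ⟨fun i j e => centWord_injective (hinj (congrArg Subtype.val e)),
          by rw [Nat.card_fin]; exact hcard.symm⟩
    intro x hx
    obtain ⟨k, hk⟩ := hF.2 ⟨x, hx⟩
    exact ⟨centWord k, congrArg Subtype.val hk⟩
  · rw [ga, gb]
    refine le_trans ?_ (le_trans (hfour 3 (Or.inl rfl)) (sup_le hφle hψle))
    intro x hx
    rw [mem_centralizer_iff] at hx ⊢
    have ha : Commute (b.φ f3a) x := hx _ (Or.inl rfl)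
    have hb' : Commute (b.φ f3b) x := hx _ (Or.inr rfl)
    rintro _ ⟨y, ⟨y2, ys, y3⟩, rfl⟩
    rcases fourSet_three_cases y (by rw [← sq]; exact y2) y3 ys with e | e | e | e <;> subst e
    · simp
    · exact ha
    · exact hb'
    · rw [map_mul]; exact ha.mul_left hb'

end Base

end CfsgLib.SymEightThree
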