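import Cfsg.Agent.Lib.SymEightThree.TriModel
import Cfsg.Agent.Lib.SelfCentThree.Main
import Cfsg.Agent.Lib.Solvable.CoprimeGeneration
import Mathlib.GroupTheory.SpecificGroups.Alternating

/-!
The centraliser of a four-group of the first component lies in the join of the two components, and
the resulting three possibilities.
-/

set_option autoImplicit false
set_option linter.style.haveILetI false
set_option linter.unusedSectionVars false
set_option maxHeartbeats 1000000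

namespace CfsgLib.SymEightThree

open Subgroup Equiv

universe u

namespace Tri

variable {G : Type u} [Group G]

theorem exists_mul_of_mem_sup {A B : Subgroup G} (h : ∀ a ∈ A, ∀ b ∈ B, Commute a b) {x : G}
    (hx : x ∈ A ⊔ B) : ∃ a ∈ A, ∃ b ∈ B, x = a * b := by
  let H : Subgroup G :=
    { carrier := {x | ∃ a ∈ A, ∃ b ∈ B, x = a * b}
      one_mem' := ⟨1, one_mem A, 1, one_mem B, (one_mul 1).symm⟩
      mul_mem' := by
        rintro _ _ ⟨a, ha, b, hb, rfl⟩ ⟨a', ha', b', hb', rfl⟩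
        exact ⟨a * a', mul_mem ha ha', b * b', mul_mem hb hb', (h a' ha' b hb).symm.mul_mul_mul_comm a b'⟩
      inv_mem' := by
        rintro _ ⟨a, ha, b, hb, rfl⟩
        exact ⟨a⁻¹, inv_mem ha, b⁻¹, inv_mem hb, by rw [mul_inv_rev, (h a ha b hb).inv_inv.eq]⟩ }
  have hle : A ⊔ B ≤ H :=
    sup_le (fun a ha => ⟨a, ha, 1, one_mem B, (mul_one a).symm⟩)
      (fun b hb => ⟨1, one_mem A, b, hb, (one_mul b).symm⟩)
  exact hle hx

theorem zpowers_three {z a : G} (hz : z * z * z = 1) (ha : a ∈ zpowers z) :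
    a = 1 ∨ a = z ∨ a = z⁻¹ := by
  obtain ⟨k, rfl⟩ := mem_zpowers_iff.1 ha
  have h3 : z ^ (3 : ℤ) = 1 := by
    rw [show (3 : ℤ) = ((3 : ℕ) : ℤ) from rfl, zpow_natCast, pow_succ, pow_two]; exact hz
  have hk : k % 3 = 0 ∨ k % 3 = 1 ∨ k % 3 = 2 := by omega
  rw [← Int.emod_add_mul_ediv k 3, zpow_add, zpow_mul, h3, one_zpow, mul_one]
  rcases hk with e | e | e <;> rw [e]
  · exact Or.inl (zpow_zero z)
  · exact Or.inr (Or.inl (zpow_one z))
  · refine Or.inr (Or.inr (eq_inv_of_mul_eq_one_left ?_))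
    rw [zpow_two]; exact hz

theorem mem_normalizer_of_conj_mem [Finite G] {H : Subgroup G} {g : G}
    (h : ∀ x ∈ H, g * x * g⁻¹ ∈ H) : g ∈ normalizer (H : Set G) := by
  rw [mem_normalizer_iff_map_conj_eq]
  refine eq_of_le_of_card_ge ?_ (card_map_of_injective (MulAut.conj g).injective).ge
  rintro _ ⟨x, hx, rfl⟩
  exact h x hx

theorem conj_mem_of_mem_normalizer {H : Subgroup G} {g x : G} (hg : g ∈ normalizer (H : Set G))
    (hx : x ∈ H) : g * x * g⁻¹ ∈ H := (mem_normalizer_iff.1 hg x).1 hx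

theorem card_subtype_comp {A B : Type*} [Group A] [Group B] (f : A →* B)
    (hf : Function.Surjective f) (P : B → Prop) :
    Nat.card {x : A // P (f x)} = Nat.card f.ker * Nat.card {y : B // P y} := by
  rw [← Nat.card_prod]
  refine Nat.card_congr
    { toFun := fun x => (⟨(Function.surjInv hf (f x.1))⁻¹ * x.1, by
          rw [MonoidHom.mem_ker, map_mul, map_inv, Function.surjInv_eq hf, inv_mul_cancel]⟩, ⟨f x.1, x.2⟩)
      invFun := fun p => ⟨Function.surjInv hf p.2.1 * (p.1 : A), by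
        rw [map_mul, Function.surjInv_eq hf, MonoidHom.mem_ker.1 p.1.2, mul_one]; exact p.2.2⟩
      left_inv := fun x => Subtype.ext (mul_inv_cancel_left _ _)
      right_inv := fun p => by
        have e : f (Function.surjInv hf p.2.1 * (p.1 : A)) = p.2.1 := by
          rw [map_mul, Function.surjInv_eq hf, MonoidHom.mem_ker.1 p.1.2, mul_one]
        refine Prod.ext (Subtype.ext ?_) (Subtype.ext e)
        show (Function.surjInv hf (f (Function.surjInv hf p.2.1 * (p.1 : A))))⁻¹ *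
          (Function.surjInv hf p.2.1 * (p.1 : A)) = p.1
        rw [e, inv_mul_cancel_left] }

variable (b : Base G)

theorem conj_c : b.g⁻¹ * b.φ c5 * b.g = b.ψ c5 := (b.ψ_apply c5).symm

theorem conj_σ : b.g⁻¹ * b.φ b.σ * b.g = b.ψ b.σ := (b.ψ_apply b.σ).symm

theorem z_cube : b.ψ c5 * b.ψ c5 * b.ψ c5 = 1 := by
  rw [← map_mul, ← map_mul, c5_facts.1, map_one]

theorem w_cube : b.φ c5 * b.φ c5 * b.φ c5 = 1 := by
  rw [← map_mul, ← map_mul, c5_facts.1, map_one]

theorem z_ne : b.ψ c5 ≠ 1 := fun h => c5_facts.2.1 (b.ψ_injective (by rw [h, map_one]))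

theorem w_ne : b.φ c5 ≠ 1 := fun h => c5_facts.2.1 (b.inj (by rw [h, map_one]))

theorem z_not_mem : b.ψ c5 ∉ b.φ.range := by rw [← conj_c]; exact b.c_not_mem

theorem σ_facts : b.σ * c5 * b.σ = c5⁻¹ ∧ b.σ * b.σ = 1 := by
  rcases b.σ_cases with h | h <;> rw [h]
  · exact ⟨c5_facts.2.2.2.1, c5_facts.2.2.2.2.1⟩
  · exact ⟨c5_facts.2.2.2.2.2.1, c5_facts.2.2.2.2.2.2.1⟩

theorem s_z : b.ψ b.σ * b.ψ c5 * (b.ψ b.σ)⁻¹ = (b.ψ c5)⁻¹ := by
  rw [← map_inv, ← map_inv, ← map_mul, ← map_mul, inv_eq_of_mul_eq_one_right (σ_facts b).2,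
    (σ_facts b).1]

theorem s_sq : b.ψ b.σ * b.ψ b.σ = 1 := by rw [← map_mul, (σ_facts b).2, map_one]

/-- The element of the first component conjugate to `ψ c5`. -/
theorem exists_conj_eq : ∃ u : Perm (Fin 5), (u = c5 ∨ u = c5⁻¹) ∧ b.g⁻¹ * b.ψ c5 * b.g = b.φ u := by
  have hmem : b.ψ c5 ∈ b.φ.range.map (MulAut.conj b.g).toMonoidHom := by
    rw [b.g_range, ← Base.ψ_range]; exact ⟨c5, rfl⟩
  obtain ⟨_, ⟨u, rfl⟩, hu⟩ := hmem
  simp only [MulEquiv.coe_toMonoidHom, MulAut.conj_apply] at hu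
  have e : b.g⁻¹ * b.ψ c5 * b.g = b.φ u := by rw [← hu]; group
  refine ⟨u, eq_c_of_comm_r u ?_ ?_ ?_, e⟩
  · refine b.inj ?_
    rw [map_mul, map_mul, map_one, ← e]
    calc b.g⁻¹ * b.ψ c5 * b.g * (b.g⁻¹ * b.ψ c5 * b.g) * (b.g⁻¹ * b.ψ c5 * b.g)
        = b.g⁻¹ * (b.ψ c5 * b.ψ c5 * b.ψ c5) * b.g := by group
      _ = 1 := by rw [z_cube]; group
  · intro h
    rw [h, map_one, mul_one, mul_inv_cancel] at hu
    exact z_ne b hu.symm
  · refine b.inj ?_
    rw [map_mul, map_mul, ← e]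
    have h : Commute (b.ψ c5) (b.φ r5) := b.ψc_comm r5
    calc b.g⁻¹ * b.ψ c5 * b.g * b.φ r5 = b.g⁻¹ * b.ψ c5 * b.g * (b.g⁻¹ * b.φ r5 * b.g) := by rw [b.g_r]
      _ = b.g⁻¹ * (b.ψ c5 * b.φ r5) * b.g := by group
      _ = b.g⁻¹ * (b.φ r5 * b.ψ c5) * b.g := by rw [h.eq]
      _ = b.g⁻¹ * b.φ r5 * b.g * (b.g⁻¹ * b.ψ c5 * b.g) := by group
      _ = b.φ r5 * (b.g⁻¹ * b.ψ c5 * b.g) := by rw [b.g_r]

theorem zpowers_conj_eq {u : Perm (Fin 5)} (h : u = c5 ∨ u = c5⁻¹) :
    zpowers (b.φ u) = zpowers (b.φ c5) := by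
  rcases h with rfl | rfl
  · rfl
  · rw [map_inv, zpowers_inv]

theorem comm_w (x : Perm (Fin 5)) : Commute (b.φ c5) (b.ψ x) := by
  obtain ⟨u, hu, e⟩ := exists_conj_eq b
  have h : Commute (b.φ u) (b.ψ x) := by
    have h' : Commute (b.ψ c5) (b.φ x) := b.ψc_comm x
    rw [← e, Base.ψ_apply b x]
    show b.g⁻¹ * b.ψ c5 * b.g * (b.g⁻¹ * b.φ x * b.g) = b.g⁻¹ * b.φ x * b.g * (b.g⁻¹ * b.ψ c5 * b.g)
    calc b.g⁻¹ * b.ψ c5 * b.g * (b.g⁻¹ * b.φ x * b.g) = b.g⁻¹ * (b.ψ c5 * b.φ x) * b.g := by group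
      _ = b.g⁻¹ * (b.φ x * b.ψ c5) * b.g := by rw [h'.eq]
      _ = _ := by group
  rcases hu with rfl | rfl
  · exact h
  · rw [map_inv] at h
    simpa using h.inv_left

theorem comm_zw : Commute (b.ψ c5) (b.φ c5) := b.ψc_comm c5

theorem comm_sw : Commute (b.ψ b.σ) (b.φ c5) := b.ψσ_comm c5

theorem exists_of_comm_z {x : G} (h : Commute x (b.ψ c5)) :
    ∃ a ∈ zpowers (b.ψ c5), ∃ u, x = a * b.φ u := by
  have hx : x ∈ zpowers (b.ψ c5) ⊔ b.φ.range := by
    have hc := b.centz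
    rw [conj_c] at hc
    exact hc (mem_centralizer_singleton_iff.2 h)
  obtain ⟨a, ha, _, ⟨u, rfl⟩, rfl⟩ := exists_mul_of_mem_sup (fun a ha c hc => by
    obtain ⟨k, rfl⟩ := mem_zpowers_iff.1 ha
    obtain ⟨u, rfl⟩ := hc
    exact (b.ψc_comm u).zpow_left k) hx
  exact ⟨a, ha, u, rfl⟩

theorem exists_of_comm_w {x : G} (h : Commute x (b.φ c5)) :
    ∃ a ∈ zpowers (b.φ c5), ∃ u, x = a * b.ψ u := by
  obtain ⟨u, hu, e⟩ := exists_conj_eq b
  have hxu : Commute x (b.φ u) := by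
    rcases hu with rfl | rfl
    · exact h
    · rw [map_inv]; exact h.inv_right
  have hc : Commute (b.g * x * b.g⁻¹) (b.ψ c5) := by
    have hψ : b.ψ c5 = b.g * b.φ u * b.g⁻¹ := by rw [← e]; group
    rw [hψ]
    exact Commute.map hxu (MulAut.conj b.g)
  obtain ⟨a, ha, v, hv⟩ := exists_of_comm_z b hc
  refine ⟨b.g⁻¹ * a * b.g, ?_, v, ?_⟩
  · obtain ⟨k, rfl⟩ := mem_zpowers_iff.1 ha
    rw [← zpowers_conj_eq b hu, ← e]
    refine mem_zpowers_iff.2 ⟨k, ?_⟩
    simpa using (map_zpow (MulAut.conj b.g⁻¹) (b.ψ c5) k).symm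
  · rw [Base.ψ_apply]
    calc x = b.g⁻¹ * (b.g * x * b.g⁻¹) * b.g := by group
      _ = b.g⁻¹ * (a * b.φ v) * b.g := by rw [hv]
      _ = _ := by group

theorem w_not_mem : b.φ c5 ∉ b.ψ.range := by
  obtain ⟨u, hu, e⟩ := exists_conj_eq b
  intro h
  have hu' : b.φ u ∈ b.ψ.range := by
    rcases hu with rfl | rfl
    · exact h
    · rw [map_inv]; exact inv_mem h
  obtain ⟨x, hx⟩ := hu'
  refine z_not_mem b ⟨x, ?_⟩
  rw [← e, Base.ψ_apply] at hx
  exact mul_left_cancel (mul_right_cancel hx)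

/-! ### the Sylow three-subgroup -/

/-- The group generated by the two three-cycles. -/
def D : Subgroup G := zpowers (b.ψ c5) ⊔ zpowers (b.φ c5)

theorem exists_of_mem_D {d : G} (hd : d ∈ D b) :
    ∃ x, (x = 1 ∨ x = b.ψ c5 ∨ x = (b.ψ c5)⁻¹) ∧ ∃ y, (y = 1 ∨ y = b.φ c5 ∨ y = (b.φ c5)⁻¹) ∧
      d = x * y := by
  obtain ⟨x, hx, y, hy, rfl⟩ := exists_mul_of_mem_sup (fun x hx y hy => by
    obtain ⟨k, rfl⟩ := mem_zpowers_iff.1 hx
    obtain ⟨l, rfl⟩ := mem_zpowers_iff.1 hy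
    exact (comm_zw b).zpow_zpow k l) hd
  exact ⟨x, zpowers_three (z_cube b) hx, y, zpowers_three (w_cube b) hy, rfl⟩

theorem comm_of_mem_D {d x : G} (hd : d ∈ D b) (hz : Commute x (b.ψ c5)) (hw : Commute x (b.φ c5)) :
    Commute x d := by
  obtain ⟨p, hp, q, hq, rfl⟩ := exists_of_mem_D b hd
  refine Commute.mul_right ?_ ?_
  · rcases hp with rfl | rfl | rfl
    exacts [Commute.one_right x, hz, hz.inv_right]
  · rcases hq with rfl | rfl | rfl
    exacts [Commute.one_right x, hw, hw.inv_right]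

theorem D_cube {d : G} (hd : d ∈ D b) : d ^ 3 = 1 := by
  obtain ⟨p, hp, q, hq, rfl⟩ := exists_of_mem_D b hd
  have hpq : Commute p q := by
    refine comm_of_mem_D b (le_sup_right (a := zpowers (b.ψ c5)) ?_) ?_ ?_
    · rcases hq with rfl | rfl | rfl
      exacts [one_mem _, mem_zpowers _, inv_mem (mem_zpowers _)]
    · rcases hp with rfl | rfl | rfl
      exacts [Commute.one_left _, Commute.refl _, (Commute.refl _).inv_left]
    · rcases hp with rfl | rfl | rfl
      exacts [Commute.one_left _, comm_zw b, (comm_zw b).inv_left]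
  have hp3 : p ^ 3 = 1 := by
    have h : b.ψ c5 ^ 3 = 1 := by rw [pow_succ, pow_two]; exact z_cube b
    rcases hp with rfl | rfl | rfl
    exacts [one_pow 3, h, by rw [inv_pow, h, inv_one]]
  have hq3 : q ^ 3 = 1 := by
    have h : b.φ c5 ^ 3 = 1 := by rw [pow_succ, pow_two]; exact w_cube b
    rcases hq with rfl | rfl | rfl
    exacts [one_pow 3, h, by rw [inv_pow, h, inv_one]]
  rw [hpq.mul_pow, hp3, hq3, one_mul]

theorem card_D [Finite G] : Nat.card (D b) = 9 := by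
  classical
  let f : zpowers (b.ψ c5) × zpowers (b.φ c5) →* G :=
    MonoidHom.noncommCoprod (zpowers (b.ψ c5)).subtype (zpowers (b.φ c5)).subtype (fun m n => by
      obtain ⟨k, hk⟩ := mem_zpowers_iff.1 m.2
      obtain ⟨l, hl⟩ := mem_zpowers_iff.1 n.2
      show Commute (m : G) (n : G)
      rw [← hk, ← hl]
      exact (comm_zw b).zpow_zpow k l)
  have hinj : Function.Injective f := by
    rw [injective_iff_map_eq_one]
    rintro ⟨⟨x, hx⟩, ⟨y, hy⟩⟩ h
    change x * y = 1 at h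
    have hxy : x = y⁻¹ := eq_inv_of_mul_eq_one_left h
    have hx1 : x = 1 := by
      have hyR : x ∈ b.φ.range := by
        rw [hxy]
        exact inv_mem (zpowers_le.2 (⟨c5, rfl⟩ : b.φ c5 ∈ b.φ.range) hy)
      rcases zpowers_three (z_cube b) hx with e | e | e
      · exact e
      · exact absurd (e ▸ hyR) (z_not_mem b)
      · exact absurd (by simpa [e] using hyR) (z_not_mem b)
    subst hx1
    rw [one_mul] at h
    subst h
    rfl
  have hr : f.range = D b := by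
    refine le_antisymm ?_ ?_
    · rintro _ ⟨⟨⟨x, hx⟩, ⟨y, hy⟩⟩, rfl⟩
      exact mul_mem_sup hx hy
    · refine sup_le (fun x hx => ⟨(⟨x, hx⟩, 1), ?_⟩) (fun y hy => ⟨(1, ⟨y, hy⟩), ?_⟩)
      · show x * 1 = x; rw [mul_one]
      · show 1 * y = y; rw [one_mul]
  rw [← hr, ← Nat.card_congr (MonoidHom.ofInjective hinj).toEquiv, Nat.card_prod, Nat.card_zpowers,
    Nat.card_zpowers]
  haveI : Fact (Nat.Prime 3) := ⟨Nat.prime_three⟩
  rw [orderOf_eq_prime (by rw [pow_succ, pow_two]; exact z_cube b) (z_ne b),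
    orderOf_eq_prime (by rw [pow_succ, pow_two]; exact w_cube b) (w_ne b)]

theorem conj_mem_D {a : G} (hz : a * b.ψ c5 * a⁻¹ ∈ D b) (hw : a * b.φ c5 * a⁻¹ ∈ D b) {d : G}
    (hd : d ∈ D b) : a * d * a⁻¹ ∈ D b := by
  have hle : D b ≤ (D b).comap (MulAut.conj a).toMonoidHom :=
    sup_le (zpowers_le.2 hz) (zpowers_le.2 hw)
  exact hle hd

/-- The centralisers of the two other lines. -/
theorem line_facts [Finite G] {x : G}
    (h : Commute x (b.ψ c5 * b.φ c5) ∨ Commute x (b.ψ c5 * (b.φ c5)⁻¹)) :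
    x ^ 36 = 1 ∧ ∀ d ∈ D b, x * d * x⁻¹ ∈ D b := by
  have hc : Subgroup.closure ({b.g⁻¹ * b.φ c5 * b.g, b.φ c5} : Set G) ≤ D b := by
    rw [closure_le, conj_c]
    rintro _ (rfl | rfl)
    exacts [mem_sup_left (mem_zpowers _), mem_sup_right (mem_zpowers _)]
  have main : ∀ x, Commute x (b.ψ c5 * b.φ c5) → x ^ 36 = 1 ∧ ∀ d ∈ D b, x * d * x⁻¹ ∈ D b := by
    intro x hx
    have hC : ∀ c, c ∈ centralizer ({(b.g⁻¹ * b.φ c5 * b.g) * b.φ c5} : Set G) ↔
        Commute c (b.ψ c5 * b.φ c5) := fun c => by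
      rw [conj_c, mem_centralizer_singleton_iff]; rfl
    have hxC := (hC x).2 hx
    refine ⟨?_, fun d hd => ?_⟩
    · rw [← b.card_y]
      exact congrArg Subtype.val
        (pow_card_eq_one' (x := (⟨x, hxC⟩ : centralizer ({(b.g⁻¹ * b.φ c5 * b.g) * b.φ c5} : Set G))))
    · have hdC : Commute (d ^ 2) (b.ψ c5 * b.φ c5) := by
        refine Commute.pow_left ?_ 2
        exact (comm_of_mem_D b hd ((Commute.refl _).mul_left (comm_zw b).symm)
          ((comm_zw b).mul_left (Commute.refl _))).symm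
      have hm := b.sq_y _ (mul_mem (mul_mem hxC ((hC (d ^ 2)).2 hdC)) (inv_mem hxC))
      have e : (x * d ^ 2 * x⁻¹) ^ 2 = x * d * x⁻¹ := by
        rw [conj_pow, ← pow_mul, show 2 * 2 = 3 + 1 from rfl, pow_succ, D_cube b hd, one_mul]
      rw [e] at hm
      exact hc hm
  rcases h with h | h
  · exact main x h
  · set a := b.φ a5 with ha
    have haa : a * a = 1 := by rw [ha, ← map_mul, c5_facts.2.2.2.2.1, map_one]
    have hainv : a⁻¹ = a := inv_eq_of_mul_eq_one_right haa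
    have haz : a * b.ψ c5 * a⁻¹ = b.ψ c5 := by
      rw [ha, ← (b.ψc_comm a5).eq, mul_inv_cancel_right]
    have haw : a * b.φ c5 * a⁻¹ = (b.φ c5)⁻¹ := by
      rw [hainv, ha, ← map_mul, ← map_mul, ← map_inv, c5_facts.2.2.2.1]
    have haD : ∀ d ∈ D b, a * d * a⁻¹ ∈ D b := fun d hd => conj_mem_D b
      (by rw [haz]; exact mem_sup_left (mem_zpowers _))
      (by rw [haw]; exact mem_sup_right (inv_mem (mem_zpowers _))) hd
    have haw' : a * (b.φ c5)⁻¹ * a⁻¹ = b.φ c5 := by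
      rw [← conj_inv, haw, inv_inv]
    have hx' : Commute (a * x * a⁻¹) (b.ψ c5 * b.φ c5) := by
      have := Commute.map h (MulAut.conj a)
      simp only [map_mul, MulAut.conj_apply, haz, haw'] at this
      exact this
    obtain ⟨h36, hn⟩ := main _ hx'
    refine ⟨?_, fun d hd => ?_⟩
    · rwa [conj_pow, conj_eq_one_iff] at h36
    · have h1 := haD _ (hn _ (haD d hd))
      have e : a * (a * x * a⁻¹ * (a * d * a⁻¹) * (a * x * a⁻¹)⁻¹) * a⁻¹ = x * d * x⁻¹ := by
        calc a * (a * x * a⁻¹ * (a * d * a⁻¹) * (a * x * a⁻¹)⁻¹) * a⁻¹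
            = a * a * (x * d * x⁻¹) * (a * a)⁻¹ := by group
          _ = _ := by rw [haa]; group
      rwa [e] at h1

/-! ### the centraliser of the four-group -/

/-- The four-group of permutations fixing the last point. -/
def V4 : Subgroup (Perm (Fin 5)) where
  carrier := {x | InV x}
  one_mem' := Or.inl rfl
  mul_mem' := fun {a c} ha hc => inV_mul a ha c hc
  inv_mem' := fun {a} ha => (inV_inv a ha).symm ▸ ha

/-- Its image. -/
def Vg : Subgroup G := V4.map b.φ

/-- The centraliser of this four-group. -/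
def Q : Subgroup G := centralizer (b.φ '' fourSet 4)

theorem mem_Q {x : G} : x ∈ Q b ↔ ∀ v, InV v → Commute x (b.φ v) := by
  rw [Q, mem_centralizer_iff]
  refine ⟨fun h v hv => (h _ ⟨v, (mem_four4 v).2 hv, rfl⟩).symm, ?_⟩
  rintro h _ ⟨v, hv, rfl⟩
  exact (h v ((mem_four4 v).1 hv)).eq.symm

theorem mem_Vg {x : G} : x ∈ Vg b ↔ ∃ v, InV v ∧ b.φ v = x := Iff.rfl

theorem Vg_le : Vg b ≤ Q b := by
  rintro _ ⟨u, hu, rfl⟩
  rw [mem_Q]
  intro v hv
  refine Commute.map ?_ b.φ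
  calc u * v = (u * v)⁻¹ := (inV_inv _ (inV_mul u hu v hv)).symm
    _ = v * u := by rw [mul_inv_rev, inV_inv u hu, inV_inv v hv]

theorem Vg_comm {x v : G} (hx : x ∈ Q b) (hv : v ∈ Vg b) : Commute x v := by
  obtain ⟨u, hu, rfl⟩ := hv
  exact (mem_Q b).1 hx u hu

theorem Vg_sq {v : G} (hv : v ∈ Vg b) : v * v = 1 := by
  obtain ⟨u, hu, rfl⟩ := hv
  rw [← map_mul, inV_sq u hu, map_one]

theorem card_Vg : Nat.card (Vg b) = 4 := by
  rw [Vg, card_map_of_injective b.inj]
  change Nat.card {x : Perm (Fin 5) // InV x} = 4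
  rw [Nat.card_eq_fintype_card, card_inV]

theorem z_mem : b.ψ c5 ∈ Q b := (mem_Q b).2 fun v _ => b.ψc_comm v

theorem s_mem : b.ψ b.σ ∈ Q b := (mem_Q b).2 fun v _ => b.ψσ_comm v

theorem w_Vg {v : G} (hv : v ∈ Vg b) : b.φ c5 * v * (b.φ c5)⁻¹ ∈ Vg b := by
  obtain ⟨u, hu, rfl⟩ := hv
  exact ⟨_, inV_conj_c u hu, by rw [map_mul, map_mul, map_inv]⟩

theorem w_Q {x : G} (hx : x ∈ Q b) : b.φ c5 * x * (b.φ c5)⁻¹ ∈ Q b := by
  rw [mem_Q]
  intro v hv
  obtain ⟨u, hu, he⟩ : ∃ u, InV u ∧ c5 * u * c5⁻¹ = v := by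
    refine ⟨c5 * (c5 * v * c5⁻¹) * c5⁻¹, inV_conj_c _ (inV_conj_c v hv), ?_⟩
    calc c5 * (c5 * (c5 * v * c5⁻¹) * c5⁻¹) * c5⁻¹ = (c5 * c5 * c5) * v * (c5 * c5 * c5)⁻¹ := by group
      _ = v := by rw [c5_facts.1, one_mul, inv_one, mul_one]
  rw [← he, map_mul, map_mul, map_inv]
  exact Commute.map ((mem_Q b).1 hx u hu) (MulAut.conj (b.φ c5))

theorem mem_Q_comm_z {x : G} (hx : x ∈ Q b) (h : Commute x (b.ψ c5)) :
    ∃ a ∈ zpowers (b.ψ c5), ∃ v ∈ Vg b, x = a * v := by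
  obtain ⟨a, ha, u, rfl⟩ := exists_of_comm_z b h
  refine ⟨a, ha, b.φ u, ?_, rfl⟩
  have hu : b.φ u ∈ Q b := by
    have := mul_mem (inv_mem (zpowers_le.2 (z_mem b) ha)) hx
    rwa [inv_mul_cancel_left] at this
  exact ⟨u, inV_of_comm u (b.inj (by rw [map_mul, map_mul]; exact (mem_Q b).1 hu v1 inV_v.1))
    (b.inj (by rw [map_mul, map_mul]; exact (mem_Q b).1 hu v2 inV_v.2.1)), rfl⟩

theorem z_not_Vg : b.ψ c5 ∉ Vg b := fun ⟨u, _, hu⟩ => z_not_mem b ⟨u, hu⟩

theorem s_not_Vg : b.ψ b.σ ∉ Vg b := by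
  intro h
  have hc := (Vg_comm b (z_mem b) h).symm
  have e := s_z b
  rw [hc.eq, mul_inv_cancel_right] at e
  have h2 : b.ψ c5 * b.ψ c5 = 1 := by nth_rewrite 1 [e]; exact inv_mul_cancel _
  have h3 := z_cube b
  rw [h2, one_mul] at h3
  exact z_ne b h3

/-- The quotient by the four-group. -/
abbrev QV := (Q b) ⧸ (Vg b).subgroupOf (Q b)

instance : ((Vg b).subgroupOf (Q b)).Normal := ⟨fun v hv x => by
  rw [mem_subgroupOf] at hv ⊢
  rw [Subgroup.coe_mul, Subgroup.coe_mul, Subgroup.coe_inv, (Vg_comm b x.2 hv).eq, mul_inv_cancel_right]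
  exact hv⟩

theorem sc [Finite G] : SelfCentThree.SC
    ((QuotientGroup.mk' ((Vg b).subgroupOf (Q b))) ⟨b.ψ c5, z_mem b⟩) := by
  haveI : Fact (Nat.Prime 3) := ⟨Nat.prime_three⟩
  set z : Q b := ⟨b.ψ c5, z_mem b⟩ with hz
  refine ⟨orderOf_eq_prime ?_ ?_, ?_⟩
  · rw [← map_pow, show z ^ 3 = 1 from Subtype.ext (by
      rw [SubmonoidClass.coe_pow, pow_succ, pow_two]; exact z_cube b), map_one]
  · exact fun h => z_not_Vg b (mem_subgroupOf.1 ((QuotientGroup.eq_one_iff _).1 h))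
  · intro y hy
    obtain ⟨x, rfl⟩ := QuotientGroup.mk'_surjective _ y
    have hker : x * z * x⁻¹ * z⁻¹ ∈ (Vg b).subgroupOf (Q b) := by
      refine (QuotientGroup.eq_one_iff _).1 ?_
      change QuotientGroup.mk' ((Vg b).subgroupOf (Q b)) (x * z * x⁻¹ * z⁻¹) = 1
      rw [map_mul, map_mul, map_mul, map_inv, map_inv, hy, mul_inv_cancel_right, mul_inv_cancel]
    set v := (x : G) * b.ψ c5 * (x : G)⁻¹ * (b.ψ c5)⁻¹ with hv
    have hvV : v ∈ Vg b := mem_subgroupOf.1 hker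
    have hcube : (v * b.ψ c5) ^ 3 = 1 := by
      rw [hv, inv_mul_cancel_right, conj_pow, pow_succ (b.ψ c5), pow_two, z_cube, mul_one, mul_inv_cancel]
    rw [(Vg_comm b (z_mem b) hvV).symm.mul_pow, pow_succ (b.ψ c5), pow_two (b.ψ c5), z_cube, mul_one,
      pow_succ, pow_two, Vg_sq b hvV, one_mul] at hcube
    have hcomm : Commute (x : G) (b.ψ c5) := by
      rw [hv, mul_inv_eq_one, mul_inv_eq_iff_eq_mul] at hcube
      exact hcube
    obtain ⟨a, ha, v', hv', e⟩ := mem_Q_comm_z b x.2 hcomm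
    obtain ⟨k, rfl⟩ := mem_zpowers_iff.1 ha
    refine mem_zpowers_iff.2 ⟨k, ?_⟩
    rw [show x = z ^ k * ⟨v', Vg_le b hv'⟩ from Subtype.ext e, map_mul, map_zpow,
      show QuotientGroup.mk' ((Vg b).subgroupOf (Q b)) ⟨v', Vg_le b hv'⟩ = 1 from
        (QuotientGroup.eq_one_iff _).2 (mem_subgroupOf.2 hv'), mul_one]

variable [Finite G]

theorem eq_one_of_cube {R : Subgroup G} (h3 : ¬ 3 ∣ Nat.card R) {x : G} (hx : x ∈ R) (h : x ^ 3 = 1) :
    x = 1 :=
  orderOf_eq_one_iff.mp (Nat.eq_one_of_dvd_coprimes ((Nat.prime_three.coprime_iff_not_dvd).mpr h3)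
    (orderOf_dvd_of_pow_eq_one h) (Subgroup.orderOf_dvd_natCard R hx))

/-- An invariant subgroup of order prime to three between the four-group and its centraliser. -/
theorem inv_three {R : Subgroup G} (hRQ : R ≤ Q b) (hVR : Vg b ≤ R) (h3 : ¬ 3 ∣ Nat.card R)
    (hz : b.ψ c5 ∈ normalizer (R : Set G)) (hw : b.φ c5 ∈ normalizer (R : Set G)) :
    R ≤ Vg b ⊔ (R ⊓ b.ψ.range) ∧ ((∀ u, b.ψ u ∈ R → u = 1) ∨ (∀ u, b.ψ u ∈ R ↔ InV u) ∨
      (∀ u, b.ψ u ∈ R ↔ InW u)) := by
  haveI : Fact (Nat.Prime 3) := ⟨Nat.prime_three⟩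
  have hboth : ∀ x ∈ R, Commute x (b.ψ c5) → Commute x (b.φ c5) → x = 1 := by
    intro x hx hxz hxw
    obtain ⟨a, ha, v, hv, rfl⟩ := mem_Q_comm_z b (hRQ hx) hxz
    have haR : a ∈ R := by
      have := mul_mem hx (inv_mem (hVR hv))
      rwa [mul_inv_cancel_right] at this
    have ha1 : a = 1 := eq_one_of_cube h3 haR (D_cube b (mem_sup_left ha))
    rw [ha1, one_mul] at hxw ⊢
    obtain ⟨u, hu, rfl⟩ := hv
    rw [inV_fix u hu (b.inj (by rw [map_mul, map_mul]; exact hxw.eq)), map_one]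
  have hline : ∀ x ∈ R, (Commute x (b.ψ c5 * b.φ c5) ∨ Commute x (b.ψ c5 * (b.φ c5)⁻¹)) → x = 1 := by
    intro x hx hl
    have hn := (line_facts b hl).2
    have key : ∀ d ∈ D b, d ∈ normalizer (R : Set G) → Commute x d := by
      intro d hd hdN
      have h1 : x * d * x⁻¹ * d⁻¹ ∈ R := by
        rw [mul_assoc, mul_assoc, ← mul_assoc d]
        exact mul_mem hx ((mem_normalizer_iff.1 hdN _).1 (inv_mem hx))
      have h2 := eq_one_of_cube h3 h1 (D_cube b (mul_mem (hn d hd) (inv_mem hd)))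
      rw [mul_inv_eq_one, mul_inv_eq_iff_eq_mul] at h2
      exact h2
    exact hboth x hx (key _ (mem_sup_left (mem_zpowers _)) hz) (key _ (mem_sup_right (mem_zpowers _)) hw)
  refine ⟨?_, ?_⟩
  · refine CfsgLib.Solvable.le_of_lines_centralizer_le (r := 3) (comm_zw b) hz hw h3
      (by rw [pow_succ, pow_two, z_cube]; exact one_mem _)
      (by rw [pow_succ, pow_two, w_cube]; exact one_mem _) (fun i => ?_) ?_
    · intro x hx
      obtain ⟨hxR, hxc⟩ := mem_inf.1 hx
      rw [mem_centralizer_singleton_iff,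
        pow_eq_pow_mod i (show b.φ c5 ^ 3 = 1 by rw [pow_succ, pow_two]; exact w_cube b)] at hxc
      have hi : i % 3 = 0 ∨ i % 3 = 1 ∨ i % 3 = 2 := by omega
      rcases hi with h | h | h <;> rw [h] at hxc
      · rw [pow_zero, mul_one] at hxc
        obtain ⟨a, ha, v, hv, rfl⟩ := mem_Q_comm_z b (hRQ hxR) hxc
        have haR : a ∈ R := by
          have := mul_mem hxR (inv_mem (hVR hv))
          rwa [mul_inv_cancel_right] at this
        rw [eq_one_of_cube h3 haR (D_cube b (mem_sup_left ha)), one_mul]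
        exact mem_sup_left hv
      · rw [pow_one] at hxc
        exact (hline x hxR (Or.inl hxc)).symm ▸ one_mem _
      · have hsq : b.φ c5 ^ 2 = (b.φ c5)⁻¹ := by
          refine eq_inv_of_mul_eq_one_left ?_
          rw [pow_two]; exact w_cube b
        rw [hsq] at hxc
        exact (hline x hxR (Or.inr hxc)).symm ▸ one_mem _
    · intro x hx
      obtain ⟨hxR, hxc⟩ := mem_inf.1 hx
      rw [mem_centralizer_singleton_iff] at hxc
      obtain ⟨a, ha, u, rfl⟩ := exists_of_comm_w b hxc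
      refine mem_sup_right (mem_inf.2 ⟨hxR, ?_⟩)
      have hau : Commute a (b.ψ u) := by
        obtain ⟨k, rfl⟩ := mem_zpowers_iff.1 ha
        exact (comm_w b u).zpow_left k
      have hn : (a * b.ψ u) ^ Nat.card R = 1 :=
        congrArg Subtype.val (pow_card_eq_one' (x := (⟨_, hxR⟩ : R)))
      rw [hau.mul_pow, mul_eq_one_iff_eq_inv] at hn
      have hanR : a ^ Nat.card R ∈ b.ψ.range := by
        rw [hn, ← map_pow]; exact inv_mem ⟨_, rfl⟩
      have ha3 : a ^ 3 = 1 := D_cube b (mem_sup_right ha)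
      have hmem : a ∈ b.ψ.range := by
        rw [← pow_mod_orderOf] at hanR
        rcases zpowers_three (w_cube b) ha with e | e | e
        · rw [e]; exact one_mem _
        all_goals
          exfalso
          refine w_not_mem b ?_
          have ho : orderOf a = 3 := orderOf_eq_prime ha3 (by
            rw [e]; first | exact w_ne b | exact inv_ne_one.2 (w_ne b))
          rw [ho] at hanR
          have hm : Nat.card R % 3 = 1 ∨ Nat.card R % 3 = 2 := by omega
          have haR : a ∈ b.ψ.range := by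
            rcases hm with h | h <;> rw [h] at hanR
            · simpa using hanR
            · have := mul_mem (inv_mem hanR) (b.ψ.range.one_mem)
              have e2 : a = (a ^ 2)⁻¹ := eq_inv_of_mul_eq_one_left (by rw [← pow_succ']; exact ha3)
              rw [e2]
              exact inv_mem hanR
          rw [e] at haR
          first | exact haR | exact inv_mem_iff.1 haR
      exact mul_mem hmem ⟨u, rfl⟩
  · have hrot : ∀ u, b.ψ u ∈ R → b.ψ (rot u) ∈ R := by
      intro u hu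
      rw [rot, map_mul, map_mul, map_inv]
      exact (mem_normalizer_iff.1 hz _).1 hu
    have hbad : ∀ u, b.ψ u ∈ R → ¬ Bad u := by
      rintro u hu ⟨hne, h⟩
      refine hne (b.ψ_injective ((?_ : b.ψ u = 1).trans (map_one _).symm))
      rcases h with h | h | ⟨h6, h2⟩
      · exact eq_one_of_cube h3 hu (by rw [← map_pow, h, map_one])
      · exact hboth _ hu (by rw [show b.ψ c5 = b.ψ c5 from rfl]; exact Commute.map h b.ψ)
          (comm_w b u).symm
      · exfalso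
        refine h2 (b.ψ_injective ((?_ : b.ψ (u ^ 2) = 1).trans (map_one _).symm))
        exact eq_one_of_cube h3 (by rw [map_pow]; exact pow_mem hu 2)
          (by rw [← map_pow, ← pow_mul, h6, map_one])
    have hmul : ∀ u v, b.ψ u ∈ R → b.ψ v ∈ R → b.ψ (u * v) ∈ R := fun u v hu hv => by
      rw [map_mul]; exact mul_mem hu hv
    have hcase : ∀ u, b.ψ u ∈ R → InV u ∨ InW u := fun u hu => by
      have h1 := hrot u hu
      have h2 := hrot _ h1
      exact words u (hbad u hu) (hbad _ (hmul _ _ hu h1)) (hbad _ (hmul _ _ (hmul _ _ hu hu) h1))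
        (hbad _ (hmul _ _ (hmul _ _ (hmul _ _ hu h1) hu) h2))
    by_cases hX : ∀ u, b.ψ u ∈ R → u = 1
    · exact Or.inl hX
    push Not at hX
    obtain ⟨u, hu, hu1⟩ := hX
    have hall : ∀ y, (y = 1 ∨ y = u ∨ y = rot u ∨ y = rot (rot u)) → b.ψ y ∈ R := by
      rintro y (rfl | rfl | rfl | rfl)
      exacts [by rw [map_one]; exact one_mem R, hu, hrot u hu, hrot _ (hrot u hu)]
    right
    rcases hcase u hu with hV | hW
    · refine Or.inl fun y => ⟨fun hy => ?_, fun hy => hall y (orbit_V u hV hu1 y hy)⟩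
      rcases hcase y hy with h | hyW
      · exact h
      by_cases hy1 : y = 1
      · exact Or.inl hy1
      exfalso
      rcases hcase _ (hmul _ _ hu hy) with h | h
      · have := inV_mul _ hV _ h
        rw [← mul_assoc, inV_sq u hV, one_mul] at this
        exact hy1 (not_both y this hyW)
      · have := inW_mul _ h _ hyW
        rw [mul_assoc, inW_sq y hyW, mul_one] at this
        exact hu1 (not_both u hV this)
    · refine Or.inr fun y => ⟨fun hy => ?_, fun hy => hall y (orbit_W u hW hu1 y hy)⟩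
      rcases hcase y hy with hyV | h
      swap
      · exact h
      by_cases hy1 : y = 1
      · subst hy1
        show InV (r5 * 1 * r5)
        rw [mul_one, c5_facts.2.2.2.2.2.2.2.2.2]
        exact Or.inl rfl
      exfalso
      rcases hcase _ (hmul _ _ hu hy) with h | h
      · have := inV_mul _ h _ hyV
        rw [mul_assoc, inV_sq y hyV, mul_one] at this
        exact hu1 (not_both u this hW)
      · have := inW_mul _ hW _ h
        rw [← mul_assoc, inW_sq u hW, one_mul] at this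
        exact hy1 (not_both y hyV this)

/-- The first type: a normal three-complement. -/
theorem typeI (h : SelfCentThree.TypeI (QV b)) :
    ∃ R : Subgroup G, R ≤ Q b ∧ Vg b ≤ R ∧ ¬ 3 ∣ Nat.card R ∧ b.ψ c5 ∈ normalizer (R : Set G) ∧
      b.φ c5 ∈ normalizer (R : Set G) ∧ b.ψ b.σ ∈ normalizer (R : Set G) ∧
      Q b ≤ R ⊔ Subgroup.closure {b.ψ c5, b.ψ b.σ} := by
  obtain ⟨N, hN, -, hcop, hquot⟩ := h
  haveI : Fact (Nat.Prime 3) := ⟨Nat.prime_three⟩
  set m : Q b →* QV b := QuotientGroup.mk' _ with hm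
  set q : Q b →* QV b ⧸ N := (QuotientGroup.mk' N).comp m with hq
  have hqsurj : Function.Surjective q :=
    (QuotientGroup.mk'_surjective N).comp (QuotientGroup.mk'_surjective _)
  set R := q.ker.map (Q b).subtype with hR
  have hRmem : ∀ {x : G}, x ∈ R ↔ ∃ hx : x ∈ Q b, q ⟨x, hx⟩ = 1 := fun {x} => by
    constructor
    · rintro ⟨y, hy, rfl⟩
      exact ⟨y.2, hy⟩
    · rintro ⟨hx, h⟩
      exact ⟨⟨x, hx⟩, h, rfl⟩
  have hcardR : Nat.card R = 4 * Nat.card N := by
    rw [hR, card_map_of_injective (Q b).subtype_injective,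
      show q.ker = N.comap m from by rw [hq, ← MonoidHom.comap_ker, QuotientGroup.ker_mk'],
      ← card_Vg b, ← Nat.card_congr (subgroupOfEquivOfLe (Vg_le b)).toEquiv]
    have hc := card_subtype_comp m (QuotientGroup.mk'_surjective _) (fun y => y ∈ N)
    rw [hm, QuotientGroup.ker_mk'] at hc
    exact hc
  have hR3 : ¬ 3 ∣ Nat.card R := by
    rw [hcardR]
    intro hd
    rcases (Nat.prime_three.dvd_mul).1 hd with h | h
    · norm_num at h
    · exact absurd (Nat.eq_one_of_dvd_coprimes hcop h dvd_rfl) (by norm_num)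
  have hRQ : R ≤ Q b := fun x hx => (hRmem.1 hx).1
  have hQN : ∀ {g : G}, g ∈ Q b → g ∈ normalizer (R : Set G) := fun {g} hg => by
    refine mem_normalizer_of_conj_mem fun x hx => ?_
    obtain ⟨hxQ, hx1⟩ := hRmem.1 hx
    refine hRmem.2 ⟨mul_mem (mul_mem hg hxQ) (inv_mem hg), ?_⟩
    show q (⟨g, hg⟩ * ⟨x, hxQ⟩ * ⟨g, hg⟩⁻¹) = 1
    rw [map_mul, map_mul, map_inv, hx1, mul_one, mul_inv_cancel]
  set a := q ⟨b.ψ c5, z_mem b⟩ with ha
  have ha3 : a * a * a = 1 := by
    rw [ha, ← map_mul, ← map_mul]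
    exact (congrArg q (Subtype.ext (z_cube b))).trans (map_one q)
  have ha1 : a ≠ 1 := fun h => z_ne b (eq_one_of_cube hR3 (hRmem.2 ⟨z_mem b, h⟩)
    (by rw [pow_succ, pow_two]; exact z_cube b))
  have hsix : Nat.card (QV b ⧸ N) ≤ 6 := by
    rcases hquot with h | ⟨⟨e⟩⟩
    · omega
    · rw [Nat.card_congr e.toEquiv, Nat.card_eq_fintype_card, Fintype.card_perm, Fintype.card_fin]
      decide
  refine ⟨R, hRQ, fun v hv => hRmem.2 ⟨Vg_le b hv, ?_⟩, hR3, hQN (z_mem b), ?_, hQN (s_mem b), ?_⟩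
  · show QuotientGroup.mk' N (m ⟨v, Vg_le b hv⟩) = 1
    rw [show m ⟨v, Vg_le b hv⟩ = 1 from (QuotientGroup.eq_one_iff _).2 (mem_subgroupOf.2 hv), map_one]
  · refine mem_normalizer_of_conj_mem fun x hx => ?_
    set w := b.φ c5 with hw
    have hy : w * x * w⁻¹ ∈ Q b := w_Q b (hRQ hx)
    set z := b.ψ c5 with hzdef
    have hy' : z * (w * x * w⁻¹) * z⁻¹ * (w * x * w⁻¹)⁻¹ =
        w * (z * x * z⁻¹ * x⁻¹) * w⁻¹ := by
      have e : z * w = w * z := (comm_zw b).eq
      calc z * (w * x * w⁻¹) * z⁻¹ * (w * x * w⁻¹)⁻¹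
          = (z * w) * x * (z * w)⁻¹ * w * x⁻¹ * w⁻¹ := by group
        _ = (w * z) * x * (w * z)⁻¹ * w * x⁻¹ * w⁻¹ := by rw [e]
        _ = _ := by group
    have hpow : ∀ y ∈ R, ∀ h : w * y * w⁻¹ ∈ Q b, q ⟨_, h⟩ ^ Nat.card R = 1 := fun y hy h => by
      rw [← map_pow]
      refine (congrArg q (Subtype.ext ?_)).trans (map_one q)
      rw [SubmonoidClass.coe_pow]
      show (w * y * w⁻¹) ^ Nat.card R = 1
      rw [conj_pow, show y ^ Nat.card R = 1 from
        congrArg Subtype.val (pow_card_eq_one' (x := (⟨y, hy⟩ : R))), mul_one, mul_inv_cancel]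
    refine hRmem.2 ⟨hy, ?_⟩
    set t := q ⟨_, hy⟩ with ht
    have htR := hpow x hx hy
    rcases hquot with hq3 | ⟨⟨e⟩⟩
    · have ht3 : t ^ 3 = 1 := hq3 ▸ pow_card_eq_one'
      exact orderOf_eq_one_iff.1 (Nat.eq_one_of_dvd_coprimes
        ((Nat.prime_three.coprime_iff_not_dvd).mpr hR3) (orderOf_dvd_of_pow_eq_one ht3)
        (orderOf_dvd_of_pow_eq_one htR))
    · have hsq : ∀ p : QV b ⧸ N, p ^ Nat.card R = 1 → p * p = 1 := by
        intro p hp
        have h6 : p ^ 6 = 1 := by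
          have hc : Nat.card (QV b ⧸ N) = 6 := by
            rw [Nat.card_congr e.toEquiv, Nat.card_eq_fintype_card, Fintype.card_perm, Fintype.card_fin]
            rfl
          exact hc ▸ pow_card_eq_one'
        have hd : orderOf p ∣ 6 := orderOf_dvd_of_pow_eq_one h6
        have hd' : orderOf p ∣ Nat.card R := orderOf_dvd_of_pow_eq_one hp
        have hco : Nat.Coprime (orderOf p) 3 :=
          ((Nat.prime_three.coprime_iff_not_dvd).2 fun h3 => hR3 (h3.trans hd')).symm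
        have h2 : orderOf p ∣ 2 := hco.dvd_of_dvd_mul_right (show orderOf p ∣ 2 * 3 from hd)
        rw [← pow_two]
        exact orderOf_dvd_iff_pow_eq_one.1 h2
      have hxz : z * x * z⁻¹ * x⁻¹ ∈ R :=
        mul_mem (conj_mem_of_mem_normalizer (hQN (z_mem b)) hx) (inv_mem hx)
      have hc2 : (a * t * a⁻¹ * t⁻¹) * (a * t * a⁻¹ * t⁻¹) = 1 := by
        refine hsq _ ?_
        have hmem : w * (z * x * z⁻¹ * x⁻¹) * w⁻¹ ∈ Q b := w_Q b (hRQ hxz)
        have heq : a * t * a⁻¹ * t⁻¹ = q ⟨_, hmem⟩ := by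
          have h1 : q ((⟨z, z_mem b⟩ : Q b) * ⟨_, hy⟩ * (⟨z, z_mem b⟩ : Q b)⁻¹ * (⟨_, hy⟩ : Q b)⁻¹) =
              a * t * a⁻¹ * t⁻¹ := by simp only [map_mul, map_inv]; rfl
          rw [← h1]
          exact congrArg q (Subtype.ext hy')
        rw [heq]
        exact hpow _ hxz hmem
      refine e.injective ?_
      rw [map_one]
      exact s3_center (e a) (by rw [← map_mul, ← map_mul, ha3, map_one])
        (fun h => ha1 (e.injective (h.trans (map_one e).symm))) (e t)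
        (by rw [← map_mul, hsq t htR, map_one])
        (by simpa only [map_mul, map_inv, map_one] using congrArg e hc2)
  · set H := Subgroup.closure ({b.ψ c5, b.ψ b.σ} : Set G) with hH
    have hzH : b.ψ c5 ∈ H := Subgroup.subset_closure (Or.inl rfl)
    have hsH : b.ψ b.σ ∈ H := Subgroup.subset_closure (Or.inr rfl)
    set I := (H.subgroupOf (Q b)).map q with hI
    have haI : a ∈ I := ⟨⟨_, z_mem b⟩, hzH, rfl⟩
    set c := q ⟨b.ψ b.σ, s_mem b⟩ with hc
    have hcI : c ∈ I := ⟨⟨_, s_mem b⟩, hsH, rfl⟩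
    have hca : c * a * c⁻¹ = a⁻¹ := by
      rw [hc, ha, ← map_inv, ← map_inv, ← map_mul, ← map_mul]
      exact congrArg q (Subtype.ext (s_z b))
    have hcc : c * c = 1 := by
      rw [hc, ← map_mul]
      exact (congrArg q (Subtype.ext (s_sq b))).trans (map_one q)
    have hc1 : c ≠ 1 := fun h => by
      rw [h, one_mul, inv_one, mul_one] at hca
      have h2 : a * a = 1 := by nth_rewrite 1 [hca]; exact inv_mul_cancel a
      rw [h2, one_mul] at ha3
      exact ha1 ha3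
    haveI : Fact (Nat.Prime 2) := ⟨Nat.prime_two⟩
    have h3I : 3 ∣ Nat.card I := by
      rw [← orderOf_eq_prime (p := 3) (x := a) (by rw [pow_succ, pow_two]; exact ha3) ha1]
      exact Subgroup.orderOf_dvd_natCard I haI
    have h2I : 2 ∣ Nat.card I := by
      rw [← orderOf_eq_prime (p := 2) (x := c) (by rw [pow_two]; exact hcc) hc1]
      exact Subgroup.orderOf_dvd_natCard I hcI
    have hIle : Nat.card I ≤ Nat.card (QV b ⧸ N) := Nat.card_le_card_of_injective _ I.subtype_injective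
    have hItop : I = ⊤ := by
      refine eq_top_of_le_card I ?_
      have : 6 ∣ Nat.card I := Nat.Coprime.mul_dvd_of_dvd_of_dvd (by norm_num) h2I h3I
      have := Nat.le_of_dvd Nat.card_pos this
      omega
    intro x hx
    obtain ⟨y, hy, hyx⟩ : q ⟨x, hx⟩ ∈ I := hItop ▸ mem_top _
    have hmem : x * (y : G)⁻¹ ∈ R := hRmem.2 ⟨mul_mem hx (inv_mem y.2), by
      show q (⟨x, hx⟩ * y⁻¹) = 1
      rw [map_mul, map_inv, hyx, mul_inv_cancel]⟩
    have := mul_mem (mem_sup_left (T := H) hmem) (mem_sup_right (S := R) (show (y : G) ∈ H from hy))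
    rwa [inv_mul_cancel_right] at this

/-- An element of `D` centralising an element of order `p` modulo the four-group. -/
theorem exists_fixed {B : Type*} [Group B] [Finite B] (f : Q b →* B) (hf : Function.Surjective f)
    (hker : ∀ x : Q b, f x = 1 ↔ (x : G) ∈ Vg b) {p : ℕ} {n : ℕ}
    (hn : Nat.card {y : B // y ≠ 1 ∧ y ^ p = 1} = n) (h9 : ¬ 9 ∣ 4 * n) :
    ∃ x : Q b, f x ≠ 1 ∧ f x ^ p = 1 ∧
      (Commute (x : G) (b.ψ c5) ∨ Commute (x : G) (b.φ c5) ∨
        Commute (x : G) (b.ψ c5 * b.φ c5) ∨ Commute (x : G) (b.ψ c5 * (b.φ c5)⁻¹)) := by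
  classical
  set S := {x : Q b // f x ≠ 1 ∧ f x ^ p = 1} with hS
  have hcard : Nat.card S = 4 * n := by
    have hk : f.ker = (Vg b).subgroupOf (Q b) :=
      Subgroup.ext fun x => by rw [MonoidHom.mem_ker, hker, mem_subgroupOf]
    rw [hS, card_subtype_comp f hf (fun y => y ≠ 1 ∧ y ^ p = 1), hn, hk,
      Nat.card_congr (subgroupOfEquivOfLe (Vg_le b)).toEquiv, card_Vg]
  have hQD : ∀ d ∈ D b, ∀ x ∈ Q b, d * x * d⁻¹ ∈ Q b := by
    intro d hd x hx
    have hle : D b ≤ normalizer (Q b : Set G) :=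
      sup_le (zpowers_le.2 (Subgroup.le_normalizer (z_mem b)))
        (zpowers_le.2 (mem_normalizer_of_conj_mem fun x => w_Q b))
    exact conj_mem_of_mem_normalizer (hle hd) hx
  have hVD : D b ≤ normalizer (Vg b : Set G) :=
    sup_le (zpowers_le.2 (mem_normalizer_of_conj_mem fun v hv => by
        rw [(Vg_comm b (z_mem b) hv).eq, mul_inv_cancel_right]; exact hv))
      (zpowers_le.2 (mem_normalizer_of_conj_mem fun v => w_Vg b))
  have hP : ∀ d ∈ D b, ∀ x : S, ∀ h : d * (x.1 : G) * d⁻¹ ∈ Q b,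
      f ⟨_, h⟩ ≠ 1 ∧ f ⟨_, h⟩ ^ p = 1 := by
    intro d hd x h
    obtain ⟨h1, h2⟩ := x.2
    refine ⟨fun e => h1 ((hker _).2 ?_), ?_⟩
    · exact (mem_normalizer_iff.1 (hVD hd) _).2 ((hker _).1 e)
    · rw [← map_pow, hker] at h2
      rw [← map_pow, hker, SubmonoidClass.coe_pow]
      show (d * (x.1 : G) * d⁻¹) ^ p ∈ Vg b
      rw [conj_pow]
      exact conj_mem_of_mem_normalizer (hVD hd) (by rwa [SubmonoidClass.coe_pow] at h2)
  letI act : MulAction (D b) S :=
    { smul := fun d x => ⟨⟨(d : G) * (x.1 : G) * (d : G)⁻¹, hQD _ d.2 _ x.1.2⟩, hP _ d.2 x _⟩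
      one_smul := fun x => Subtype.ext (Subtype.ext (by
        show (1 : G) * (x.1 : G) * (1 : G)⁻¹ = _
        group))
      mul_smul := fun d e x => Subtype.ext (Subtype.ext (by
        show ((d : G) * e) * (x.1 : G) * ((d : G) * e)⁻¹ = (d : G) * ((e : G) * x.1 * (e : G)⁻¹) * (d : G)⁻¹
        group)) }
  obtain ⟨x, d, hd1, hdx⟩ : ∃ x : S, ∃ d : D b, d ≠ 1 ∧ d • x = x := by
    by_contra hno
    push Not at hno
    have hst : ∀ x : S, MulAction.stabilizer (D b) x = ⊥ := fun x =>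
      (Subgroup.eq_bot_iff_forall _).2 fun d hd => by
        by_contra h
        exact hno x d h hd
    refine h9 ?_
    rw [← hcard]
    haveI := Fintype.ofFinite (MulAction.orbitRel.Quotient (D b) S)
    rw [Nat.card_congr (MulAction.selfEquivSigmaOrbitsQuotientStabilizer (D b) S), Nat.card_sigma]
    refine Finset.dvd_sum fun ω _ => ?_
    rw [← Subgroup.index, hst, Subgroup.index_bot, card_D]
  refine ⟨x.1, x.2.1, x.2.2, ?_⟩
  have hc : Commute (d : G) (x.1 : G) :=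
    mul_inv_eq_iff_eq_mul.1 (congrArg (fun y : S => ((y.1 : Q b) : G)) hdx)
  obtain ⟨u, hu, v, hv, he⟩ := exists_of_mem_D b d.2
  have hd' : (d : G) ≠ 1 := fun e => hd1 (Subtype.ext e)
  rw [he] at hc hd'
  have hinv : ∀ {c : G}, Commute c (x.1 : G) → Commute (x.1 : G) c⁻¹ := fun h => h.symm.inv_right
  rcases hu with rfl | rfl | rfl <;> rcases hv with rfl | rfl | rfl
  · exact absurd (one_mul 1) hd'
  · exact Or.inr (Or.inl (by simpa using hc.symm))
  · exact Or.inr (Or.inl (by simpa using hinv hc))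
  · exact Or.inl (by simpa using hc.symm)
  · exact Or.inr (Or.inr (Or.inl hc.symm))
  · exact Or.inr (Or.inr (Or.inr hc.symm))
  · exact Or.inl (by simpa using hinv hc)
  · refine Or.inr (Or.inr (Or.inr ?_))
    have e : ((b.ψ c5)⁻¹ * b.φ c5)⁻¹ = b.ψ c5 * (b.φ c5)⁻¹ := by
      rw [mul_inv_rev, inv_inv, (comm_zw b).inv_right.eq]
    exact e ▸ hinv hc
  · refine Or.inr (Or.inr (Or.inl ?_))
    have e : ((b.ψ c5)⁻¹ * (b.φ c5)⁻¹)⁻¹ = b.ψ c5 * b.φ c5 := by
      rw [mul_inv_rev, inv_inv, inv_inv, (comm_zw b).eq]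
    exact e ▸ hinv hc

theorem not_dvd_of_cases {x : G} {p : ℕ} (hp : p = 5 ∨ p = 7) (hx : x ∈ Q b) (h1 : x ∉ Vg b)
    (hxp : x ^ p ∈ Vg b) :
    ¬ Commute x (b.ψ c5) ∧ ¬ Commute x (b.ψ c5 * b.φ c5) ∧ ¬ Commute x (b.ψ c5 * (b.φ c5)⁻¹) ∧
      (p = 7 → ¬ Commute x (b.φ c5)) := by
  have hdvd : p ∣ orderOf x := by
    have hp' : p.Prime := by rcases hp with rfl | rfl <;> norm_num
    have h2p : orderOf x ∣ p * 2 := orderOf_dvd_of_pow_eq_one (by
      rw [pow_mul, pow_two]; exact Vg_sq b hxp)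
    by_contra hn
    have h2 : x ^ 2 = 1 := orderOf_dvd_iff_pow_eq_one.1
      ((hp'.coprime_iff_not_dvd.2 hn).symm.dvd_of_dvd_mul_left h2p)
    refine h1 ?_
    rcases hp with rfl | rfl
    · rwa [show x ^ 5 = x by rw [show (5 : ℕ) = 2 * 2 + 1 from rfl, pow_succ, pow_mul, h2, one_pow, one_mul]]
        at hxp
    · rwa [show x ^ 7 = x by rw [show (7 : ℕ) = 2 * 3 + 1 from rfl, pow_succ, pow_mul, h2, one_pow, one_mul]]
        at hxp
  refine ⟨fun h => ?_, fun h => ?_, fun h => ?_, fun h7 h => ?_⟩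
  · obtain ⟨a, ha, v, hv, rfl⟩ := mem_Q_comm_z b hx h
    have h6 : (a * v) ^ 6 = 1 := by
      rw [((Vg_comm b (zpowers_le.2 (z_mem b) ha) hv)).mul_pow, show (6 : ℕ) = 3 * 2 from rfl, pow_mul,
        D_cube b (mem_sup_left ha), one_pow, pow_mul' v, pow_two, Vg_sq b hv, one_pow, one_mul]
    have := hdvd.trans (orderOf_dvd_of_pow_eq_one h6)
    rcases hp with rfl | rfl <;> norm_num at this
  · have := hdvd.trans (orderOf_dvd_of_pow_eq_one (line_facts b (Or.inl h)).1)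
    rcases hp with rfl | rfl <;> norm_num at this
  · have := hdvd.trans (orderOf_dvd_of_pow_eq_one (line_facts b (Or.inr h)).1)
    rcases hp with rfl | rfl <;> norm_num at this
  · obtain ⟨a, ha, u, rfl⟩ := exists_of_comm_w b h
    have hau : Commute a (b.ψ u) := by
      obtain ⟨k, rfl⟩ := mem_zpowers_iff.1 ha
      exact (comm_w b u).zpow_left k
    have hu : u ^ 120 = 1 := by
      have hc : Fintype.card (Perm (Fin 5)) = 120 := by rw [Fintype.card_perm, Fintype.card_fin]; rfl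
      exact hc ▸ pow_card_eq_one
    have h120 : (a * b.ψ u) ^ 120 = 1 := by
      rw [hau.mul_pow, ← map_pow, hu, map_one, mul_one, show (120 : ℕ) = 3 * 40 from rfl, pow_mul,
        D_cube b (mem_sup_right ha), one_pow]
    have := hdvd.trans (orderOf_dvd_of_pow_eq_one h120)
    rw [h7] at this
    norm_num at this

/-- The quotient is not the linear group of order 168. -/
theorem not_seven : ¬ Nonempty (QV b ≃* SelfCentThree.L7) := by
  rintro ⟨e⟩
  set f : Q b →* SelfCentThree.L7 := e.toMonoidHom.comp (QuotientGroup.mk' _) with hf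
  have hker : ∀ x : Q b, f x = 1 ↔ (x : G) ∈ Vg b := fun x => by
    show e (QuotientGroup.mk' _ x) = 1 ↔ _
    rw [MulEquiv.map_eq_one_iff]
    exact (QuotientGroup.eq_one_iff x).trans mem_subgroupOf
  have hn : Nat.card {y : SelfCentThree.L7 // y ≠ 1 ∧ y ^ 7 = 1} = 48 := by
    set π := QuotientGroup.mk' (Subgroup.center (Matrix.SpecialLinearGroup (Fin 2) (ZMod 7))) with hπ
    have h := card_subtype_comp π (QuotientGroup.mk'_surjective _) (fun y => y ≠ 1 ∧ y ^ 7 = 1)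
    have hZ : Nat.card π.ker = 2 := by
      rw [hπ, QuotientGroup.ker_mk',
        Nat.card_congr (Equiv.subtypeEquivRight SelfCentThree.mem_center_iff_sl),
        Nat.card_eq_fintype_card]
      decide +kernel
    have hS : Nat.card {x // π x ≠ 1 ∧ π x ^ 7 = 1} = 96 := by
      rw [Nat.card_congr (Equiv.subtypeEquivRight (q := SevenSL) fun A => ?_), Nat.card_eq_fintype_card,
        sl_order_seven]
      refine and_congr (not_congr (SelfCentThree.mk_eq_one_iff A)) ?_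
      rw [← map_pow, show A ^ 7 = A * A * A * A * A * A * A by
        simp only [pow_succ, pow_zero, one_mul]]
      exact SelfCentThree.mk_eq_one_iff _
    rw [hS, hZ] at h
    exact (mul_left_cancel₀ (by norm_num : (2 : ℕ) ≠ 0) h).symm
  obtain ⟨x, h1, h2, h⟩ := exists_fixed b f
    (e.surjective.comp (QuotientGroup.mk'_surjective _)) hker hn (by norm_num)
  rw [← map_pow, hker, SubmonoidClass.coe_pow] at h2
  obtain ⟨n1, n2, n3, n4⟩ := not_dvd_of_cases b (Or.inr rfl) x.2 (fun e => h1 ((hker x).2 e)) h2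
  rcases h with h | h | h | h
  exacts [n1 h, n4 rfl h, n2 h, n3 h]

/-- In the second type the quotient is the alternating group of degree five. -/
theorem typeII (h : SelfCentThree.TypeII (QV b)) :
    ∃ f : Q b →* SelfCentThree.A5, Function.Surjective f ∧ ∀ x : Q b, f x = 1 ↔ (x : G) ∈ Vg b := by
  classical
  obtain ⟨N, hN, hNc, hN2, ⟨e⟩⟩ := h
  haveI : IsSimpleGroup SelfCentThree.A5 := alternatingGroup.isSimpleGroup (by simp)
  set m : Q b →* QV b := QuotientGroup.mk' _ with hm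
  set g : QV b →* SelfCentThree.A5 := e.toMonoidHom.comp (QuotientGroup.mk' N) with hg
  have hgsurj : Function.Surjective g := e.surjective.comp (QuotientGroup.mk'_surjective N)
  have hgker : ∀ y, g y = 1 ↔ y ∈ N := fun y => by
    show e (QuotientGroup.mk' N y) = 1 ↔ _
    rw [MulEquiv.map_eq_one_iff]
    exact QuotientGroup.eq_one_iff y
  refine ⟨g.comp m, hgsurj.comp (QuotientGroup.mk'_surjective _), ?_⟩
  suffices hbot : N = ⊥ by
    intro x
    show g (m x) = 1 ↔ _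
    rw [hgker, hbot, Subgroup.mem_bot]
    exact (QuotientGroup.eq_one_iff x).trans mem_subgroupOf
  set R := (N.comap m).map (Q b).subtype with hR
  have hRmem : ∀ {x : G}, x ∈ R ↔ ∃ hx : x ∈ Q b, m ⟨x, hx⟩ ∈ N := fun {x} => by
    constructor
    · rintro ⟨y, hy, rfl⟩
      exact ⟨y.2, hy⟩
    · rintro ⟨hx, h⟩
      exact ⟨⟨x, hx⟩, h, rfl⟩
  have h4 : ∀ x ∈ R, x ^ 4 = 1 := by
    intro x hx
    obtain ⟨hxQ, hxN⟩ := hRmem.1 hx
    have hV : (x * x : G) ∈ Vg b := by
      have := hN2 _ hxN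
      rw [← map_pow] at this
      have := mem_subgroupOf.1 ((QuotientGroup.eq_one_iff _).1 this)
      rwa [SubmonoidClass.coe_pow, pow_two] at this
    rw [show (4 : ℕ) = 2 * 2 from rfl, pow_mul, pow_two, pow_two]
    exact Vg_sq b hV
  have hR3 : ¬ 3 ∣ Nat.card R := by
    intro hd
    haveI : Fact (Nat.Prime 3) := ⟨Nat.prime_three⟩
    obtain ⟨⟨x, hx⟩, hxo⟩ := exists_prime_orderOf_dvd_card' 3 hd
    rw [Subgroup.orderOf_mk] at hxo
    have := orderOf_dvd_of_pow_eq_one (h4 x hx)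
    rw [hxo] at this
    norm_num at this
  have hRQ : R ≤ Q b := fun x hx => (hRmem.1 hx).1
  have hQN : ∀ {g : G}, g ∈ Q b → g ∈ normalizer (R : Set G) := fun {g} hg => by
    refine mem_normalizer_of_conj_mem fun x hx => ?_
    obtain ⟨hxQ, hx1⟩ := hRmem.1 hx
    refine hRmem.2 ⟨mul_mem (mul_mem hg hxQ) (inv_mem hg), ?_⟩
    show m (⟨g, hg⟩ * ⟨x, hxQ⟩ * ⟨g, hg⟩⁻¹) ∈ N
    rw [map_mul, map_mul, map_inv]
    exact hN.conj_mem _ hx1 _
  have hwR : b.φ c5 ∈ normalizer (R : Set G) := by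
    have hw : b.φ c5 ∈ normalizer (Q b : Set G) := mem_normalizer_of_conj_mem fun x => w_Q b
    let R' : Subgroup (Q b) := (R.map (MulAut.conj (b.φ c5)).toMonoidHom).subgroupOf (Q b)
    have hR' : R'.Normal := ⟨fun n hn y => by
      obtain ⟨x, hx, he⟩ := mem_subgroupOf.1 hn
      have hy' : (b.φ c5)⁻¹ * (y : G) * b.φ c5 ∈ Q b := by
        have := conj_mem_of_mem_normalizer (inv_mem hw) y.2
        simpa using this
      refine mem_subgroupOf.2 ⟨((b.φ c5)⁻¹ * (y : G) * b.φ c5) * x * ((b.φ c5)⁻¹ * (y : G) * b.φ c5)⁻¹,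
        conj_mem_of_mem_normalizer (hQN hy') hx, ?_⟩
      simp only [MulEquiv.coe_toMonoidHom, MulAut.conj_apply, Subgroup.coe_mul, Subgroup.coe_inv] at he ⊢
      rw [← he]
      group⟩
    refine mem_normalizer_of_conj_mem fun x hx => hRmem.2 ⟨w_Q b (hRQ hx), ?_⟩
    have hmap : (R'.map (g.comp m)).Normal := hR'.map _ (hgsurj.comp (QuotientGroup.mk'_surjective _))
    rcases hmap.eq_bot_or_eq_top with h0 | h0
    · rw [← hgker]
      have : g (m ⟨_, w_Q b (hRQ hx)⟩) ∈ R'.map (g.comp m) :=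
        ⟨⟨_, w_Q b (hRQ hx)⟩, mem_subgroupOf.2 ⟨x, hx, rfl⟩, rfl⟩
      rwa [h0, Subgroup.mem_bot] at this
    · exfalso
      have hex : ∀ y ∈ R'.map (g.comp m), y ^ 4 = 1 := by
        rintro _ ⟨y, hy, rfl⟩
        obtain ⟨x', hx', he⟩ := mem_subgroupOf.1 hy
        rw [← map_pow]
        refine (congrArg _ (Subtype.ext ?_)).trans (map_one _)
        rw [SubmonoidClass.coe_pow, ← he]
        simp [conj_pow, h4 x' hx']
      have hex3 : ∃ y : SelfCentThree.A5, y ^ 4 ≠ 1 := by decide +kernel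
      obtain ⟨y, hy⟩ := hex3
      exact hy (hex y (h0 ▸ mem_top y))
  obtain ⟨hle, hX⟩ := inv_three b hRQ (fun v hv => hRmem.2 ⟨Vg_le b hv, by
    rw [show m ⟨v, Vg_le b hv⟩ = 1 from (QuotientGroup.eq_one_iff _).2 (mem_subgroupOf.2 hv)]
    exact one_mem N⟩) hR3 (hQN (z_mem b)) hwR
  have hcov : ∀ y ∈ N, ∃ u, ∃ h : b.ψ u ∈ R, y = m ⟨b.ψ u, hRQ h⟩ := by
    intro y hy
    obtain ⟨x, rfl⟩ := QuotientGroup.mk'_surjective _ y
    obtain ⟨v, hv, r, hr, e⟩ := exists_mul_of_mem_sup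
      (fun v hv r hr => (Vg_comm b (hRQ (mem_inf.1 hr).1) hv).symm) (hle (hRmem.2 ⟨x.2, hy⟩))
    obtain ⟨hrR, u, rfl⟩ := mem_inf.1 hr
    refine ⟨u, hrR, ?_⟩
    rw [show x = ⟨v, Vg_le b hv⟩ * ⟨b.ψ u, hRQ hrR⟩ from Subtype.ext e, map_mul,
      show m ⟨v, Vg_le b hv⟩ = 1 from (QuotientGroup.eq_one_iff _).2 (mem_subgroupOf.2 hv), one_mul]
  by_contra hne
  -- otherwise the kernel has order at most four and a non-trivial action
  have hu : ∃ u, b.ψ u ∈ R ∧ u ≠ 1 := by
    by_contra hno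
    push Not at hno
    refine hne ((Subgroup.eq_bot_iff_forall _).2 fun y hy => ?_)
    obtain ⟨u, hu, rfl⟩ := hcov y hy
    rw [show (⟨b.ψ u, hRQ hu⟩ : Q b) = 1 from Subtype.ext ((congrArg b.ψ (hno u hu)).trans (map_one _)), map_one]
  have hcard : Nat.card N ≤ 4 := by
    obtain ⟨P, hPdec, hP, hP4⟩ : ∃ (P : Perm (Fin 5) → Prop) (_ : DecidablePred P),
        (∀ u, b.ψ u ∈ R → P u) ∧ Nat.card {u // P u} ≤ 4 := by
      rcases hX with h | h | h
      · obtain ⟨u, hu, hu1⟩ := hu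
        exact absurd (h u hu) hu1
      · exact ⟨InV, inferInstance, fun u => (h u).1, by rw [Nat.card_eq_fintype_card, card_inV]⟩
      · refine ⟨InW, inferInstance, fun u => (h u).1, le_of_eq ?_⟩
        rw [Nat.card_eq_fintype_card]
        decide +kernel
    choose u hu he using hcov
    refine le_trans (Nat.card_le_card_of_injective
      (fun y : N => (⟨u y.1 y.2, hP _ (hu y.1 y.2)⟩ : {u // P u})) fun y y' hyy => ?_) hP4
    refine Subtype.ext ((he y.1 y.2).trans (Eq.trans ?_ (he y'.1 y'.2).symm))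
    exact congrArg m (Subtype.ext (congrArg b.ψ (congrArg Subtype.val hyy)))
  obtain ⟨u, huR, hu1⟩ := hu
  set θ : QV b →* MulAut N := MulAut.conjNormal with hθ
  set zb : QV b := m ⟨b.ψ c5, z_mem b⟩ with hzb
  have hz : zb ∉ θ.ker := by
    intro hk
    have hy : m ⟨b.ψ u, hRQ huR⟩ ∈ N := (hRmem.1 huR).2
    have h := congrArg (fun a : MulAut N => ((a ⟨_, hy⟩ : N) : QV b)) (MonoidHom.mem_ker.1 hk)
    simp only [hθ, MulAut.conjNormal_apply, MulAut.one_apply] at h
    rw [mul_inv_eq_iff_eq_mul] at h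
    have hsc := sc b
    have hy1 : m ⟨b.ψ u, hRQ huR⟩ = 1 := by
      have hcop : ¬ 3 ∣ Nat.card N := by
        intro hd
        haveI : Fact (Nat.Prime 3) := ⟨Nat.prime_three⟩
        obtain ⟨⟨y, hy⟩, hyo⟩ := exists_prime_orderOf_dvd_card' 3 hd
        rw [Subgroup.orderOf_mk] at hyo
        have := orderOf_dvd_of_pow_eq_one (hN2 y hy)
        rw [hyo] at this
        norm_num at this
      exact hsc.fpf hcop hy h.symm
    obtain ⟨v, hv, he⟩ : ∃ v, InV v ∧ b.φ v = b.ψ u :=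
      mem_subgroupOf.1 ((QuotientGroup.eq_one_iff _).1 hy1)
    have hv1 : v = 1 := inV_fix v hv (b.inj (by
      rw [map_mul, map_mul, he]; exact (comm_w b u).eq.symm))
    rw [hv1, map_one] at he
    exact hu1 (b.ψ_injective (by rw [← he, map_one]))
  have hNk : N ≤ θ.ker := fun y hy => by
    refine MonoidHom.mem_ker.2 (MulEquiv.ext fun x => Subtype.ext ?_)
    rw [hθ, MulAut.conjNormal_apply, MulAut.one_apply]
    haveI := hNc
    have := congrArg Subtype.val (mul_comm' (⟨y, hy⟩ : N) x)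
    simp only [Subgroup.coe_mul] at this
    rw [this, mul_inv_cancel_right]
  rcases ((MonoidHom.normal_ker θ).map g hgsurj).eq_bot_or_eq_top with h0 | h0
  · have hk : θ.ker ≤ N := fun y hy => (hgker y).1 (by
      have := Subgroup.mem_map_of_mem g hy
      rwa [h0, Subgroup.mem_bot] at this)
    have hidx : N.index = 60 := by
      rw [Subgroup.index, Nat.card_congr e.toEquiv, Nat.card_eq_fintype_card]
      decide +kernel
    rw [le_antisymm hNk hk, Subgroup.index_ker] at hidx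
    have h1 : Nat.card θ.range ≤ Nat.card (MulAut N) :=
      Nat.card_le_card_of_injective _ θ.range.subtype_injective
    have h2 : Nat.card (MulAut N) ≤ Nat.card (Perm N) :=
      Nat.card_le_card_of_injective MulEquiv.toEquiv fun a c h => MulEquiv.ext fun x => Equiv.ext_iff.1 h x
    rw [Nat.card_perm] at h2
    have h3 : (Nat.card N).factorial ≤ Nat.factorial 4 := Nat.factorial_le hcard
    have h4' : Nat.factorial 4 = 24 := rfl
    omega
  · obtain ⟨k, hk, he'⟩ : g zb ∈ θ.ker.map g := h0 ▸ mem_top _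
    refine hz ?_
    have : k⁻¹ * zb ∈ N := (hgker _).1 (by rw [map_mul, map_inv, he', inv_mul_cancel])
    have := mul_mem hk (hNk this)
    rwa [mul_inv_cancel_left] at this

/-- The second type: the second component contributes an alternating group. -/
theorem alt_le {f : Q b →* SelfCentThree.A5} (hf : Function.Surjective f)
    (hker : ∀ x : Q b, f x = 1 ↔ (x : G) ∈ Vg b) :
    Q b ≤ Vg b ⊔ b.ψ.range ∧ b.σ = b5 ∧ ∀ y, Perm.sign y = 1 → b.ψ y ∈ Q b := by
  classical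
  haveI hsimple : IsSimpleGroup SelfCentThree.A5 := alternatingGroup.isSimpleGroup (by simp)
  obtain ⟨x, hx1, hx5, hxc⟩ := exists_fixed b f hf hker (p := 5) (n := 24) (by
    rw [Nat.card_eq_fintype_card, ← a5_order_five]
    refine Fintype.card_congr (Equiv.subtypeEquivRight fun y => and_congr Iff.rfl ?_)
    simp only [pow_succ, pow_zero, one_mul]) (by norm_num)
  have hx5' : (x : G) ^ 5 ∈ Vg b := by
    rwa [← map_pow, hker, SubmonoidClass.coe_pow] at hx5
  obtain ⟨n1, n2, n3, -⟩ := not_dvd_of_cases b (Or.inl rfl) x.2 (fun e => hx1 ((hker x).2 e)) hx5'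
  have hxw : Commute (x : G) (b.φ c5) := by
    rcases hxc with h | h | h | h
    exacts [absurd h n1, h, absurd h n2, absurd h n3]
  set T := Q b ⊓ centralizer ({b.φ c5} : Set G) with hT
  have hTQ : T ≤ Q b := inf_le_left
  set fT : T →* SelfCentThree.A5 := f.comp (Subgroup.inclusion hTQ) with hfT
  have hmemT : ∀ {y : G}, y ∈ Q b → Commute y (b.φ c5) → y ∈ T := fun hy h =>
    mem_inf.2 ⟨hy, mem_centralizer_singleton_iff.2 h⟩
  have hzT : b.ψ c5 ∈ T := hmemT (z_mem b) (comm_zw b)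
  have hsT : b.ψ b.σ ∈ T := hmemT (s_mem b) (comm_sw b)
  have hinj : Function.Injective fT := by
    rw [injective_iff_map_eq_one]
    intro y hy
    obtain ⟨v, hv, he⟩ := (hker _).1 hy
    have hc : Commute (y : G) (b.φ c5) := mem_centralizer_singleton_iff.1 (mem_inf.1 y.2).2
    have e : b.φ v = (y : G) := he
    rw [← e] at hc
    refine Subtype.ext ?_
    rw [← e, inV_fix v hv (b.inj (by rw [map_mul, map_mul]; exact hc.eq)), map_one]
    rfl
  have hsurj : Function.Surjective fT := by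
    rw [← MonoidHom.range_eq_top]
    haveI : Fact (Nat.Prime 2) := ⟨Nat.prime_two⟩
    haveI : Fact (Nat.Prime 3) := ⟨Nat.prime_three⟩
    haveI : Fact (Nat.Prime 5) := ⟨by norm_num⟩
    have h5 : 5 ∣ Nat.card fT.range :=
      (dvd_of_eq (orderOf_eq_prime (p := 5) hx5 hx1).symm).trans
        (Subgroup.orderOf_dvd_natCard _ ⟨⟨x, hmemT x.2 hxw⟩, rfl⟩)
    have hz1 : f ⟨b.ψ c5, z_mem b⟩ ≠ 1 := fun h => z_not_Vg b ((hker _).1 h)
    have hs1 : f ⟨b.ψ b.σ, s_mem b⟩ ≠ 1 := fun h => s_not_Vg b ((hker _).1 h)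
    have h3 : 3 ∣ Nat.card fT.range := by
      refine (dvd_of_eq (orderOf_eq_prime (p := 3) (x := f ⟨b.ψ c5, z_mem b⟩) (by
        rw [← map_pow]
        exact (congrArg f (Subtype.ext (by
          rw [SubmonoidClass.coe_pow, pow_succ, pow_two]; exact z_cube b))).trans (map_one f)) hz1).symm).trans ?_
      exact Subgroup.orderOf_dvd_natCard _ ⟨⟨_, hzT⟩, rfl⟩
    have h2 : 2 ∣ Nat.card fT.range := by
      refine (dvd_of_eq (orderOf_eq_prime (p := 2) (x := f ⟨b.ψ b.σ, s_mem b⟩) (by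
        rw [← map_pow]
        exact (congrArg f (Subtype.ext (by
          rw [SubmonoidClass.coe_pow, pow_two]; exact s_sq b))).trans (map_one f)) hs1).symm).trans ?_
      exact Subgroup.orderOf_dvd_natCard _ ⟨⟨_, hsT⟩, rfl⟩
    have h30 : 30 ∣ Nat.card fT.range :=
      Nat.Coprime.mul_dvd_of_dvd_of_dvd (m := 6) (n := 5) (by norm_num)
        (Nat.Coprime.mul_dvd_of_dvd_of_dvd (m := 2) (n := 3) (by norm_num) h2 h3) h5
    have hA : Nat.card SelfCentThree.A5 = 60 := by rw [Nat.card_eq_fintype_card]; decide +kernel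
    have hi := Subgroup.card_mul_index fT.range
    rw [hA] at hi
    have hle := Nat.le_of_dvd Nat.card_pos h30
    have hi0 : fT.range.index ≠ 0 := Subgroup.index_ne_zero_of_finite
    have hi2 : fT.range.index = 1 ∨ fT.range.index = 2 := by
      have : fT.range.index ≤ 2 := by nlinarith
      omega
    rcases hi2 with hi2 | hi2
    · exact Subgroup.index_eq_one.1 hi2
    · rcases (Subgroup.normal_of_index_eq_two hi2).eq_bot_or_eq_top with h | h
      · rw [h, Subgroup.card_bot] at h30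
        norm_num at h30
      · exact h
  let eT : T ≃* SelfCentThree.A5 := MulEquiv.ofBijective fT ⟨hinj, hsurj⟩
  haveI : IsSimpleGroup T := eT.isSimpleGroup
  have hnor : (b.ψ.range.subgroupOf T).Normal := ⟨fun n hn y => by
    obtain ⟨v, hv⟩ := mem_subgroupOf.1 hn
    obtain ⟨a, ha, u, he⟩ := exists_of_comm_w b (mem_centralizer_singleton_iff.1 (mem_inf.1 y.2).2)
    obtain ⟨k, rfl⟩ := mem_zpowers_iff.1 ha
    refine mem_subgroupOf.2 ⟨u * v * u⁻¹, ?_⟩
    rw [Subgroup.coe_mul, Subgroup.coe_mul, Subgroup.coe_inv, he, ← hv]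
    calc b.ψ (u * v * u⁻¹) = b.φ c5 ^ k * b.ψ (u * v * u⁻¹) * (b.φ c5 ^ k)⁻¹ := by
          rw [((comm_w b _).zpow_left k).eq, mul_inv_cancel_right]
      _ = _ := by rw [map_mul, map_mul, map_inv]; group⟩
  have hTψ : T ≤ b.ψ.range := by
    rcases hnor.eq_bot_or_eq_top with h | h
    · exfalso
      have hm : (⟨_, hsT⟩ : T) ∈ b.ψ.range.subgroupOf T := mem_subgroupOf.2 ⟨b.σ, rfl⟩
      rw [h, Subgroup.mem_bot] at hm
      have h1 : b.ψ b.σ = 1 := congrArg Subtype.val hm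
      exact s_not_Vg b (h1.symm ▸ one_mem _)
    · exact Subgroup.subgroupOf_eq_top.1 h
  have hU : T.comap b.ψ = alternatingGroup (Fin 5) := by
    refine Equiv.Perm.eq_alternatingGroup_of_index_eq_two ?_
    have hc : Nat.card (T.comap b.ψ) = 60 := by
      have he : (T.comap b.ψ).map b.ψ = T := by
        rw [map_comap_eq, inf_eq_right.2 hTψ]
      rw [Nat.card_congr ((T.comap b.ψ).equivMapOfInjective _ b.ψ_injective).toEquiv, he,
        Nat.card_congr eT.toEquiv,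
        Nat.card_eq_fintype_card]
      decide +kernel
    have hi := Subgroup.card_mul_index (T.comap b.ψ)
    rw [hc, Nat.card_eq_fintype_card, Fintype.card_perm, Fintype.card_fin,
      show Nat.factorial 5 = 120 from rfl] at hi
    omega
  refine ⟨fun y hy => ?_, ?_, fun y hy => ?_⟩
  · obtain ⟨t, ht⟩ := hsurj (f ⟨y, hy⟩)
    have hv : y * (t : G)⁻¹ ∈ Vg b := (hker (⟨y, hy⟩ * (Subgroup.inclusion hTQ t)⁻¹)).1 (by
      rw [map_mul, map_inv, ← ht]
      exact mul_inv_cancel _)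
    have := mul_mem (mem_sup_left (T := b.ψ.range) hv) (mem_sup_right (S := Vg b) (hTψ t.2))
    rwa [inv_mul_cancel_right] at this
  · have hm : b.σ ∈ alternatingGroup (Fin 5) := hU ▸ hsT
    rw [Perm.mem_alternatingGroup] at hm
    exact b.σ_cases.resolve_left fun h => sign_b5.2 (h ▸ hm)
  · have hm : y ∈ T.comap b.ψ := hU.symm ▸ Perm.mem_alternatingGroup.2 hy
    exact hTQ hm

theorem isExc_of_alt (hσ : b.σ = b5) (h : ∀ y, Perm.sign y = 1 → b.ψ y ∈ Q b) : b.IsExc := by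
  refine ⟨hσ, fun x y hx hy => ?_⟩
  have hV : ∀ v, InV v → ∀ y, Perm.sign y = 1 → Commute (b.φ v) (b.ψ y) := fun v hv y hy =>
    ((mem_Q b).1 (h y hy) v hv).symm
  have hW : ∀ v, InW v → Commute (b.φ v) (b.ψ y) := by
    intro v hv
    have hs : Perm.sign (r5 * y * r5) = 1 := by
      rw [Perm.sign_mul, Perm.sign_mul, hy, mul_one, ← Perm.sign_mul,
        c5_facts.2.2.2.2.2.2.2.2.2, map_one]
    have h1 := Commute.map (hV _ hv _ hs) (MulAut.conj (b.φ r5))
    have hr := c5_facts.2.2.2.2.2.2.2.2.2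
    have e : ∀ {f : Perm (Fin 5) →* G}, f r5 = b.φ r5 → ∀ a,
        MulAut.conj (b.φ r5) (f (r5 * a * r5)) = f a := by
      intro f hf a
      rw [MulAut.conj_apply, ← hf, ← map_inv, ← map_mul, ← map_mul]
      congr 1
      rw [inv_eq_of_mul_eq_one_right hr]
      calc r5 * (r5 * a * r5) * r5 = (r5 * r5) * a * (r5 * r5) := by group
        _ = a := by rw [hr, one_mul, mul_one]
    rwa [e rfl, e b.ψ_r] at h1
  obtain ⟨a, c, a', i, rfl⟩ := alt_words x hx
  rw [map_mul, map_mul, map_mul, map_pow]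
  exact (((hV _ a.2 y hy).mul_left (hW _ c.2)).mul_left (hV _ a'.2 y hy)).mul_left
    ((comm_w b y).pow_left _)

/-- The data with `g` multiplied by `φ r5`. -/
def flip : Base G where
  φ := b.φ
  inj := b.inj
  g := b.g * b.φ r5
  σ := b.σ
  σ_cases := b.σ_cases
  g_range := by
    have hr : b.φ r5 ∈ b.φ.range := ⟨r5, rfl⟩
    have hrψ : b.φ r5 ∈ b.ψ.range := ⟨r5, b.ψ_r⟩
    have h1 : b.φ.range.map (MulAut.conj (b.g * b.φ r5)).toMonoidHom =
        b.φ.range.map (MulAut.conj b.g).toMonoidHom := by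
      have e : b.φ.range.map (MulAut.conj (b.φ r5)).toMonoidHom = b.φ.range :=
        mem_normalizer_iff_map_conj_eq.1 (Subgroup.le_normalizer hr)
      conv_rhs => rw [← e]
      rw [Subgroup.map_map]
      congr 1
      ext x
      simp [mul_assoc]
    have h2 : b.φ.range.map (MulAut.conj (b.g * b.φ r5)⁻¹).toMonoidHom = b.ψ.range := by
      have e : b.ψ.range.map (MulAut.conj (b.φ r5)⁻¹).toMonoidHom = b.ψ.range :=
        mem_normalizer_iff_map_conj_eq.1 (Subgroup.le_normalizer (inv_mem hrψ))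
      conv_rhs => rw [← e, Base.ψ_range]
      rw [Subgroup.map_map]
      congr 1
      ext x
      simp [mul_assoc]
    rw [h1, h2, b.g_range, Base.ψ_range]
  g_r := by
    calc (b.g * b.φ r5)⁻¹ * b.φ r5 * (b.g * b.φ r5)
        = (b.φ r5)⁻¹ * (b.g⁻¹ * b.φ r5 * b.g) * b.φ r5 := by group
      _ = b.φ r5 := by rw [b.g_r, inv_mul_cancel, one_mul]
  comm_c := fun x => by rw [flip_eq (b := b) c5 c5_facts.2.2.1]; exact b.ψc_comm x
  comm_σ := fun x => by rw [flip_eq (b := b) b.σ (σ_r b)]; exact b.ψσ_comm x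
  c_not_mem := by rw [flip_eq (b := b) c5 c5_facts.2.2.1]; exact z_not_mem b
  centz := by
    rw [flip_eq (b := b) c5 c5_facts.2.2.1, ← conj_c]
    exact b.centz
  normz := by
    rw [flip_eq (b := b) c5 c5_facts.2.2.1, flip_eq (b := b) b.σ (σ_r b), ← conj_c, ← conj_σ]
    exact b.normz
  card_y := by rw [flip_eq (b := b) c5 c5_facts.2.2.1, ← conj_c]; exact b.card_y
  sq_y := by rw [flip_eq (b := b) c5 c5_facts.2.2.1, ← conj_c]; exact b.sq_y
  not_dvd := b.not_dvd
where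
  flip_eq {b : Base G} (x : Perm (Fin 5)) (hx : x * r5 = r5 * x) :
      (b.g * b.φ r5)⁻¹ * b.φ x * (b.g * b.φ r5) = b.ψ x := by
    calc (b.g * b.φ r5)⁻¹ * b.φ x * (b.g * b.φ r5)
        = (b.φ r5)⁻¹ * (b.g⁻¹ * b.φ x * b.g) * b.φ r5 := by group
      _ = (b.ψ r5)⁻¹ * b.ψ x * b.ψ r5 := by rw [← Base.ψ_apply, b.ψ_r]
      _ = b.ψ x := by rw [mul_assoc, ← map_mul, hx, map_mul, inv_mul_cancel_left]
  σ_r (b : Base G) : b.σ * r5 = r5 * b.σ := by
    rcases b.σ_cases with h | h <;> rw [h]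
    exacts [c5_facts.2.2.2.2.2.2.2.1, c5_facts.2.2.2.2.2.2.2.2.1]

theorem flip_ψ (y : Perm (Fin 5)) : (flip b).ψ y = b.ψ (r5 * y * r5) := by
  have hr := c5_facts.2.2.2.2.2.2.2.2.2
  rw [map_mul, map_mul, b.ψ_r, Base.ψ_apply, Base.ψ_apply]
  show (b.g * b.φ r5)⁻¹ * b.φ y * (b.g * b.φ r5) = b.φ r5 * (b.g⁻¹ * b.φ y * b.g) * b.φ r5
  have e : (b.φ r5)⁻¹ = b.φ r5 := inv_eq_of_mul_eq_one_right (by rw [← map_mul, hr, map_one])
  rw [mul_inv_rev, e]
  group

/-- The three possibilities, together with the position of the centraliser. -/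
theorem cases_four : Q b ≤ b.φ.range ⊔ b.ψ.range ∧ ((∃ b' : Base G, b'.IsSym) ∨ b.IsExc ∨
    Q b ≤ Subgroup.closure (b.φ '' fourSet 4 ∪ {b.ψ c5, b.ψ b.σ})) := by
  have hVφ : Vg b ≤ b.φ.range := map_le_range _ _
  rcases SelfCentThree.SC.concl (sc b) with hI | hII | hL
  · obtain ⟨R, hRQ, hVR, hR3, hz, hw, hs, hQ⟩ := typeI b hI
    obtain ⟨hle, hX⟩ := inv_three b hRQ hVR hR3 hz hw
    set H := Subgroup.closure ({b.ψ c5, b.ψ b.σ} : Set G) with hH
    have hHψ : H ≤ b.ψ.range := by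
      rw [hH, closure_le]
      rintro _ (rfl | rfl)
      exacts [⟨_, rfl⟩, ⟨_, rfl⟩]
    refine ⟨hQ.trans (sup_le (hle.trans (sup_le (hVφ.trans le_sup_left)
      (inf_le_right.trans le_sup_right))) (hHψ.trans le_sup_right)), ?_⟩
    have hcomm : ∀ u, b.ψ u ∈ R → ∀ v, InV v → Commute (b.φ v) (b.ψ u) := fun u hu v hv =>
      ((mem_Q b).1 (hRQ hu) v hv).symm
    have hsu : ∀ u, b.ψ u ∈ R → b.ψ (b.σ * u * b.σ) ∈ R := by
      intro u hu
      have := conj_mem_of_mem_normalizer hs hu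
      rwa [inv_eq_of_mul_eq_one_right (s_sq b), ← map_mul, ← map_mul] at this
    have hW1 : InW (r5 * v1 * r5) ∧ r5 * v1 * r5 ≠ 1 := by decide +kernel
    rcases hX with h | h | h
    · refine Or.inr (Or.inr (hQ.trans (sup_le (hle.trans (sup_le ?_ ?_)) ?_)))
      · rintro _ ⟨v, hv, rfl⟩
        exact Subgroup.subset_closure (Or.inl ⟨v, (mem_four4 v).2 hv, rfl⟩)
      · intro x hx
        obtain ⟨hxR, u, rfl⟩ := mem_inf.1 hx
        rw [h u hxR, map_one]
        exact one_mem _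
      · exact Subgroup.closure_mono Set.subset_union_right
    · have hσ : b.σ = a5 := b.σ_cases.resolve_right fun e => by
        have h' := (h _).1 (hsu v1 ((h v1).2 inV_v.1))
        rw [e] at h'
        exact (b5_swaps v1 (Or.inl inV_v.1) inV_v.2.2).1 ⟨inV_v.1, h'⟩
      refine Or.inl ⟨flip b, hσ, fun x hx y hy => ?_⟩
      rw [flip_ψ]
      exact hcomm _ ((h _).2 ((mem_four3 y).1 hy)) x ((mem_four4 x).1 hx)
    · have hσ : b.σ = a5 := b.σ_cases.resolve_right fun e => by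
        have h' := (h _).1 (hsu _ ((h _).2 hW1.1))
        rw [e] at h'
        exact (b5_swaps _ (Or.inr hW1.1) hW1.2).2 ⟨hW1.1, h'⟩
      exact Or.inl ⟨b, hσ, fun x hx y hy =>
        hcomm y ((h y).2 ((mem_four3 y).1 hy)) x ((mem_four4 x).1 hx)⟩
  · obtain ⟨f, hf, hker⟩ := typeII b hII
    obtain ⟨hle, hσ, halt⟩ := alt_le b hf hker
    exact ⟨hle.trans (sup_le (hVφ.trans le_sup_left) le_sup_right),
      Or.inr (Or.inl (isExc_of_alt b hσ halt))⟩
  · exact absurd hL (not_seven b)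

end Tri

variable {G : Type u} [Group G]

/-- The centralisers of the four-groups fixing `3` and `4` lie in the join of the components. -/
theorem Base.centralizer_four_le [Finite G] (b : Base G) : ∀ k, (k = 3 ∨ k = 4) →
    Subgroup.centralizer (b.φ '' fourSet k) ≤ b.φ.range ⊔ b.ψ.range := by
  have h4 : Subgroup.centralizer (b.φ '' fourSet 4) ≤ b.φ.range ⊔ b.ψ.range := (Tri.cases_four b).1
  rintro k (rfl | rfl)
  · intro x hx
    have hr : b.φ r5 * b.φ r5 = 1 := by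
      rw [← map_mul, Tri.c5_facts.2.2.2.2.2.2.2.2.2, map_one]
    have hrm : b.φ r5 ∈ b.φ.range ⊔ b.ψ.range := mem_sup_left ⟨r5, rfl⟩
    have hx' : b.φ r5 * x * (b.φ r5)⁻¹ ∈ Subgroup.centralizer (b.φ '' fourSet 4) := by
      rw [Subgroup.mem_centralizer_iff]
      rintro _ ⟨v, hv, rfl⟩
      have hv' : r5 * v * r5 ∈ fourSet 3 := by
        refine (Tri.mem_four3 _).2 ?_
        show Tri.InV (r5 * (r5 * v * r5) * r5)
        rw [show r5 * (r5 * v * r5) * r5 = (r5 * r5) * v * (r5 * r5) by group,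
          Tri.c5_facts.2.2.2.2.2.2.2.2.2, one_mul, mul_one]
        exact (Tri.mem_four4 v).1 hv
      have hc : Commute (b.φ (r5 * v * r5)) x :=
        Subgroup.mem_centralizer_iff.1 hx _ ⟨_, hv', rfl⟩
      have := Commute.map hc (MulAut.conj (b.φ r5))
      rw [MulAut.conj_apply, MulAut.conj_apply, map_mul, map_mul, inv_eq_of_mul_eq_one_right hr,
        show b.φ r5 * (b.φ r5 * b.φ v * b.φ r5) * b.φ r5 = (b.φ r5 * b.φ r5) * b.φ v * (b.φ r5 * b.φ r5)
          by group, hr, one_mul, mul_one] at this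
      rw [inv_eq_of_mul_eq_one_right hr]
      exact this.eq
    have := mul_mem (mul_mem (inv_mem hrm) (h4 hx')) hrm
    rwa [show (b.φ r5)⁻¹ * (b.φ r5 * x * (b.φ r5)⁻¹) * b.φ r5 = x by group] at this
  · exact h4

/-- The symmetric case, the exceptional case, or the centraliser of the four-group has order 24. -/
theorem Base.tri [Finite G] (b : Base G) : (∃ b' : Base G, b'.IsSym) ∨ b.IsExc ∨
    Subgroup.centralizer (b.φ '' fourSet 4) ≤
      Subgroup.closure (b.φ '' fourSet 4 ∪ {b.ψ c5, b.ψ b.σ}) :=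
  (Tri.cases_four b).2

end CfsgLib.SymEightThree
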