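import Cfsg.Agent.Lib.SymEightThree.Base
import Cfsg.Agent.Lib.SelfCentThree.Models

/-!
Model facts for the centraliser of a four-group of the first component.
-/

set_option autoImplicit false
set_option maxRecDepth 20000
set_option synthInstance.maxSize 2000
set_option synthInstance.maxHeartbeats 200000

namespace CfsgLib.SymEightThree.Tri

open Equiv

/-- `(0 1)(2 3)` -/
def v1 : Perm (Fin 5) := swap 0 1 * swap 2 3
/-- `(0 2)(1 3)` -/
def v2 : Perm (Fin 5) := swap 0 2 * swap 1 3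

/-- One of the four elements of the four-group fixing the last point. -/
def InV (x : Perm (Fin 5)) : Prop := x = 1 ∨ x = v1 ∨ x = v2 ∨ x = v1 * v2

instance : DecidablePred InV := fun x => inferInstanceAs (Decidable (_ ∨ _))

/-- One of the four elements of the four-group fixing the point `3`. -/
def InW (x : Perm (Fin 5)) : Prop := InV (r5 * x * r5)

instance : DecidablePred InW := fun x => inferInstanceAs (Decidable (InV _))

theorem mem_four4 : ∀ x : Perm (Fin 5), x ^ 2 = 1 ∧ Perm.sign x = 1 ∧ x 4 = 4 ↔ InV x := by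
  decide +kernel

theorem mem_four3 : ∀ x : Perm (Fin 5), x ^ 2 = 1 ∧ Perm.sign x = 1 ∧ x 3 = 3 ↔ InW x := by
  decide +kernel

theorem inV_mul : ∀ a : Perm (Fin 5), InV a → ∀ b : Perm (Fin 5), InV b → InV (a * b) := by
  decide +kernel

theorem inV_inv : ∀ a : Perm (Fin 5), InV a → a⁻¹ = a := by decide +kernel

theorem inV_sq : ∀ a : Perm (Fin 5), InV a → a * a = 1 := by decide +kernel

theorem inV_v : InV v1 ∧ InV v2 ∧ v1 ≠ 1 := by decide +kernel

theorem inV_of_comm : ∀ x : Perm (Fin 5), x * v1 = v1 * x → x * v2 = v2 * x → InV x := by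
  decide +kernel

theorem card_inV : Fintype.card {x : Perm (Fin 5) // InV x} = 4 := by decide +kernel

theorem inV_fix : ∀ x : Perm (Fin 5), InV x → x * c5 = c5 * x → x = 1 := by decide +kernel

theorem inV_conj_c : ∀ x : Perm (Fin 5), InV x → InV (c5 * x * c5⁻¹) := by decide +kernel

theorem eq_c_of_comm_r : ∀ u : Perm (Fin 5), u * u * u = 1 → u ≠ 1 → u * r5 = r5 * u →
    u = c5 ∨ u = c5⁻¹ := by
  decide +kernel

theorem c5_facts : c5 * c5 * c5 = 1 ∧ c5 ≠ 1 ∧ c5 * r5 = r5 * c5 ∧ a5 * c5 * a5 = c5⁻¹ ∧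
    a5 * a5 = 1 ∧ b5 * c5 * b5 = c5⁻¹ ∧ b5 * b5 = 1 ∧ a5 * r5 = r5 * a5 ∧ b5 * r5 = r5 * b5 ∧
    r5 * r5 = 1 := by
  decide +kernel

/-- A non-trivial element with a power of order three, or centralised by the three-cycle. -/
def Bad (y : Perm (Fin 5)) : Prop :=
  y ≠ 1 ∧ (y ^ 3 = 1 ∨ y * c5 = c5 * y ∨ (y ^ 6 = 1 ∧ y ^ 2 ≠ 1))

instance : DecidablePred Bad := fun y => inferInstanceAs (Decidable (_ ∧ _))

/-- Conjugation by the three-cycle. -/
def rot (x : Perm (Fin 5)) : Perm (Fin 5) := c5 * x * c5⁻¹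

theorem words : ∀ x : Perm (Fin 5), ¬ Bad x → ¬ Bad (x * rot x) → ¬ Bad (x * x * rot x) →
    ¬ Bad (x * rot x * x * rot (rot x)) → InV x ∨ InW x := by
  decide +kernel

theorem orbit_V : ∀ x : Perm (Fin 5), InV x → x ≠ 1 → ∀ y : Perm (Fin 5), InV y →
    y = 1 ∨ y = x ∨ y = rot x ∨ y = rot (rot x) := by
  decide +kernel

theorem orbit_W : ∀ x : Perm (Fin 5), InW x → x ≠ 1 → ∀ y : Perm (Fin 5), InW y →
    y = 1 ∨ y = x ∨ y = rot x ∨ y = rot (rot x) := by
  decide +kernel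

theorem not_both : ∀ x : Perm (Fin 5), InV x → InW x → x = 1 := by decide +kernel

theorem b5_swaps : ∀ x : Perm (Fin 5), (InV x ∨ InW x) → x ≠ 1 →
    ¬ (InV x ∧ InV (b5 * x * b5)) ∧ ¬ (InW x ∧ InW (b5 * x * b5)) := by
  decide +kernel

theorem sign_b5 : Perm.sign b5 = 1 ∧ Perm.sign a5 ≠ 1 := by decide +kernel

theorem alt_words : ∀ x : Perm (Fin 5), Perm.sign x = 1 →
    ∃ a : {a // InV a}, ∃ b : {b // InW b}, ∃ a' : {a // InV a}, ∃ i : Fin 3,
      x = (a : Perm (Fin 5)) * b * a' * c5 ^ (i : ℕ) := by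
  decide +kernel

theorem inW_iff : ∀ x : Perm (Fin 5), InW x ↔ InV (r5 * x * r5) := fun _ => Iff.rfl

theorem inW_sq : ∀ a : Perm (Fin 5), InW a → a * a = 1 := by decide +kernel

theorem inW_mul : ∀ a : Perm (Fin 5), InW a → ∀ b : Perm (Fin 5), InW b → InW (a * b) := by
  decide +kernel

theorem sign_inV : ∀ x : Perm (Fin 5), InV x → Perm.sign x = 1 := by decide +kernel

theorem s3_center : ∀ a : Perm (Fin 3), a * a * a = 1 → a ≠ 1 → ∀ t : Perm (Fin 3), t * t = 1 →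
    (a * t * a⁻¹ * t⁻¹) * (a * t * a⁻¹ * t⁻¹) = 1 → t = 1 := by
  decide +kernel

theorem a5_order_five :
    Fintype.card {x : alternatingGroup (Fin 5) // x ≠ 1 ∧ x * x * x * x * x = 1} = 24 := by
  decide +kernel

/-- The preimages of the elements of order seven. -/
def SevenSL (A : Matrix.SpecialLinearGroup (Fin 2) (ZMod 7)) : Prop :=
  ¬ (A.1 0 1 = 0 ∧ A.1 1 0 = 0 ∧ A.1 0 0 = A.1 1 1) ∧
    let B := A * A * A * A * A * A * A
    (B.1 0 1 = 0 ∧ B.1 1 0 = 0 ∧ B.1 0 0 = B.1 1 1)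

instance : DecidablePred SevenSL := fun _ => inferInstanceAs (Decidable (_ ∧ _))

theorem sl_order_seven :
    Fintype.card {A : Matrix.SpecialLinearGroup (Fin 2) (ZMod 7) // SevenSL A} = 96 := by
  decide +kernel

end CfsgLib.SymEightThree.Tri
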